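import Groth.Agent.RefX.Tensor

/-!
# Duals of modules with frames; reflexive hulls of rank one
-/

universe u

set_option backward.isDefEq.respectTransparency false
set_option backward.isDefEq.respectTransparency.types false
set_option linter.style.haveILetI false

open CategoryTheory AlgebraicGeometry TopologicalSpace Opposite IsLocalRing

namespace Groth.Agent.RefX

variable {X : Scheme.{u}} {F : X.Modules} {U : X.Opens} {e : Γ(F, U)}

/-- The coordinate form of a frame on a stalk. -/
noncomputable def coordAt (he : InvX.IsFrame e) (y : U) : RefHull.StalkHom F (Coh.structureModule X) y.1 :=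
  (unitStalk y.1).toLinearMap.comp
    (LinearEquiv.ofBijective (LinearMap.toSpanSingleton (X.presheaf.stalk y.1) _ (F.presheaf.germ U y.1 y.2 e))
      (he.germ_bijective y.2)).symm.toLinearMap

theorem coordAt_smul (he : InvX.IsFrame e) (y : U) (a : X.presheaf.stalk y.1) :
    coordAt he y (a • F.presheaf.germ U y.1 y.2 e) = unitStalk y.1 a :=
  congrArg (unitStalk y.1) (LinearEquiv.ofBijective_symm_apply_apply
    (LinearMap.toSpanSingleton (X.presheaf.stalk y.1) _ (F.presheaf.germ U y.1 y.2 e)) a)

theorem coordAt_germ (he : InvX.IsFrame e) (y : U) :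
    coordAt he y (F.presheaf.germ U y.1 y.2 e) = unitStalk y.1 1 := by
  conv_lhs => arg 2; rw [← one_smul (X.presheaf.stalk y.1) (F.presheaf.germ U y.1 y.2 e)]
  exact coordAt_smul he y 1

theorem isLocSect_coord (he : InvX.IsFrame e) :
    RefHull.IsLocSect F (Coh.structureModule X) (fun y : U => coordAt he y) := by
  intro V i m x
  obtain ⟨r, hr⟩ := he.exists_coord i.le m
  refine ⟨V, x.2, 𝟙 V, r, fun y => ?_⟩
  show coordAt he ⟨y.1, i.le y.2⟩ (F.presheaf.germ V y.1 y.2 m) = _
  rw [hr, QCoh.germ_smul', germ_frame_res, coordAt_smul]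
  refine (unitStalk y.1).symm.injective ?_
  rw [LinearEquiv.symm_apply_apply, unitStalk_symm_germ]

/-- The dual of a frame. -/
noncomputable def dualFrame (he : InvX.IsFrame e) : Γ(RefHull.dual F, U) :=
  ⟨fun y => coordAt he y, isLocSect_coord he⟩

variable [IsLocallyNoetherian X]

theorem isFrame_dualFrame (hF : Coh.IsCoh F) (he : InvX.IsFrame e) : InvX.IsFrame (dualFrame he) := by
  refine InvX.isFrame_of_germ fun y hy => ?_
  have hb := evalStalk_bijective (G := Coh.structureModule X) (QCoh.isCoh_iff_isFP.1 hF) y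
  have h1 : ∀ c : X.presheaf.stalk y, RefHull.evalStalk F (Coh.structureModule X) y
      (c • (RefHull.dual F).presheaf.germ U y hy (dualFrame he)) = c • coordAt he ⟨y, hy⟩ := fun c => by
    rw [map_smul, RefHull.evalStalk_germ]
    rfl
  constructor
  · intro a b hab
    have h2 := congrArg (fun θ => RefHull.evalStalk F (Coh.structureModule X) y θ (F.presheaf.germ U y hy e)) hab
    simp only [h1, LinearMap.smul_apply, coordAt_germ he ⟨y, hy⟩, ← map_smul, smul_eq_mul, mul_one] at h2
    exact (unitStalk y).injective h2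
  · intro θ
    refine ⟨(unitStalk y).symm (RefHull.evalStalk F (Coh.structureModule X) y θ (F.presheaf.germ U y hy e)), hb.1 ?_⟩
    rw [h1]
    refine LinearMap.ext fun w => ?_
    obtain ⟨a, rfl⟩ := (he.germ_bijective hy).2 w
    rw [LinearMap.smul_apply, map_smul, map_smul, smul_comm, coordAt_germ he ⟨y, hy⟩, ← map_smul,
      smul_eq_mul, mul_one, LinearEquiv.apply_symm_apply]

variable [IsIntegral X]

theorem hasFrames_dual (hF : Coh.IsCoh F) (h : HasFrames F) : HasFrames (RefHull.dual F) := fun x hx => by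
  obtain ⟨U, hU, e, he⟩ := h x hx
  exact ⟨U, hU, _, isFrame_dualFrame hF he⟩

theorem pairη_dualFrame (he : InvX.IsFrame e) (hη : genericPoint X ∈ U) :
    pairη F ((RefHull.dual F).presheaf.germ U _ hη (dualFrame he)) (F.presheaf.germ U _ hη e) = 1 := by
  unfold pairη
  rw [RefHull.evalStalk_germ]
  show (unitStalk _).symm (coordAt he ⟨_, hη⟩ _) = 1
  rw [coordAt_germ he ⟨_, hη⟩, LinearEquiv.symm_apply_apply]

/-- The dual rational section has the opposite orders. -/
theorem exists_dual_section (hF : Coh.IsCoh F) (h : HasFrames F) {v : F.presheaf.stalk (genericPoint X)} (hv : v ≠ 0) :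
    ∃ w : (RefHull.dual F).presheaf.stalk (genericPoint X), w ≠ 0 ∧ ∀ x : X, Order.coheight x = 1 →
      Cyc.secOrdAt (RefHull.dual F) (genericPoint X) x (specializes_genericPoint x) (clsη _ w) =
        - Cyc.secOrdAt F (genericPoint X) x (specializes_genericPoint x) (clsη F v) := by
  obtain ⟨U₀, hU₀, e₀, he₀⟩ := h (genericPoint X) (by rw [coheight_genericPoint]; exact zero_le)
  obtain ⟨φ₀, rfl⟩ := exists_coord_generic he₀ hU₀ v
  have hφ₀ : (show X.functionField from φ₀) ≠ 0 := fun h => hv (by rw [show φ₀ = 0 from h, zero_smul])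
  let w := (show X.presheaf.stalk (genericPoint X) from (show X.functionField from φ₀)⁻¹) •
    (RefHull.dual F).presheaf.germ U₀ _ hU₀ (dualFrame he₀)
  have hw : pairη F w (φ₀ • F.presheaf.germ U₀ _ hU₀ e₀) = 1 := by
    rw [pairη_smul_left, pairη_smul_right, pairη_dualFrame, mul_one]
    exact inv_mul_cancel₀ hφ₀
  refine ⟨w, fun h0 => ?_, fun x hx => ?_⟩
  · rcases smul_eq_zero_generic h0 with h1 | h1
    · exact inv_ne_zero hφ₀ h1
    · exact germ_frame_ne_zero (isFrame_dualFrame hF he₀) hU₀ h1
  obtain ⟨U, hU, e, he⟩ := h x hx.le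
  have hη := (specializes_genericPoint x).mem_open U.2 hU
  obtain ⟨φ, hφ⟩ := exists_coord_generic he hη (φ₀ • F.presheaf.germ U₀ _ hU₀ e₀)
  obtain ⟨ψ, hψ⟩ := exists_coord_generic (isFrame_dualFrame hF he) hη w
  rw [hφ] at hw hv ⊢
  rw [hψ] at hw ⊢
  rw [pairη_smul_left, pairη_smul_right, pairη_dualFrame, mul_one] at hw
  have hφ0 : (show X.functionField from φ) ≠ 0 := fun h => hv (by rw [show φ = 0 from h, zero_smul])
  have hψ0 : (show X.functionField from ψ) ≠ 0 := fun h => one_ne_zero (α := X.functionField) (by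
    rw [← hw]
    show (show X.functionField from ψ) * _ = 0
    rw [h, zero_mul])
  refine (secOrd_frame (isFrame_dualFrame hF he) hU hx hψ0).trans ?_
  rw [show Cyc.secOrdAt F (genericPoint X) x (specializes_genericPoint x)
    (clsη F (φ • F.presheaf.germ U (genericPoint X) hη e)) = _ from secOrd_frame he hU hx hφ0]
  have h2 := Scheme.ord_mul (x := x) hψ0 hφ0
  have h3 := Scheme.ord_mul (x := x) (one_ne_zero (α := X.functionField)) one_ne_zero
  rw [mul_one] at h3
  rw [show (show X.functionField from ψ) * (show X.functionField from φ) = 1 from hw] at h2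
  linarith

/-- The hull of a module with frames in codimension one is reflexive of rank one. -/
theorem isRef1_ddual (hF : Coh.IsCoh F) (h : HasFrames F) : RefHull.IsRef1 (RefHull.ddual F) := by
  refine ⟨isCoh_dual (isCoh_dual hF), (isReflexive_iff (isCoh_dual (isCoh_dual hF))).2
    fun x => isReflexiveAt_dual (isCoh_dual hF) x, ?_⟩
  obtain ⟨U, hU, e, he⟩ := h (genericPoint X) (by rw [coheight_genericPoint]; exact zero_le)
  obtain ⟨ι⟩ := InvX.nonempty_iso_of_isFrame (bidual_frame hF he)
  refine ⟨U, U.2.dense ⟨_, hU⟩, fun y => ⟨⊤, trivial, ⟨?_⟩⟩⟩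
  exact (Scheme.Modules.restrictFunctor _).mapIso ι ≪≫ Scheme.Modules.restrictUnitIso _

end Groth.Agent.RefX
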