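import Groth.Agent.RefX.Reflexive
import Groth.Agent.Hartogs.Basic

/-!
# Sections of duals and of reflexive modules extend across small closed subsets
-/

universe u

set_option backward.isDefEq.respectTransparency false
set_option backward.isDefEq.respectTransparency.types false
set_option linter.style.haveILetI false

open CategoryTheory AlgebraicGeometry TopologicalSpace Opposite

namespace Groth.Agent.RefX

variable {X : Scheme.{u}} {F G : X.Modules} (U : X.Opens)

/-- Sections of `M` extend uniquely from `W ⊓ U` to `W`, for all `W`. -/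
def ExtendsAcross (M : X.Modules) : Prop :=
  ∀ W : X.Opens, Function.Bijective (AModX.res M (inf_le_left : W ⊓ U ≤ W))

variable {U}

theorem extendsAcross_of_affine (M : X.Modules)
    (h : ∀ V : X.Opens, IsAffineOpen V → Function.Bijective (AModX.res M (inf_le_left : V ⊓ U ≤ V))) :
    ExtendsAcross U M := by
  have hinj : ∀ W : X.Opens, Function.Injective (AModX.res M (inf_le_left : W ⊓ U ≤ W)) := by
    intro W s t hst
    refine AModX.eq_of_locally _ _ fun p hp => ?_
    obtain ⟨_, ⟨V, hV, rfl⟩, hpV, hVW⟩ := X.isBasis_affineOpens.exists_subset_of_mem_open hp W.isOpen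
    replace hVW : V ≤ W := hVW
    refine ⟨V, hVW, hpV, (h V hV).1 ?_⟩
    have := congrArg (AModX.res M (inf_le_inf_right U hVW)) hst
    simpa only [AModX.res_res] using this
  intro W
  refine ⟨hinj W, fun s => ?_⟩
  have hx : ∀ p : W, ∃ V : X.Opens, IsAffineOpen V ∧ p.1 ∈ V ∧ V ≤ W := fun p => by
    obtain ⟨_, ⟨V, hV, rfl⟩, hpV, hVW⟩ := X.isBasis_affineOpens.exists_subset_of_mem_open p.2 W.isOpen
    exact ⟨V, hV, hpV, hVW⟩
  choose V hV hpV hVW using hx
  choose g hg using fun p => (h (V p) (hV p)).2 (AModX.res M (inf_le_inf_right U (hVW p)) s)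
  obtain ⟨t, ht, -⟩ := AModX.existsUnique_glue (M := M) (V := W) V hVW (fun p hp => ⟨⟨p, hp⟩, hpV ⟨p, hp⟩⟩) g
    fun a b => by
      refine hinj _ ?_
      have h1 := congrArg (AModX.res M (inf_le_inf_right U (inf_le_left : V a ⊓ V b ≤ V a))) (hg a)
      have h2 := congrArg (AModX.res M (inf_le_inf_right U (inf_le_right : V a ⊓ V b ≤ V b))) (hg b)
      rw [AModX.res_res, AModX.res_res] at h1 h2
      rw [AModX.res_res, AModX.res_res]
      exact h1.trans h2.symm
  refine ⟨t, AModX.eq_of_locally _ _ fun p hp => ⟨V ⟨p, hp.1⟩ ⊓ U, inf_le_inf_right U (hVW _), ⟨hpV _, hp.2⟩, ?_⟩⟩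
  have h1 := congrArg (AModX.res M (inf_le_left : V ⟨p, hp.1⟩ ⊓ U ≤ _)) (ht ⟨p, hp.1⟩)
  rw [hg, AModX.res_res] at h1
  rw [AModX.res_res]
  exact h1

/-- The sheaf Hom into a module whose sections extend has the same property. -/
theorem extendsAcross_homSh (hF : Coh.IsQCoh F) (hG : ExtendsAcross U G) :
    ExtendsAcross U (RefHull.homSh F G) := by
  refine extendsAcross_of_affine _ fun V hV => ⟨fun g g' h => ?_, fun g => ?_⟩
  · refine toLin_injective hF hV g g' fun m => (hG V).1 ?_
    rw [res_app, res_app]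
    refine ZClosLib.section_ext G _ _ fun y hy => ?_
    rw [germ_app, germ_app]
    have h1 := congrArg (fun z : Γ(RefHull.homSh F G, V ⊓ U) => z.1 ⟨y, hy⟩) h
    exact LinearMap.congr_fun h1 _
  · choose ext hext using (hG V).2
    have hsm : ∀ (r : Γ(X, V)) (m : Γ(F, V)), ext (app le_rfl g (AModX.res F (inf_le_left : V ⊓ U ≤ V) (r • m))) =
        AModX.resR (le_refl V) r • ext (app le_rfl g (AModX.res F inf_le_left m)) := fun r m => (hG V).1 (by
      rw [AModX.resR_self, hext, AModX.res_smul, AModX.res_smul, hext, app_smul])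
    let θ : letI := resModule G (le_refl V); Γ(F, V) →ₗ[Γ(X, V)] Γ(G, V) :=
      letI := resModule G (le_refl V)
      { toFun := fun m => ext (app le_rfl g (AModX.res F inf_le_left m))
        map_add' := fun a b => (hG V).1 (by rw [map_add (AModX.res G _), hext, hext, hext, map_add, app_add])
        map_smul' := hsm }
    refine ⟨ofLin hF hV le_rfl θ, sect_ext_affine hF hV inf_le_left fun y m => ?_⟩
    rw [res_val, ofLin_germ hF hV le_rfl θ y.2.1 m]
    have h1 := congrArg (G.presheaf.germ (V ⊓ U) y.1 y.2) (hext (app le_rfl g (AModX.res F inf_le_left m)))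
    rw [germ_res, germ_app, germ_res] at h1
    exact h1

theorem ExtendsAcross.of_iso {M N : X.Modules} (e : M ≅ N) (hM : ExtendsAcross U M) : ExtendsAcross U N := by
  intro W
  have hb : ∀ O, Function.Bijective (e.hom.app O) := fun O =>
    (ConcreteCategory.isIso_iff_bijective _).1 (Scheme.Modules.Hom.isIso_iff_isIso_app.1 inferInstance O)
  refine (Function.Bijective.of_comp_iff (AModX.res N (inf_le_left : W ⊓ U ≤ W)) (hb W)).1 ?_
  have h1 : (AModX.res N (inf_le_left : W ⊓ U ≤ W)) ∘ (e.hom.app W : Γ(M, W) → Γ(N, W)) =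
      (e.hom.app (W ⊓ U) : Γ(M, W ⊓ U) → Γ(N, W ⊓ U)) ∘ AModX.res M (inf_le_left : W ⊓ U ≤ W) :=
    funext fun m => (AModX.app_res e.hom inf_le_left m).symm
  rw [h1]
  exact (hb _).comp (hM W)

variable [IsLocallyNoetherian X]

theorem extendsAcross_unit
    (hU : ∀ x : X, x ∉ U → (2 : ℕ∞) ≤ LocCoh.depth (X.presheaf.stalk x) (X.presheaf.stalk x)) :
    ExtendsAcross U (Coh.structureModule X) := fun W => Hartogs.restrict_bijective U hU W

/-- Sections of a reflexive coherent module extend uniquely across points of depth at least two. -/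
theorem extendsAcross_reflexive (hF : Coh.IsCoh F) (hr : RefHull.IsReflexive F)
    (hU : ∀ x : X, x ∉ U → (2 : ℕ∞) ≤ LocCoh.depth (X.presheaf.stalk x) (X.presheaf.stalk x)) :
    ExtendsAcross U F :=
  haveI : IsIso (RefHull.bidualMap F) := hr
  (extendsAcross_homSh (isCoh_dual hF).1 (extendsAcross_unit hU)).of_iso (asIso (RefHull.bidualMap F)).symm

omit [IsLocallyNoetherian X] in
/-- The unit of restriction to `U` is then an isomorphism. -/
theorem isIso_unit_of_extendsAcross {M : X.Modules} (hM : ExtendsAcross U M) :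
    IsIso ((Scheme.Modules.restrictAdjunction U.ι).unit.app M) := by
  refine Scheme.Modules.Hom.isIso_iff_isIso_app.2 fun V => ?_
  rw [Scheme.Modules.restrictAdjunction_unit_app_app, ConcreteCategory.isIso_iff_bijective]
  have hle : U.ι ''ᵁ (U.ι ⁻¹ᵁ V) ≤ V ⊓ U := fun z hz => by
    rw [Scheme.Hom.image_preimage_eq_opensRange_inf, Scheme.Opens.opensRange_ι] at hz
    exact ⟨hz.2, hz.1⟩
  have hge : V ⊓ U ≤ U.ι ''ᵁ (U.ι ⁻¹ᵁ V) := fun z hz => by
    rw [Scheme.Hom.image_preimage_eq_opensRange_inf, Scheme.Opens.opensRange_ι]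
    exact ⟨hz.2, hz.1⟩
  have h1 : Function.Bijective (AModX.res M hle) :=
    ⟨fun a b hab => by
      have := congrArg (AModX.res M hge) hab
      simpa only [AModX.res_res, AModX.res_self] using this,
    fun b => ⟨AModX.res M hge b, by rw [AModX.res_res, AModX.res_self]⟩⟩
  have h2 : (AModX.res M hle) ∘ (AModX.res M (inf_le_left : V ⊓ U ≤ V)) =
      AModX.res M (hle.trans inf_le_left) := funext fun m => AModX.res_res inf_le_left hle m
  have h3 := h1.comp (hM V)
  rw [h2] at h3
  exact h3

end Groth.Agent.RefX
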