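import Groth.Agent.RefX.Extension
import Groth.Agent.CDiv6.Normal
import Groth.Agent.Alg6.AssDepth
import Groth.Agent.Algz7.Restrict
import Groth.Agent.QCoh.LocFree

/-!
# Reflexive modules on normal schemes
-/

universe u

set_option backward.isDefEq.respectTransparency false
set_option backward.isDefEq.respectTransparency.types false
set_option linter.style.haveILetI false

open CategoryTheory AlgebraicGeometry TopologicalSpace Opposite IsLocalRing

namespace Groth.Agent.RefX

/-- A normal Noetherian local domain of dimension at least two has depth at least two. -/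
theorem two_le_depth_of_normal (A : Type u) [CommRing A] [IsDomain A] [IsNoetherianRing A]
    [IsLocalRing A] [IsIntegrallyClosed A] (hdim : (2 : WithBot ℕ∞) ≤ ringKrullDim A) :
    (2 : ℕ∞) ≤ LocCoh.depth A A := by
  have hnf : ¬ IsField A := fun h => by
    rw [ringKrullDim_eq_zero_of_isField h] at hdim
    exact absurd hdim (by decide)
  have h1 : (1 : ℕ∞) ≤ LocCoh.depth A A := Alg6.one_le_depth_iff.2 fun hass => by
    obtain ⟨-, z, hz⟩ := Alg6.mem_ass_iff.mp hass
    obtain ⟨b, hb, hb0⟩ := Submodule.exists_mem_ne_zero_of_ne_bot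
      (fun hh => hnf (isField_iff_maximalIdeal_eq.mpr hh))
    have h2 := (hz b).1 hb
    rw [smul_eq_mul] at h2
    have hz0 : z = 0 := (mul_eq_zero.1 h2).resolve_left hb0
    exact (maximalIdeal.isMaximal A).ne_top ((Ideal.eq_top_iff_one _).2 ((hz 1).2 (by simp [hz0])))
  by_contra h2
  have h3 : LocCoh.depth A A = 1 := by
    push Not at h2
    exact le_antisymm (ENat.lt_add_one_iff (by simp) |>.1 h2) h1
  have := CDiv6.isDVR_of_depth_eq_one A h3
  rw [IsPrincipalIdealRing.ringKrullDim_eq_one A hnf] at hdim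
  exact absurd hdim (by decide)

variable {X : Scheme.{u}}

/-- On a normal scheme, reflexive stalks at points of codimension at most one are free. -/
theorem free_of_dim_lt_two [IsLocallyNoetherian X] (hX : Pi1.IsNormalScheme X) {F : X.Modules}
    (hF : Coh.IsCoh F) (x : X) (hr : RefHull.IsReflexiveAt F x)
    (hd : ringKrullDim (X.presheaf.stalk x) < 2) :
    Module.Free (X.presheaf.stalk x) (F.presheaf.stalk x) := by
  obtain ⟨h1, h2⟩ := hX x
  haveI := h1
  haveI := h2
  haveI : Module.IsReflexive (X.presheaf.stalk x) (F.presheaf.stalk x) := hr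
  haveI := QCoh.finite_stalk_of_isFT hF.1 hF.2 x
  by_cases hf : IsField (X.presheaf.stalk x)
  · let := hf.toField
    exact Module.Free.of_divisionRing _ _
  have h : ringKrullDim (X.presheaf.stalk x) = 1 := by
    refine le_antisymm ?_ ?_
    · exact ENat.WithBot.lt_add_one_iff.1 hd
    · refine not_lt.1 fun h => hf ?_
      haveI : Ring.KrullDimLE 0 (X.presheaf.stalk x) :=
        Ring.krullDimLE_iff.2 (ENat.WithBot.lt_add_one_iff.1 (by simpa using h))
      exact Ring.KrullDimLE.isField_of_isDomain
  haveI := CDiv6.isDVR_of_dim_eq_one (X.presheaf.stalk x) h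
  exact Module.free_of_finite_type_torsion_free'

/-- Freeness of a stalk can be tested after restriction to an open subscheme. -/
theorem free_restrict_iff {Y : Scheme.{u}} (j : Y ⟶ X) [IsOpenImmersion j] (F : X.Modules) (y : Y) :
    Module.Free (Y.presheaf.stalk y) ((F.restrict j).presheaf.stalk y) ↔
      Module.Free (X.presheaf.stalk (j.base y)) (F.presheaf.stalk (j.base y)) := by
  obtain ⟨e, he⟩ := exists_semilinear_restrict j F y
  let σ : X.presheaf.stalk (j.base y) ≃+* Y.presheaf.stalk y := (asIso (j.stalkMap y)).commRingCatIsoToRingEquiv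
  letI := RingHomInvPair.of_ringEquiv σ
  letI := RingHomInvPair.symm (↑σ : X.presheaf.stalk (j.base y) →+* Y.presheaf.stalk y) ↑σ.symm
  let e' : F.presheaf.stalk (j.base y) ≃ₛₗ[(↑σ : X.presheaf.stalk (j.base y) →+* Y.presheaf.stalk y)]
      (F.restrict j).presheaf.stalk y :=
    { e.symm with
      map_smul' := fun a m => e.injective (by
        show e (e.symm (a • m)) = e (σ a • e.symm m)
        rw [e.apply_symm_apply]
        refine Eq.trans ?_ (he a (e.symm m)).symm
        rw [e.apply_symm_apply]) }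
  exact (Module.Free.iff_of_equiv e').symm

/-- The free locus of a coherent module, as an open set. -/
noncomputable def freeLocus [IsLocallyNoetherian X] (F : X.Modules) (hF : Coh.IsCoh F) : X.Opens :=
  ⟨{x | Module.Free (X.presheaf.stalk x) (F.presheaf.stalk x)}, by
    refine isOpen_iff_forall_mem_open.2 fun x hx => ?_
    haveI : Module.Free (X.presheaf.stalk x) (F.presheaf.stalk x) := hx
    obtain ⟨U, n, hxU, ⟨e⟩⟩ := QCoh.exists_free_nhd_of_free_stalk (QCoh.isCoh_iff_isFP.1 hF) x
    refine ⟨U, fun y hy => ?_, U.2, hxU⟩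
    exact (free_restrict_iff U.ι F ⟨y, hy⟩).1 (QCoh.free_stalk_of_isFinLocFree
      (fun z => ⟨⊤, n, trivial, ⟨(Scheme.Modules.restrictFunctor _).mapIso e ≪≫ QCoh.freeModRestrict _ n⟩⟩) _)⟩

theorem isFinLocFree_restrict [IsLocallyNoetherian X] {F : X.Modules} (hF : Coh.IsCoh F) (U : X.Opens)
    (h : ∀ x ∈ U, Module.Free (X.presheaf.stalk x) (F.presheaf.stalk x)) :
    FlatMod.IsFinLocFree (F.restrict U.ι) :=
  QCoh.isFinLocFree_iff.2 ⟨QCoh.isCoh_iff_isFP.1 ⟨QCoh.isQCoh_restrict _ hF.1, Algz7.isFT_restrict _ hF.1 hF.2⟩,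
    fun y => (free_restrict_iff U.ι F y).2 (h _ y.2)⟩

end Groth.Agent.RefX
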