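import Groth.Agent.RefX.SecOrd
import Groth.Agent.InvX.Tensor

/-!
# Frames in codimension one and orders of rational sections
-/

universe u

set_option backward.isDefEq.respectTransparency false
set_option backward.isDefEq.respectTransparency.types false
set_option linter.style.haveILetI false

open CategoryTheory AlgebraicGeometry TopologicalSpace Opposite IsLocalRing

namespace Groth.Agent.RefX

variable {X : Scheme.{u}} [IsIntegral X] [IsLocallyNoetherian X] {F G : X.Modules}

/-- The module has a frame near every point of codimension at most one. -/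
def HasFrames (F : X.Modules) : Prop :=
  ∀ x : X, Order.coheight x ≤ 1 → ∃ (U : X.Opens) (_ : x ∈ U) (e : Γ(F, U)), InvX.IsFrame e

theorem hasFrames_of_invertible (hF : PicF.IsInvertible F) : HasFrames F := fun x _ => InvX.exists_frame hF x

theorem coheight_genericPoint : Order.coheight (genericPoint X) = 0 := by
  rw [Order.coheight_eq_zero]
  exact fun z _ => (genericPoint_spec X).specializes (Set.mem_univ z)

/-- Scalars of the generic stalk as a field action. -/
theorem smul_eq_zero_generic {M : Type*} [AddCommGroup M] [Module (X.presheaf.stalk (genericPoint X)) M]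
    {a : X.presheaf.stalk (genericPoint X)} {m : M} (h : a • m = 0) : (show X.functionField from a) = 0 ∨ m = 0 := by
  by_cases ha : (show X.functionField from a) = 0
  · exact Or.inl ha
  right
  obtain ⟨b, hb⟩ := (isUnit_iff_ne_zero.2 ha).exists_left_inv
  have h1 := congrArg (fun z => (show X.presheaf.stalk (genericPoint X) from b) • z) h
  rw [smul_zero, ← mul_smul] at h1
  rwa [show (show X.presheaf.stalk (genericPoint X) from b) * a = 1 from hb, one_smul] at h1

/-- Any element of the generic stalk is, up to a factor, in the image of a stalk. -/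
theorem exists_smul_spM (hF : Coh.IsQCoh F) (x : X) (w : F.presheaf.stalk (genericPoint X)) :
    ∃ (a : X.presheaf.stalk x) (m : F.presheaf.stalk x), a ≠ 0 ∧
      X.presheaf.stalkSpecializes (specializes_genericPoint x) a • w = spM F (specializes_genericPoint x) m := by
  obtain ⟨_, ⟨V, hV, rfl⟩, hxV, -⟩ := X.isBasis_affineOpens.exists_subset_of_mem_open (Set.mem_univ x) isOpen_univ
  replace hV : IsAffineOpen V := hV
  have hη : genericPoint X ∈ V := (specializes_genericPoint x).mem_open V.2 hxV
  letI := QCoh.stalkAlg (X := X) hη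
  letI := QCoh.stalkModule F hη
  haveI := QCoh.isScalarTower_stalk F hη
  haveI := QCoh.isLocalization_stalk' hV hη
  haveI := QCoh.isLocalizedModule_germLin hF hV hη
  obtain ⟨⟨m, t⟩, hw⟩ := IsLocalizedModule.surj (hV.primeIdealOf ⟨genericPoint X, hη⟩).asIdeal.primeCompl
    (QCoh.germLin F hη) w
  refine ⟨X.presheaf.germ V x hxV t.1, F.presheaf.germ V x hxV m, fun h => ?_, ?_⟩
  · have h2 := IsLocalization.map_units (X.presheaf.stalk (genericPoint X)) t
    have h1 : algebraMap (X.presheaf.stalk x) X.functionField (X.presheaf.germ V x hxV t.1) = 0 := by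
      rw [h, map_zero]
    rw [algebraMap_germ] at h1
    change IsUnit (X.presheaf.germ V (genericPoint X) hη t.1) at h2
    rw [h1] at h2
    exact not_isUnit_zero h2
  · rw [spM_germ, TopCat.Presheaf.germ_stalkSpecializes_apply]
    exact hw

/-- On a normal scheme, a rank one module with torsion free stalks has a generator at a point of
codimension one. -/
theorem exists_gen_dim_one (hX : Pi1.IsNormalScheme X) (hF : Coh.IsCoh F)
    (htf : ∀ y : X, Module.IsTorsionFree (X.presheaf.stalk y) (F.presheaf.stalk y))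
    {v : F.presheaf.stalk (genericPoint X)}
    (hv : Function.Bijective fun a : X.presheaf.stalk (genericPoint X) => a • v) {x : X}
    (hx : Order.coheight x = 1) :
    ∃ t : F.presheaf.stalk x, Submodule.span (X.presheaf.stalk x) {t} = ⊤ ∧
      spM F (specializes_genericPoint x) t ≠ 0 := by
  haveI := (hX x).1
  haveI := (hX x).2
  haveI := CDiv6.isDVR_of_coheight_one hX hx
  haveI := QCoh.finite_stalk_of_isFT hF.1 hF.2 x
  haveI := htf x
  haveI : Module.Free (X.presheaf.stalk x) (F.presheaf.stalk x) := Module.free_of_finite_type_torsion_free'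
  have hinj : ∀ m : F.presheaf.stalk x, spM F (specializes_genericPoint x) m = 0 → m = 0 := fun m hm => by
    obtain ⟨V, hV, m, rfl⟩ := TopCat.Presheaf.exists_germ_eq F.presheaf m
    rw [spM_germ] at hm
    rw [germ_eq_zero_of_generic hF htf m _ hm, map_zero]
  let b := Module.Free.chooseBasis (X.presheaf.stalk x) (F.presheaf.stalk x)
  have hne : Nonempty (Module.Free.ChooseBasisIndex (X.presheaf.stalk x) (F.presheaf.stalk x)) := by
    by_contra hemp
    rw [not_nonempty_iff] at hemp
    haveI := hemp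
    haveI : Subsingleton (F.presheaf.stalk x) := b.repr.toEquiv.subsingleton
    obtain ⟨a, m, ha, hm⟩ := exists_smul_spM hF.1 x v
    rw [Subsingleton.elim m 0, map_zero] at hm
    rcases smul_eq_zero_generic hm with h | h
    · exact ha (IsFractionRing.injective (X.presheaf.stalk x) X.functionField (h.trans (map_zero _).symm))
    · have h01 : (fun a : X.presheaf.stalk (genericPoint X) => a • v) 0 =
          (fun a : X.presheaf.stalk (genericPoint X) => a • v) 1 := by simp [h]
      exact zero_ne_one (α := X.functionField) (hv.1 h01)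
  obtain ⟨i⟩ := hne
  have hsub : ∀ j, j = i := fun j => by
    by_contra hji
    obtain ⟨α, hα⟩ := hv.2 (spM F (specializes_genericPoint x) (b i))
    obtain ⟨β, hβ⟩ := hv.2 (spM F (specializes_genericPoint x) (b j))
    have hα0 : (show X.functionField from α) ≠ 0 := fun h => b.ne_zero i (hinj _ (by
      rw [← hα, show α = 0 from h]
      exact zero_smul _ v))
    obtain ⟨p, q, hq, hpq⟩ := IsFractionRing.div_surjective (A := X.presheaf.stalk x)
      ((show X.functionField from β) / α)
    have hq0 : q ≠ 0 := nonZeroDivisors.ne_zero hq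
    have hqK : algebraMap (X.presheaf.stalk x) X.functionField q ≠ 0 :=
      (map_ne_zero_iff _ (IsFractionRing.injective _ _)).2 hq0
    rw [div_eq_div_iff hqK hα0] at hpq
    have h0 : q • b j - p • b i = 0 := hinj _ (by
      rw [map_sub, spM_smul, spM_smul, ← hα, ← hβ, ← mul_smul, ← mul_smul, sub_eq_zero]
      congr 1
      exact (mul_comm _ _).trans hpq.symm)
    have h1 := congrArg (fun m => b.repr m j) h0
    simp [Ne.symm hji, hq0] at h1
  refine ⟨b i, eq_top_iff.2 fun m _ => ?_, fun h => b.ne_zero i (hinj _ h)⟩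
  rw [show ({b i} : Set (F.presheaf.stalk x)) = Set.range b from
    (Set.Subset.antisymm (Set.singleton_subset_iff.2 ⟨i, rfl⟩)
      (by rintro _ ⟨j, rfl⟩; rw [hsub j]; rfl)), b.span_eq]
  trivial

/-- A generator of a stalk extends to a frame nearby. -/
theorem exists_frame_of_gen (hF : Coh.IsCoh F)
    (htf : ∀ y : X, Module.IsTorsionFree (X.presheaf.stalk y) (F.presheaf.stalk y)) {x : X}
    {t : F.presheaf.stalk x} (ht : Submodule.span (X.presheaf.stalk x) {t} = ⊤)
    (h0 : spM F (specializes_genericPoint x) t ≠ 0) :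
    ∃ (U : X.Opens) (_ : x ∈ U) (e : Γ(F, U)), InvX.IsFrame e := by
  obtain ⟨W, hxW, m, rfl⟩ := TopCat.Presheaf.exists_germ_eq F.presheaf t
  obtain ⟨_, ⟨V, hV, rfl⟩, hxV, hVW⟩ := X.isBasis_affineOpens.exists_subset_of_mem_open hxW W.2
  replace hV : IsAffineOpen V := hV
  replace hVW : V ≤ W := hVW
  obtain ⟨mV, hmV⟩ : ∃ mV : Γ(F, V), mV = AModX.res F hVW m := ⟨_, rfl⟩
  have hgerm : ∀ y (hy : y ∈ V), F.presheaf.germ V y hy mV = F.presheaf.germ W y (hVW hy) m := fun y hy =>
    (congrArg (F.presheaf.germ V y hy) hmV).trans (F.presheaf.germ_res_apply (homOfLE hVW) y hy m)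
  haveI : IsNoetherianRing Γ(X, V) := IsLocallyNoetherian.component_noetherian ⟨V, hV⟩
  haveI := QCoh.finite_sections hF hV
  let N := Submodule.span Γ(X, V) ({mV} : Set Γ(F, V))
  have hp : hV.primeIdealOf ⟨x, hxV⟩ ∉ Module.support Γ(X, V) (Γ(F, V) ⧸ N) := by
    letI := QCoh.stalkAlg (X := X) hxV
    letI := QCoh.stalkModule F hxV
    haveI := QCoh.isScalarTower_stalk F hxV
    haveI := QCoh.isLocalization_stalk' hV hxV
    haveI := QCoh.isLocalizedModule_germLin hF.1 hV hxV
    rw [Module.notMem_support_iff']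
    intro w
    obtain ⟨w, rfl⟩ := Submodule.Quotient.mk_surjective _ w
    obtain ⟨a, ha⟩ := Submodule.mem_span_singleton.1 (ht.ge (Submodule.mem_top : F.presheaf.germ V x hxV w ∈ ⊤))
    obtain ⟨c, t, rfl⟩ := IsLocalization.exists_mk'_eq (hV.primeIdealOf ⟨x, hxV⟩).asIdeal.primeCompl a
    have h1 : QCoh.germLin F hxV ((t : Γ(X, V)) • w - c • mV) = 0 := by
      rw [map_sub, map_smul, map_smul, sub_eq_zero]
      change (t : Γ(X, V)) • F.presheaf.germ V x hxV w = c • F.presheaf.germ V x hxV mV
      rw [← ha, hgerm x hxV]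
      change (t : Γ(X, V)) • IsLocalization.mk' _ c t • F.presheaf.germ W x hxW m = _
      rw [← smul_assoc, Algebra.smul_def, IsLocalization.mk'_spec' (X.presheaf.stalk x) c t, algebraMap_smul]
    obtain ⟨u, hu⟩ := (IsLocalizedModule.eq_zero_iff (hV.primeIdealOf ⟨x, hxV⟩).asIdeal.primeCompl _).1 h1
    refine ⟨u.1 * t.1, (u * t).2, ?_⟩
    rw [← Submodule.Quotient.mk_smul, Submodule.Quotient.mk_eq_zero, Submodule.mem_span_singleton]
    refine ⟨u.1 * c, ?_⟩
    rw [Submonoid.smul_def, smul_sub, smul_smul, smul_smul, sub_eq_zero] at hu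
    exact hu.symm
  rw [Module.support_eq_zeroLocus, PrimeSpectrum.mem_zeroLocus, SetLike.coe_subset_coe,
    SetLike.not_le_iff_exists] at hp
  obtain ⟨f, hfann, hfp⟩ := hp
  have hxf : x ∈ X.basicOpen f := (QCoh.mem_basicOpen_iff_notMem hV hxV f).2 hfp
  refine ⟨X.basicOpen f, hxf, AModX.res F (X.basicOpen_le f) mV, InvX.isFrame_of_germ fun y hy => ?_⟩
  have hyV : y ∈ V := X.basicOpen_le f hy
  have e1 : F.presheaf.germ (X.basicOpen f) y hy (AModX.res F (X.basicOpen_le f) mV) =
      F.presheaf.germ V y hyV mV := F.presheaf.germ_res_apply (homOfLE (X.basicOpen_le f)) y hy mV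
  rw [e1]
  haveI : IsDomain (X.presheaf.stalk y) := (IsFractionRing.injective (X.presheaf.stalk y) X.functionField).isDomain
  haveI := htf y
  refine ⟨smul_left_injective _ fun h => h0 ?_, fun w => ?_⟩
  · rw [spM_germ]
    have h2 := congrArg (spM F (specializes_genericPoint y)) h
    rw [hgerm y hyV, spM_germ, map_zero] at h2
    exact h2
  · letI := QCoh.stalkAlg (X := X) hyV
    letI := QCoh.stalkModule F hyV
    haveI := QCoh.isScalarTower_stalk F hyV
    haveI := QCoh.isLocalization_stalk' hV hyV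
    haveI := QCoh.isLocalizedModule_germLin hF.1 hV hyV
    obtain ⟨⟨w', s⟩, hw⟩ := IsLocalizedModule.surj (hV.primeIdealOf ⟨y, hyV⟩).asIdeal.primeCompl (QCoh.germLin F hyV) w
    have hmem := Module.mem_annihilator.1 hfann (Submodule.Quotient.mk w')
    rw [← Submodule.Quotient.mk_smul, Submodule.Quotient.mk_eq_zero, Submodule.mem_span_singleton] at hmem
    obtain ⟨c, hc⟩ := hmem
    let fu : (hV.primeIdealOf ⟨y, hyV⟩).asIdeal.primeCompl := ⟨f, (QCoh.mem_basicOpen_iff_notMem hV hyV f).1 hy⟩
    refine ⟨IsLocalization.mk' _ c (fu * s), ?_⟩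
    show IsLocalization.mk' _ c (fu * s) • F.presheaf.germ V y hyV mV = w
    refine (IsLocalization.map_units (X.presheaf.stalk y) (fu * s)).smul_left_cancel.1 ?_
    rw [← smul_assoc, smul_eq_mul, IsLocalization.mk'_spec' (X.presheaf.stalk y) c (fu * s), algebraMap_smul,
      algebraMap_smul, Submonoid.coe_mul, mul_smul]
    change c • QCoh.germLin F hyV mV = f • (s : Γ(X, V)) • w
    rw [← Submonoid.smul_def s w, hw, ← map_smul, ← map_smul, hc]

theorem hasFrames_of_isRef1 (hX : Pi1.IsNormalScheme X) (hF : RefHull.IsRef1 F) : HasFrames F := by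
  intro x hx
  have htf : ∀ y : X, Module.IsTorsionFree (X.presheaf.stalk y) (F.presheaf.stalk y) := fun y => by
    haveI : Module.IsReflexive (X.presheaf.stalk y) (F.presheaf.stalk y) := (isReflexive_iff hF.1).1 hF.2.1 y
    haveI := (hX y).1
    infer_instance
  obtain ⟨v, hv⟩ := exists_generic_generator hF.2.2
  rcases lt_or_eq_of_le hx with h | h
  · have hxη : x = genericPoint X := by
      rw [ENat.lt_one_iff_eq_zero, Order.coheight_eq_zero] at h
      exact (Specializes.antisymm (h (specializes_genericPoint x)) (specializes_genericPoint x)).eq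
    subst hxη
    have hsp : spM F (specializes_genericPoint (genericPoint X)) v = v := by
      obtain ⟨V, hV, m, rfl⟩ := TopCat.Presheaf.exists_germ_eq F.presheaf v
      rw [spM_germ]
    refine exists_frame_of_gen hF.1 htf (t := v) (eq_top_iff.2 fun w _ => ?_) fun h0 => ?_
    · obtain ⟨a, ha⟩ := hv.2 w
      exact Submodule.mem_span_singleton.2 ⟨a, ha⟩
    · rw [hsp] at h0
      have h01 : (fun a : X.presheaf.stalk (genericPoint X) => a • v) 0 =
          (fun a : X.presheaf.stalk (genericPoint X) => a • v) 1 := by simp [h0]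
      exact zero_ne_one (α := X.functionField) (hv.1 h01)
  · obtain ⟨t, ht, ht0⟩ := exists_gen_dim_one hX hF.1 htf hv h
    exact exists_frame_of_gen hF.1 htf ht ht0

/-- The class in the generic fibre. -/
noncomputable def clsη (F : X.Modules) (v : F.presheaf.stalk (genericPoint X)) : Cyc.secFibre F (genericPoint X) :=
  Submodule.Quotient.mk v

omit [IsLocallyNoetherian X] in
theorem clsη_surjective (s : Cyc.secFibre F (genericPoint X)) : ∃ v, s = clsη F v := by
  obtain ⟨v, rfl⟩ := Submodule.Quotient.mk_surjective _ s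
  exact ⟨v, rfl⟩

omit [IsLocallyNoetherian X] in
theorem clsη_eq_zero {v : F.presheaf.stalk (genericPoint X)} : clsη F v = 0 ↔ v = 0 :=
  ⟨fun h => mk_injective F (h.trans (Submodule.Quotient.mk_zero _).symm), fun h => by rw [h]; rfl⟩

theorem exists_coord_generic {U : X.Opens} {e : Γ(F, U)} (he : InvX.IsFrame e) (hη : genericPoint X ∈ U)
    (v : F.presheaf.stalk (genericPoint X)) :
    ∃ φ : X.presheaf.stalk (genericPoint X), v = φ • F.presheaf.germ U (genericPoint X) hη e := by
  obtain ⟨φ, hφ⟩ := (he.germ_bijective hη).2 v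
  exact ⟨φ, hφ.symm⟩

theorem germ_frame_ne_zero {U : X.Opens} {e : Γ(F, U)} (he : InvX.IsFrame e) {x : X} (hx : x ∈ U) :
    F.presheaf.germ U x hx e ≠ 0 := fun h => zero_ne_one (α := X.presheaf.stalk x)
  ((he.germ_bijective hx).1 (by show _ • _ = _ • _; rw [h, smul_zero, smul_zero]))

/-- The order of a rational section in terms of a frame. -/
theorem secOrd_frame {U : X.Opens} {e : Γ(F, U)} (he : InvX.IsFrame e) {x : X} (hxU : x ∈ U)
    (hx : Order.coheight x = 1) {φ : X.functionField} (hφ : φ ≠ 0) :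
    Cyc.secOrdAt F (genericPoint X) x (specializes_genericPoint x)
        (clsη F ((show X.presheaf.stalk (genericPoint X) from φ) •
          F.presheaf.germ U (genericPoint X) ((specializes_genericPoint x).mem_open U.2 hxU) e)) =
      Scheme.ord φ x := by
  refine secOrdAt_eq_ord hx (t := F.presheaf.germ U x hxU e) (eq_top_iff.2 fun w _ => ?_) ?_ hφ ?_
  · obtain ⟨a, ha⟩ := (he.germ_bijective hxU).2 w
    exact Submodule.mem_span_singleton.2 ⟨a, ha⟩
  · rw [spM_germ]
    exact germ_frame_ne_zero he _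
  · rw [spM_germ]
    rfl

theorem secOrd_smul (hF : HasFrames F) {x : X} (hx : Order.coheight x = 1) {φ : X.functionField} (hφ : φ ≠ 0)
    {v : F.presheaf.stalk (genericPoint X)} (hv : v ≠ 0) :
    Cyc.secOrdAt F (genericPoint X) x (specializes_genericPoint x)
        (clsη F ((show X.presheaf.stalk (genericPoint X) from φ) • v)) =
      Scheme.ord φ x + Cyc.secOrdAt F (genericPoint X) x (specializes_genericPoint x) (clsη F v) := by
  obtain ⟨U, hxU, e, he⟩ := hF x hx.le
  obtain ⟨ψ, rfl⟩ := exists_coord_generic he ((specializes_genericPoint x).mem_open U.2 hxU) v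
  have hψ : (show X.functionField from ψ) ≠ 0 := fun h => hv (by rw [show ψ = 0 from h, zero_smul])
  rw [← mul_smul, secOrd_frame he hxU hx hψ]
  refine (secOrd_frame he hxU hx (φ := φ * (show X.functionField from ψ)) (mul_ne_zero hφ hψ)).trans ?_
  exact Scheme.ord_mul hφ hψ

/-- Nonnegative order: the lattice of the stalk. -/
theorem secOrd_nonneg_iff (hX : Pi1.IsNormalScheme X) (hF : HasFrames F) {x : X} (hx : Order.coheight x = 1)
    {v : F.presheaf.stalk (genericPoint X)} (hv : v ≠ 0) :
    0 ≤ Cyc.secOrdAt F (genericPoint X) x (specializes_genericPoint x) (clsη F v) ↔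
      v ∈ Set.range (spM F (specializes_genericPoint x)) := by
  obtain ⟨U, hxU, e, he⟩ := hF x hx.le
  have hη := (specializes_genericPoint x).mem_open U.2 hxU
  obtain ⟨ψ, rfl⟩ := exists_coord_generic he hη v
  have hψ : (show X.functionField from ψ) ≠ 0 := fun h => hv (by rw [show ψ = 0 from h, zero_smul])
  have h1 := secOrd_frame he hxU hx hψ
  rw [show Cyc.secOrdAt F (genericPoint X) x (specializes_genericPoint x)
    (clsη F (ψ • F.presheaf.germ U (genericPoint X) hη e)) = _ from h1]
  constructor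
  · intro h
    obtain ⟨a, ha⟩ := CDiv6.reg_of_ord_nonneg hX hx hψ h
    refine ⟨a • F.presheaf.germ U x hxU e, ?_⟩
    rw [spM_smul, spM_germ]
    congr 1
  · rintro ⟨m, hm⟩
    obtain ⟨a, rfl⟩ := (he.germ_bijective hxU).2 m
    rw [spM_smul, spM_germ] at hm
    refine CDiv6.reg_ord_nonneg hψ ⟨a, ?_⟩
    exact (he.germ_bijective hη).1 hm

omit [IsLocallyNoetherian X] in
theorem coheight_two_le {x y : X} (h : y ⤳ x) (hne : y ≠ x) (hy : y ≠ genericPoint X) :
    2 ≤ Order.coheight x := by
  have h1 : x < y := lt_of_le_not_ge h fun h' => hne (h.antisymm h').eq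
  have hg : genericPoint X ⤳ y := (genericPoint_spec X).specializes (Set.mem_univ y)
  have h2 : y < genericPoint X := lt_of_le_not_ge hg fun h' => hy ((Specializes.antisymm h' hg).eq)
  have e1 := Order.coheight_add_one_le h1
  have e2 := Order.coheight_add_one_le h2
  calc (2 : ℕ∞) = 0 + 1 + 1 := by norm_num
    _ ≤ Order.coheight (genericPoint X) + 1 + 1 := by gcongr; exact zero_le
    _ ≤ Order.coheight y + 1 := by gcongr
    _ ≤ _ := e1

/-- Only finitely many points of codimension one of an affine open lie outside a nonempty open. -/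
theorem finite_coheight_one_notMem {V : X.Opens} (hV : IsAffineOpen V) {W : X.Opens} (hW : genericPoint X ∈ W) :
    {x : X | x ∈ V ∧ Order.coheight x = 1 ∧ x ∉ W}.Finite := by
  classical
  rcases isEmpty_or_nonempty V with hemp | hne
  · exact Set.Finite.subset Set.finite_empty fun x hx => hemp.false ⟨x, hx.1⟩
  haveI := hne
  haveI : IsNoetherianRing Γ(X, V) := IsLocallyNoetherian.component_noetherian ⟨V, hV⟩
  let Z : Set ↥(Spec Γ(X, V)) := (hV.fromSpec.base ⁻¹' (W : Set X))ᶜ
  have hZ : IsClosed Z := (W.2.preimage hV.fromSpec.continuous).isClosed_compl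
  let J := PrimeSpectrum.vanishingIdeal (Z : Set (PrimeSpectrum Γ(X, V)))
  have hJZ : ∀ q : ↥(Spec Γ(X, V)), J ≤ (show PrimeSpectrum Γ(X, V) from q).asIdeal ↔ q ∈ Z := fun q => by
    rw [show (q ∈ Z) = (q ∈ PrimeSpectrum.zeroLocus (J : Set Γ(X, V))) by
      rw [PrimeSpectrum.zeroLocus_vanishingIdeal_eq_closure, hZ.closure_eq]]
    rfl
  have hfin : (J.minimalPrimes).Finite := Ideal.finite_minimalPrimes_of_isNoetherianRing _ J
  refine Set.Finite.of_finite_image (f := fun x => if h : x ∈ V then (hV.primeIdealOf ⟨x, h⟩).asIdeal else ⊤)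
    (hfin.subset ?_) fun x hx y hy hxy => ?_
  · rintro _ ⟨x, ⟨hxV, hx1, hxW⟩, rfl⟩
    simp only [dif_pos hxV]
    refine ⟨⟨(hV.primeIdealOf ⟨x, hxV⟩).2, (hJZ _).2 fun h => hxW ?_⟩, fun q ⟨hq, hJq⟩ hqp => ?_⟩
    · have h6 : hV.fromSpec (hV.primeIdealOf ⟨x, hxV⟩) ∈ W := h
      rwa [show hV.fromSpec (hV.primeIdealOf ⟨x, hxV⟩) = x from hV.fromSpec_primeIdealOf _] at h6
    let qq : ↥(Spec Γ(X, V)) := (⟨q, hq⟩ : PrimeSpectrum Γ(X, V))
    have hsp : hV.fromSpec qq ⤳ x := by
      have h5 : hV.fromSpec qq ⤳ hV.fromSpec (hV.primeIdealOf ⟨x, hxV⟩) :=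
        ((PrimeSpectrum.le_iff_specializes (⟨q, hq⟩ : PrimeSpectrum Γ(X, V)) _).1 hqp).map hV.fromSpec.continuous
      rwa [show hV.fromSpec (hV.primeIdealOf ⟨x, hxV⟩) = x from hV.fromSpec_primeIdealOf _] at h5
    have hqW : hV.fromSpec qq ∉ W := (hJZ qq).1 hJq
    by_contra hne'
    have hqx : hV.fromSpec qq ≠ x := fun h => hne' (le_of_eq (congrArg PrimeSpectrum.asIdeal
      (hV.fromSpec.isOpenEmbedding.injective (h.trans (hV.fromSpec_primeIdealOf ⟨x, hxV⟩).symm))).symm)
    have := coheight_two_le hsp hqx fun h => hqW (h ▸ hW)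
    rw [hx1] at this
    exact absurd this (by norm_num)
  · obtain ⟨hx, -, -⟩ := hx
    obtain ⟨hy, -, -⟩ := hy
    simp only [dif_pos hx, dif_pos hy] at hxy
    have := congrArg hV.fromSpec (PrimeSpectrum.ext hxy)
    rw [hV.fromSpec_primeIdealOf, hV.fromSpec_primeIdealOf] at this
    exact this

/-- A nonzero rational section has nonzero order at finitely many points of an affine open. -/
theorem finite_secOrd (hF : HasFrames F) {v : F.presheaf.stalk (genericPoint X)} (hv : v ≠ 0) {V : X.Opens}
    (hV : IsAffineOpen V) :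
    {x : X | x ∈ V ∧ Order.coheight x = 1 ∧
      Cyc.secOrdAt F (genericPoint X) x (specializes_genericPoint x) (clsη F v) ≠ 0}.Finite := by
  obtain ⟨U, hηU, e, he⟩ := hF (genericPoint X) (by rw [coheight_genericPoint]; exact zero_le)
  obtain ⟨ψ, rfl⟩ := exists_coord_generic he hηU v
  have hψ : (show X.functionField from ψ) ≠ 0 := fun h => hv (by rw [show ψ = 0 from h, zero_smul])
  let W : X.Opens := ⟨(U : Set X) ∩ ({y | CDiv6.Reg y (show X.functionField from ψ)} ∩
      {y | CDiv6.Reg y (show X.functionField from ψ)⁻¹}),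
    U.isOpen.inter ((CDiv6.isOpen_reg _).inter (CDiv6.isOpen_reg _))⟩
  have hW : genericPoint X ∈ W := ⟨hηU, CDiv6.reg_genericPoint _, CDiv6.reg_genericPoint _⟩
  refine (finite_coheight_one_notMem hV hW).subset ?_
  rintro x ⟨hxV, hx, hne⟩
  refine ⟨hxV, hx, fun hxW => hne ?_⟩
  obtain ⟨hxU, h1, h2⟩ := hxW
  rw [show Cyc.secOrdAt F (genericPoint X) x (specializes_genericPoint x)
    (clsη F (ψ • F.presheaf.germ U (genericPoint X) hηU e)) = _ from secOrd_frame he hxU hx hψ]
  have h3 := CDiv6.reg_ord_nonneg hψ h1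
  have h4 := CDiv6.reg_ord_nonneg (inv_ne_zero hψ) h2
  have h5 := Scheme.ord_mul (x := x) hψ (inv_ne_zero hψ)
  have h6 := Scheme.ord_mul (x := x) (one_ne_zero (α := X.functionField)) one_ne_zero
  rw [mul_one] at h6
  rw [mul_inv_cancel₀ hψ] at h5
  linarith

end Groth.Agent.RefX
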