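import Groth.Agent.RefX.Ext
import Groth.Agent.Hartogs.Basic
import Groth.Agent.QCoh.Stalk
import Groth.Agent.QCoh.LocFree
import Groth.Agent.QCoh.Tilde

/-!
# Hartogs for coherent modules
-/

universe u

set_option backward.isDefEq.respectTransparency false
set_option backward.isDefEq.respectTransparency.types false
set_option linter.style.haveILetI false

open CategoryTheory AlgebraicGeometry TopologicalSpace Opposite

namespace Groth.Agent.RefX

theorem bijective_res_congr {X : Scheme.{u}} {M : X.Modules} {a b a' b' : X.Opens} {h : a ≤ b} {h' : a' ≤ b'}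
    (ea : a = a') (eb : b = b') (hb : Function.Bijective (AModX.res M h)) :
    Function.Bijective (AModX.res M h') := by
  subst ea eb
  exact hb

theorem bijective_res_of_iso {X : Scheme.{u}} {M N : X.Modules} (e : M ≅ N) {a b : X.Opens} (h : a ≤ b)
    (hM : Function.Bijective (AModX.res M h)) : Function.Bijective (AModX.res N h) := by
  have hb : ∀ O, Function.Bijective (e.hom.app O) := fun O =>
    (ConcreteCategory.isIso_iff_bijective _).1 (Scheme.Modules.Hom.isIso_iff_isIso_app.1 inferInstance O)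
  refine (Function.Bijective.of_comp_iff (AModX.res N h) (hb b)).1 ?_
  have h1 : (AModX.res N h) ∘ (e.hom.app b : Γ(M, b) → Γ(N, b)) =
      (e.hom.app a : Γ(M, a) → Γ(N, a)) ∘ AModX.res M h := funext fun m => (AModX.app_res e.hom h m).symm
  rw [h1]
  exact (hb _).comp hM

/-- Sections of a tilde module extend across primes of depth at least two. -/
theorem tilde_bijective (A : CommRingCat.{u}) [IsNoetherianRing A] (N : ModuleCat.{u} A) [Module.Finite A N]
    (O : (Spec A).Opens)
    (h : ∀ p : PrimeSpectrum A, p ∉ O →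
      (2 : ℕ∞) ≤ LocCoh.depth (Localization.AtPrime p.asIdeal) (LocalizedModule p.asIdeal.primeCompl N)) :
    Function.Bijective (AModX.res (tilde N) (le_top : O ≤ ⊤)) := by
  let Z : Set (PrimeSpectrum A) := {p | p ∉ O}
  have hZc : IsClosed Z := isClosed_compl_iff.2 O.isOpen
  have hJ : PrimeSpectrum.zeroLocus (PrimeSpectrum.vanishingIdeal Z : Set A) = Z := by
    rw [PrimeSpectrum.zeroLocus_vanishingIdeal_eq_closure, hZc.closure_eq]
  have hclosed : EGA4.IsClosedAlong Z N := (Alg6.isClosedAlong_iff hZc.stableUnderSpecialization).2 h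
  refine bijective_res_congr ?_ rfl
    (show Function.Bijective (AModX.res (tilde N) (le_top : EGA4.openCompl A (PrimeSpectrum.vanishingIdeal Z) ≤ ⊤))
      from hclosed _ hJ.le)
  refine TopologicalSpace.Opens.ext ?_
  show (PrimeSpectrum.zeroLocus (PrimeSpectrum.vanishingIdeal Z : Set A))ᶜ = _
  rw [hJ]
  exact compl_compl _

variable {X : Scheme.{u}} [IsLocallyNoetherian X] {F : X.Modules}

/-- The depth of a stalk of a coherent module as depth of a localization of the chart. -/
theorem depth_chart_eq (hF : Coh.IsCoh F) {V : X.Opens} (hV : IsAffineOpen V) (x : X) (hx : x ∈ V) :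
    LocCoh.depth (Localization.AtPrime (hV.primeIdealOf ⟨x, hx⟩).asIdeal)
        (LocalizedModule (hV.primeIdealOf ⟨x, hx⟩).asIdeal.primeCompl
          (moduleSpecΓFunctor.obj (F.restrict hV.fromSpec))) =
      LocCoh.depth (X.presheaf.stalk x) (F.presheaf.stalk x) := by
  letI := QCoh.stalkAlg (X := X) hx
  letI := QCoh.stalkModule F hx
  haveI := QCoh.isScalarTower_stalk F hx
  haveI := QCoh.isLocalization_stalk' hV hx
  haveI := QCoh.isLocalizedModule_germLin hF.1 hV hx
  let S := (hV.primeIdealOf ⟨x, hx⟩).asIdeal.primeCompl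
  haveI : IsLocalizedModule S (QCoh.germLin F hx ∘ₗ (QCoh.chartEquiv hV F).symm.toLinearMap) :=
    IsLocalizedModule.of_linearEquiv_right S _ _
  obtain ⟨i, j, hij⟩ := QCoh.exists_semilinear S (Localization S) (X.presheaf.stalk x)
    (LocalizedModule.mkLinearMap S (moduleSpecΓFunctor.obj (F.restrict hV.fromSpec)))
    (QCoh.germLin F hx ∘ₗ (QCoh.chartEquiv hV F).symm.toLinearMap)
  exact Alg6.depth_eq_of_semilinear i.toRingHom i.surjective j hij

/-- Hartogs for coherent modules: sections extend across points of depth at least two. -/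
theorem extendsAcross_of_depth (hF : Coh.IsCoh F) (U : X.Opens)
    (hU : ∀ x : X, x ∉ U → (2 : ℕ∞) ≤ LocCoh.depth (X.presheaf.stalk x) (F.presheaf.stalk x)) :
    ExtendsAcross U F := by
  refine extendsAcross_of_affine F fun V hV => ?_
  haveI : IsNoetherianRing Γ(X, V) := IsLocallyNoetherian.component_noetherian ⟨V, hV⟩
  haveI := QCoh.finite_sections hF hV
  haveI : Module.Finite Γ(X, V) (moduleSpecΓFunctor.obj (F.restrict hV.fromSpec)) :=
    Module.Finite.equiv (QCoh.chartEquiv hV F)
  have := (isQuasicoherent_iff_isIso_fromTildeΓ _).1 (QCoh.isQCoh_restrict hV.fromSpec hF.1)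
  let e : tilde (moduleSpecΓFunctor.obj (F.restrict hV.fromSpec)) ≅ F.restrict hV.fromSpec :=
    @asIso _ _ _ _ (F.restrict hV.fromSpec).fromTildeΓ this
  have hspec := bijective_res_of_iso e _ (tilde_bijective Γ(X, V) (moduleSpecΓFunctor.obj (F.restrict hV.fromSpec))
    (hV.fromSpec ⁻¹ᵁ (V ⊓ U)) fun p hp => by
      have hxV : hV.fromSpec p ∈ V := by rw [← SetLike.mem_coe, ← hV.range_fromSpec]; exact ⟨p, rfl⟩
      have hxU : hV.fromSpec p ∉ U := fun h => hp ⟨hxV, h⟩
      have hp' : hV.primeIdealOf ⟨hV.fromSpec p, hxV⟩ = p :=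
        hV.fromSpec.isOpenEmbedding.injective (hV.fromSpec_primeIdealOf ⟨hV.fromSpec p, hxV⟩)
      have hd := (hU _ hxU).trans (depth_chart_eq hF hV _ hxV).ge
      rwa [hp'] at hd)
  refine bijective_res_congr (h := hV.fromSpec.image_mono (le_top : hV.fromSpec ⁻¹ᵁ (V ⊓ U) ≤ ⊤))
    ?_ ?_ hspec
  · rw [Scheme.Hom.image_preimage_eq_opensRange_inf, hV.opensRange_fromSpec, ← inf_assoc, inf_idem]
  · rw [Scheme.Hom.image_top_eq_opensRange, hV.opensRange_fromSpec]

end Groth.Agent.RefX
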