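import Groth.Agent.RefX.Normal
import Mathlib.AlgebraicGeometry.FunctionField

/-!
# Rank one reflexive modules: sections, their zero loci
-/

universe u

set_option backward.isDefEq.respectTransparency false
set_option backward.isDefEq.respectTransparency.types false
set_option linter.style.haveILetI false

open CategoryTheory AlgebraicGeometry TopologicalSpace Opposite IsLocalRing

namespace Groth.Agent.RefX

variable {X : Scheme.{u}} {F : X.Modules}

/-- An invertible module on a dense open has free stalk of rank one at the generic point. -/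
theorem exists_generic_generator [IsIntegral X] (hF : RefHull.GenInvertible F) :
    ∃ v : F.presheaf.stalk (genericPoint X),
      Function.Bijective fun a : X.presheaf.stalk (genericPoint X) => a • v := by
  obtain ⟨U, hU, hinv⟩ := hF
  obtain ⟨z, hz⟩ := hU.nonempty
  have hη : genericPoint X ∈ U := ((genericPoint_spec X).specializes (Set.mem_univ z)).mem_open U.2 hz
  let y : (U : Scheme.{u}) := ⟨genericPoint X, hη⟩
  obtain ⟨V, hV, e, he⟩ := InvX.exists_frame hinv y
  have hb := he.germ_bijective hV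
  obtain ⟨t, ht⟩ := exists_semilinear_restrict U.ι F y
  refine ⟨t ((F.restrict U.ι).presheaf.germ V y hV e), ?_⟩
  have h1 : (fun a : X.presheaf.stalk (U.ι.base y) => a • t ((F.restrict U.ι).presheaf.germ V y hV e)) =
      t ∘ (fun c => c • (F.restrict U.ι).presheaf.germ V y hV e) ∘ (U.ι.stalkMap y).hom :=
    funext fun a => (ht a _).symm
  show Function.Bijective fun a : X.presheaf.stalk (U.ι.base y) => a • t ((F.restrict U.ι).presheaf.germ V y hV e)
  rw [h1]
  exact t.bijective.comp (hb.comp (ConcreteCategory.bijective_of_isIso (U.ι.stalkMap y)))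

variable [IsIntegral X] [IsLocallyNoetherian X]

/-- Sections of coherent modules with torsion free stalks are determined by their germ at the generic
point. -/
theorem germ_eq_zero_of_generic (hF : Coh.IsCoh F)
    (htf : ∀ x : X, Module.IsTorsionFree (X.presheaf.stalk x) (F.presheaf.stalk x)) {W : X.Opens}
    (s : Γ(F, W)) (hη : genericPoint X ∈ W) (hs : F.presheaf.germ W (genericPoint X) hη s = 0) : s = 0 := by
  have h0 : F.presheaf.germ W (genericPoint X) hη s = F.presheaf.germ W (genericPoint X) hη 0 := by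
    rw [hs, map_zero]
  obtain ⟨W₀, hW₀, i₁, i₂, hW₀s⟩ := F.presheaf.germ_eq _ hη hη _ _ h0
  rw [map_zero] at hW₀s
  refine AModX.eq_of_locally _ _ fun p hp => ?_
  obtain ⟨_, ⟨V, hV, rfl⟩, hpV, hVW⟩ := X.isBasis_affineOpens.exists_subset_of_mem_open hp W.isOpen
  replace hVW : V ≤ W := hVW
  replace hV : IsAffineOpen V := hV
  refine ⟨V, hVW, hpV, ?_⟩
  have hηV : genericPoint X ∈ V := ((genericPoint_spec X).specializes (Set.mem_univ p)).mem_open V.2 hpV
  obtain ⟨f, hfW, hηf⟩ := hV.exists_basicOpen_le (V := V ⊓ W₀) ⟨genericPoint X, hηV, hW₀⟩ hηV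
  have hres : AModX.res F (X.basicOpen_le f) (AModX.res F hVW s) = 0 := by
    have h3 : AModX.res F i₁.le s = 0 := hW₀s
    have h4 := congrArg (AModX.res F (hfW.trans inf_le_right : X.basicOpen f ≤ W₀)) h3
    rw [AModX.res_res, map_zero] at h4
    rw [AModX.res_res]
    exact h4
  obtain ⟨n, hn⟩ := QCoh.exists_pow_smul_eq_zero hF.1 hV f _ hres
  have hf0 : X.presheaf.germ V (genericPoint X) hηV f ≠ 0 := fun h => by
    have := (X.mem_basicOpen f _ hηV).1 hηf
    rw [h] at this
    exact not_isUnit_zero this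
  rw [map_zero]
  refine ZClosLib.section_ext F _ _ fun y hy => ?_
  rw [map_zero]
  have h1 := congrArg (F.presheaf.germ V y hy) hn
  rw [QCoh.germ_smul', map_pow, map_zero] at h1
  haveI := htf y
  haveI : IsDomain (X.presheaf.stalk y) := (IsFractionRing.injective (X.presheaf.stalk y) X.functionField).isDomain
  refine (smul_eq_zero.1 h1).resolve_left (pow_ne_zero _ fun h => hf0 ?_)
  have h2 := congrArg (X.presheaf.germ V (genericPoint X) hηV) (AlgebraicGeometry.germ_injective_of_isIntegral X y hy (h.trans (map_zero _).symm) : f = 0)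
  rwa [map_zero] at h2

/-- In depth two, an element dividing all multiples by the maximal ideal generates. -/
theorem mem_span_of_maximal_smul {R : Type u} [CommRing R] [IsDomain R] [IsLocalRing R] [IsNoetherianRing R]
    {M : Type u} [AddCommGroup M] [Module R M] [Module.IsTorsionFree R M] {s y : M} (hs : s ≠ 0)
    (hd : (2 : ℕ∞) ≤ LocCoh.depth R R) (hnf : maximalIdeal R ≠ ⊥)
    (h : ∀ a ∈ maximalIdeal R, ∃ c : R, c • s = a • y) : ∃ c : R, c • s = y := by
  obtain ⟨a, ha, ha0⟩ := Submodule.exists_mem_ne_zero_of_ne_bot hnf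
  obtain ⟨c, hc⟩ := h a ha
  have hreg : IsSMulRegular R a := fun u v huv => mul_left_cancel₀ ha0 huv
  have hass := (Alg6.two_le_depth_iff ha hreg).1 hd
  obtain ⟨e, he⟩ : ∃ e : R, a • e = c := by
    by_contra hne
    refine hass (Alg6.mem_ass_iff.2 ⟨inferInstance, Submodule.Quotient.mk c, fun b => ?_⟩)
    rw [← Submodule.Quotient.mk_smul, Alg6.mem_pointwise_smul_top_iff]
    constructor
    · intro hb
      obtain ⟨d, hd'⟩ := h b hb
      refine ⟨d, sub_eq_zero.1 ((smul_eq_zero.1 (?_ : (a • d - b • c) • s = 0)).resolve_right hs)⟩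
      rw [sub_smul, smul_assoc, smul_assoc, hd', hc, smul_comm, sub_self]
    · rintro ⟨d, hd'⟩
      by_contra hb
      obtain ⟨b', hb'⟩ := (IsLocalRing.notMem_maximalIdeal.1 hb).exists_left_inv
      refine hne ⟨b' * d, ?_⟩
      simp only [smul_eq_mul] at hd' ⊢
      rw [mul_left_comm, hd', ← mul_assoc, hb', one_mul]
  refine ⟨e, ?_⟩
  rw [← he, smul_assoc] at hc
  exact smul_right_injective M ha0 hc

/-- On a normal scheme, the maximal points of the locus where a section does not generate have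
codimension one. -/
theorem dim_eq_one_of_maximal (hX : Pi1.IsNormalScheme X) (hF : RefHull.IsRef1 F) (s : Γ(F, ⊤)) (hs : s ≠ 0)
    (z : X) (hz : ¬ Function.Bijective fun a : ↑(X.presheaf.stalk z) => a • F.presheaf.germ ⊤ z trivial s)
    (hmax : ∀ y : X, ¬ Function.Bijective (fun a : ↑(X.presheaf.stalk y) => a • F.presheaf.germ ⊤ y trivial s) →
      y ⤳ z → y = z) :
    ringKrullDim ↑(X.presheaf.stalk z) = 1 := by
  have hdom : ∀ x : X, IsDomain (X.presheaf.stalk x) := fun x => (hX x).1
  have href := (isReflexive_iff hF.1).1 hF.2.1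
  have htf : ∀ x : X, Module.IsTorsionFree (X.presheaf.stalk x) (F.presheaf.stalk x) := fun x => by
    haveI : Module.IsReflexive (X.presheaf.stalk x) (F.presheaf.stalk x) := href x
    infer_instance
  have hs0 : ∀ x : X, F.presheaf.germ ⊤ x trivial s ≠ 0 := fun x hx => hs (by
    obtain ⟨W, hW, i₁, i₂, e⟩ := F.presheaf.germ_eq x (show x ∈ (⊤ : X.Opens) from trivial) (show x ∈ (⊤ : X.Opens) from trivial) s
      (0 : Γ(F, ⊤)) (hx.trans (map_zero _).symm)
    rw [map_zero] at e
    have hη : genericPoint X ∈ W := ((genericPoint_spec X).specializes (Set.mem_univ x)).mem_open W.2 hW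
    refine germ_eq_zero_of_generic hF.1 htf s trivial ?_
    rw [← F.presheaf.germ_res_apply i₁ _ hη, e, map_zero])
  have hinj : ∀ x : X, Function.Injective fun a : ↑(X.presheaf.stalk x) => a • F.presheaf.germ ⊤ x trivial s :=
    fun x => haveI := hdom x; haveI := htf x; smul_left_injective _ (hs0 x)
  -- not the generic point
  have hzη : z ≠ genericPoint X := by
    rintro rfl
    obtain ⟨v, hv⟩ := exists_generic_generator hF.2.2
    obtain ⟨c, hc⟩ := hv.2 (F.presheaf.germ ⊤ _ trivial s)
    have hc' : IsUnit (show X.functionField from c) := isUnit_iff_ne_zero.2 fun h => hs0 (genericPoint X) (by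
      rw [← hc]
      show c • v = 0
      rw [show c = 0 from h, zero_smul])
    refine hz ⟨hinj _, fun w => ?_⟩
    obtain ⟨d, hd⟩ := hv.2 w
    obtain ⟨c', hc'⟩ := hc'.exists_left_inv
    refine ⟨d * c', ?_⟩
    show (d * c') • F.presheaf.germ ⊤ (genericPoint X) trivial s = w
    rw [← hc, ← hd]
    show (d * c') • c • v = d • v
    rw [smul_smul, mul_assoc, (hc' : c' * c = 1), mul_one]
  obtain ⟨_, ⟨V, hV, rfl⟩, hzV, -⟩ := X.isBasis_affineOpens.exists_subset_of_mem_open (Set.mem_univ z) isOpen_univ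
  replace hV : IsAffineOpen V := hV
  haveI : IsNoetherianRing Γ(X, V) := IsLocallyNoetherian.component_noetherian ⟨V, hV⟩
  haveI := QCoh.finite_sections hF.1 hV
  obtain ⟨sV, hsV⟩ : ∃ sV : Γ(F, V), sV = AModX.res F le_top s := ⟨_, rfl⟩
  let N := Submodule.span Γ(X, V) ({sV} : Set Γ(F, V))
  let p := hV.primeIdealOf ⟨z, hzV⟩
  have hgerm : ∀ y (hy : y ∈ V), F.presheaf.germ V y hy sV = F.presheaf.germ ⊤ y trivial s := fun y hy =>
    (congrArg (F.presheaf.germ V y hy) hsV).trans (F.presheaf.germ_res_apply (homOfLE le_top) y hy s)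
  -- bijectivity and the support of the quotient
  have key : ∀ y (hy : y ∈ V),
      (Function.Bijective fun a : ↑(X.presheaf.stalk y) => a • F.presheaf.germ ⊤ y trivial s) ↔
        hV.primeIdealOf ⟨y, hy⟩ ∉ Module.support Γ(X, V) (Γ(F, V) ⧸ N) := fun y hy => by
    letI := QCoh.stalkAlg (X := X) hy
    letI := QCoh.stalkModule F hy
    haveI := QCoh.isScalarTower_stalk F hy
    haveI := QCoh.isLocalization_stalk' hV hy
    haveI := QCoh.isLocalizedModule_germLin hF.1.1 hV hy
    rw [Module.notMem_support_iff', ← hgerm y hy]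
    constructor
    · intro hb m
      obtain ⟨m, rfl⟩ := Submodule.Quotient.mk_surjective _ m
      obtain ⟨a, ha⟩ := hb.2 (F.presheaf.germ V y hy m)
      obtain ⟨c, t, rfl⟩ := IsLocalization.exists_mk'_eq (hV.primeIdealOf ⟨y, hy⟩).asIdeal.primeCompl a
      have h1 : QCoh.germLin F hy ((t : Γ(X, V)) • m - c • sV) = 0 := by
        rw [map_sub, map_smul, map_smul, sub_eq_zero]
        change (t : Γ(X, V)) • F.presheaf.germ V y hy m = c • F.presheaf.germ V y hy sV
        rw [← ha]
        change (t : Γ(X, V)) • IsLocalization.mk' _ c t • F.presheaf.germ V y hy sV = _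
        rw [← smul_assoc, Algebra.smul_def, IsLocalization.mk'_spec' (X.presheaf.stalk y) c t, algebraMap_smul]
      obtain ⟨u, hu⟩ := (IsLocalizedModule.eq_zero_iff (hV.primeIdealOf ⟨y, hy⟩).asIdeal.primeCompl _).1 h1
      refine ⟨u.1 * t.1, (u * t).2, ?_⟩
      rw [← Submodule.Quotient.mk_smul, Submodule.Quotient.mk_eq_zero, Submodule.mem_span_singleton]
      refine ⟨u.1 * c, ?_⟩
      rw [Submonoid.smul_def, smul_sub, smul_smul, smul_smul, sub_eq_zero] at hu
      exact hu.symm
    · intro h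
      refine ⟨by rw [hgerm y hy]; exact hinj y, fun w => ?_⟩
      obtain ⟨⟨m, t⟩, hw⟩ := IsLocalizedModule.surj (hV.primeIdealOf ⟨y, hy⟩).asIdeal.primeCompl (QCoh.germLin F hy) w
      obtain ⟨r, hr, hrm⟩ := h (Submodule.Quotient.mk m)
      rw [← Submodule.Quotient.mk_smul, Submodule.Quotient.mk_eq_zero, Submodule.mem_span_singleton] at hrm
      obtain ⟨c, hc⟩ := hrm
      let u : (hV.primeIdealOf ⟨y, hy⟩).asIdeal.primeCompl := ⟨r, hr⟩
      refine ⟨IsLocalization.mk' _ c (u * t), ?_⟩
      show IsLocalization.mk' _ c (u * t) • F.presheaf.germ V y hy sV = w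
      refine (IsLocalization.map_units (X.presheaf.stalk y) (u * t)).smul_left_cancel.1 ?_
      rw [← smul_assoc, smul_eq_mul, IsLocalization.mk'_spec' (X.presheaf.stalk y) c (u * t), algebraMap_smul,
        algebraMap_smul, Submonoid.coe_mul, mul_smul]
      change c • QCoh.germLin F hy sV = r • (t : Γ(X, V)) • w
      rw [← Submonoid.smul_def t w, hw, ← map_smul, ← map_smul, hc]
  -- `p` is minimal in the support
  have hpS : p ∈ Module.support Γ(X, V) (Γ(F, V) ⧸ N) := by_contra fun h => hz ((key z hzV).2 h)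
  have hmin : p.asIdeal ∈ (Module.annihilator Γ(X, V) (Γ(F, V) ⧸ N)).minimalPrimes := by
    rw [Module.support_eq_zeroLocus] at hpS
    refine ⟨⟨p.2, hpS⟩, fun q ⟨hq, hle⟩ hqp => ?_⟩
    let qq : ↥(Spec Γ(X, V)) := (⟨q, hq⟩ : PrimeSpectrum Γ(X, V))
    have hyV : hV.fromSpec qq ∈ V := by rw [← SetLike.mem_coe, ← hV.range_fromSpec]; exact ⟨qq, rfl⟩
    have hqq : hV.primeIdealOf ⟨hV.fromSpec qq, hyV⟩ = qq :=
      hV.fromSpec.isOpenEmbedding.injective (hV.fromSpec_primeIdealOf ⟨_, hyV⟩)
    have hsp : hV.fromSpec qq ⤳ z := by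
      have h5 : hV.fromSpec qq ⤳ hV.fromSpec p := ((PrimeSpectrum.le_iff_specializes (⟨q, hq⟩ : PrimeSpectrum Γ(X, V)) p).1 hqp).map hV.fromSpec.continuous
      rwa [show hV.fromSpec p = z from hV.fromSpec_primeIdealOf _] at h5
    have hyz := hmax _ (fun hb => (key _ hyV).1 hb (by
      rw [hqq, Module.support_eq_zeroLocus]
      exact hle)) hsp
    have hpq : p = qq := hV.fromSpec.isOpenEmbedding.injective
      ((hV.fromSpec_primeIdealOf ⟨z, hzV⟩).trans hyz.symm)
    exact (congrArg PrimeSpectrum.asIdeal hpq).le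
  obtain ⟨-, m, hm⟩ := Alg6.mem_ass_iff.1
    (Module.associatedPrimes.minimalPrimes_annihilator_subset_associatedPrimes _ _ hmin)
  obtain ⟨m, rfl⟩ := Submodule.Quotient.mk_surjective _ m
  -- conclude in the local ring
  haveI := hdom z
  haveI := (hX z).2
  haveI := htf z
  have hnf : maximalIdeal (X.presheaf.stalk z) ≠ ⊥ := fun h => hzη (by
    have h0 : ringKrullDim (X.presheaf.stalk z) = 0 :=
      ringKrullDim_eq_zero_of_isField (IsLocalRing.isField_iff_maximalIdeal_eq.2 h)
    rw [ringKrullDim_stalk_eq_coheight, WithBot.coe_eq_zero, Order.coheight_eq_zero] at h0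
    have hle : z ≤ genericPoint X := (genericPoint_spec X).specializes (Set.mem_univ z)
    exact (((genericPoint_spec X).specializes (Set.mem_univ z)).antisymm (h0 hle)).eq.symm)
  by_contra hdim1
  have h1 : (1 : WithBot ℕ∞) ≤ ringKrullDim (X.presheaf.stalk z) := not_lt.1 fun h => hnf (by
    haveI : Ring.KrullDimLE 0 (X.presheaf.stalk z) :=
      Ring.krullDimLE_iff.2 (ENat.WithBot.lt_add_one_iff.1 (by simpa using h))
    exact IsLocalRing.isField_iff_maximalIdeal_eq.1 Ring.KrullDimLE.isField_of_isDomain)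
  have h2 : (2 : WithBot ℕ∞) ≤ ringKrullDim (X.presheaf.stalk z) := not_lt.1 fun h =>
    hdim1 (le_antisymm (ENat.WithBot.lt_add_one_iff.1 h) h1)
  letI := QCoh.stalkAlg (X := X) hzV
  letI := QCoh.stalkModule F hzV
  haveI := QCoh.isScalarTower_stalk F hzV
  haveI := QCoh.isLocalization_stalk' hV hzV
  haveI := QCoh.isLocalizedModule_germLin hF.1.1 hV hzV
  obtain ⟨c, hc⟩ := mem_span_of_maximal_smul (y := F.presheaf.germ V z hzV m)
    (s := F.presheaf.germ V z hzV sV) (fun h => hs0 z ((hgerm z hzV).symm.trans h)) (two_le_depth_of_normal _ h2) hnf fun a ha => by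
    rw [← IsLocalization.AtPrime.map_eq_maximalIdeal p.asIdeal (X.presheaf.stalk z),
      IsLocalization.mem_map_algebraMap_iff p.asIdeal.primeCompl] at ha
    obtain ⟨⟨⟨b, hb⟩, t⟩, hbt⟩ := ha
    have hb' := (hm b).1 hb
    rw [← Submodule.Quotient.mk_smul, Submodule.Quotient.mk_eq_zero, Submodule.mem_span_singleton] at hb'
    obtain ⟨c, hc⟩ := hb'
    refine ⟨IsLocalization.mk' _ c t, (IsLocalization.map_units (X.presheaf.stalk z) t).smul_left_cancel.1 ?_⟩
    rw [← smul_assoc, smul_eq_mul, IsLocalization.mk'_spec' (X.presheaf.stalk z) c t, algebraMap_smul,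
      ← smul_assoc, smul_eq_mul, mul_comm, hbt, algebraMap_smul]
    change c • QCoh.germLin F hzV sV = b • QCoh.germLin F hzV m
    rw [← map_smul, ← map_smul, hc]
  obtain ⟨a, t, rfl⟩ := IsLocalization.exists_mk'_eq p.asIdeal.primeCompl c
  have h3 : QCoh.germLin F hzV (a • sV - (t : Γ(X, V)) • m) = 0 := by
    rw [map_sub, map_smul, map_smul, sub_eq_zero]
    change a • F.presheaf.germ V z hzV sV = (t : Γ(X, V)) • F.presheaf.germ V z hzV m
    rw [← hc, ← smul_assoc, Algebra.smul_def, IsLocalization.mk'_spec' (X.presheaf.stalk z) a t, algebraMap_smul]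
  obtain ⟨u, hu⟩ := (IsLocalizedModule.eq_zero_iff p.asIdeal.primeCompl _).1 h3
  refine (u * t).2 ((hm (u.1 * t.1)).2 ?_)
  rw [← Submodule.Quotient.mk_smul, Submodule.Quotient.mk_eq_zero, Submodule.mem_span_singleton]
  refine ⟨u.1 * a, ?_⟩
  rw [Submonoid.smul_def, smul_sub, smul_smul, smul_smul, sub_eq_zero] at hu
  exact hu

end Groth.Agent.RefX
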