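import Groth.Agent.RefX.Transfer
import Groth.Agent.RefX.Hartogs
import Groth.Agent.RefX.Normal
import Groth.Agent.RefX.RankOne
import Groth.Agent.RefX.Frames

/-!
# Sections of reflexive modules on normal schemes are determined in codimension one
-/

universe u

set_option backward.isDefEq.respectTransparency false
set_option backward.isDefEq.respectTransparency.types false
set_option linter.style.haveILetI false

open CategoryTheory AlgebraicGeometry TopologicalSpace Opposite

namespace Groth.Agent.RefX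

variable {X : Scheme.{u}} [IsLocallyNoetherian X] {F : X.Modules}

/-- Sections of a reflexive module extend uniquely from an open subset containing the points of
codimension at most one. -/
theorem bijective_res_of_dim (hX : Pi1.IsNormalScheme X) (hF : Coh.IsCoh F) (hr : RefHull.IsReflexive F)
    {W W' : X.Opens} (h : W' ≤ W)
    (hd : ∀ x : X, x ∈ W → x ∉ W' → (2 : WithBot ℕ∞) ≤ ringKrullDim (X.presheaf.stalk x)) :
    Function.Bijective (AModX.res F h) := by
  haveI : IsLocallyNoetherian (W : Scheme.{u}) := isLocallyNoetherian_of_isOpenImmersion W.ι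
  have hG : Coh.IsCoh (F.restrict W.ι) :=
    ⟨QCoh.isQCoh_restrict _ hF.1, Algz7.isFT_restrict _ hF.1 hF.2⟩
  have hGr : RefHull.IsReflexive (F.restrict W.ι) :=
    (isReflexive_iff hG).2 fun y => (isReflexiveAt_restrict_iff _ y).2 ((isReflexive_iff hF).1 hr _)
  have hdep : ∀ y : (W : Scheme.{u}), y ∉ W.ι ⁻¹ᵁ W' →
      (2 : ℕ∞) ≤ LocCoh.depth ((W : Scheme.{u}).presheaf.stalk y) ((W : Scheme.{u}).presheaf.stalk y) := by
    intro y hy
    let σ := (asIso (W.ι.stalkMap y)).commRingCatIsoToRingEquiv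
    haveI := (hX (W.ι.base y)).1
    haveI := (hX (W.ι.base y)).2
    haveI : IsDomain ((W : Scheme.{u}).presheaf.stalk y) := MulEquiv.isDomain _ σ.symm.toMulEquiv
    haveI : IsIntegrallyClosed ((W : Scheme.{u}).presheaf.stalk y) := IsIntegrallyClosed.of_equiv σ
    refine two_le_depth_of_normal _ ?_
    rw [← ringKrullDim_eq_of_ringEquiv σ]
    exact hd _ y.2 hy
  refine bijective_res_congr (h := W.ι.image_mono (inf_le_left : ⊤ ⊓ W.ι ⁻¹ᵁ W' ≤ ⊤)) ?_ ?_
    (extendsAcross_reflexive hG hGr hdep ⊤)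
  · rw [top_inf_eq, Scheme.Hom.image_preimage_eq_opensRange_inf, Scheme.Opens.opensRange_ι, inf_eq_right.2 h]
  · rw [Scheme.Hom.image_top_eq_opensRange, Scheme.Opens.opensRange_ι]

variable [IsIntegral X]

/-- A germ at the generic point lying in the stalks at codimension one points extends. -/
theorem exists_section_of_mem_range (hX : Pi1.IsNormalScheme X) (hF : Coh.IsCoh F) (hr : RefHull.IsReflexive F)
    {W : X.Opens} (hη : genericPoint X ∈ W) {v : F.presheaf.stalk (genericPoint X)}
    (hv : ∀ x : X, x ∈ W → Order.coheight x = 1 → v ∈ Set.range (spM F (specializes_genericPoint x))) :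
    ∃ t : Γ(F, W), F.presheaf.germ W (genericPoint X) hη t = v := by
  have htf : ∀ x : X, Module.IsTorsionFree (X.presheaf.stalk x) (F.presheaf.stalk x) := fun x => by
    haveI : Module.IsReflexive (X.presheaf.stalk x) (F.presheaf.stalk x) := (isReflexive_iff hF).1 hr x
    infer_instance
  let S := {V : X.Opens // V ≤ W ∧ ∃ (h : genericPoint X ∈ V) (t : Γ(F, V)), F.presheaf.germ V (genericPoint X) h t = v}
  let W' : X.Opens := ⨆ V : S, V.1
  have hW' : W' ≤ W := iSup_le fun V => V.2.1
  have hS : ∀ V : S, ∃ (h : genericPoint X ∈ V.1) (t : Γ(F, V.1)), F.presheaf.germ V.1 (genericPoint X) h t = v :=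
    fun V => V.2.2
  choose hηV t ht using hS
  obtain ⟨t', ht', -⟩ := AModX.existsUnique_glue (M := F) (V := W') (fun V : S => V.1)
    (fun V => le_iSup (fun V : S => V.1) V)
    (fun p hp => by
      obtain ⟨V, hV⟩ := Opens.mem_iSup.1 hp
      exact ⟨V, hV⟩) t fun a b => by
      refine sub_eq_zero.1 (germ_eq_zero_of_generic hF htf _ (show genericPoint X ∈ a.1 ⊓ b.1 from ⟨hηV a, hηV b⟩) ?_)
      rw [map_sub, InvX.germ_res', InvX.germ_res', ht, ht, sub_self]
  obtain ⟨O, hO, m, hm⟩ := TopCat.Presheaf.exists_germ_eq F.presheaf v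
  let V₀ : S := ⟨O ⊓ W, inf_le_right, ⟨hO, hη⟩, AModX.res F inf_le_left m, (InvX.germ_res' _ _ _).trans hm⟩
  have hηW' : genericPoint X ∈ W' := le_iSup (fun V : S => V.1) V₀ (show genericPoint X ∈ O ⊓ W from ⟨hO, hη⟩)
  have hd : ∀ x : X, x ∈ W → x ∉ W' → (2 : WithBot ℕ∞) ≤ ringKrullDim (X.presheaf.stalk x) := by
    intro x hx hx'
    refine two_le_ringKrullDim_of (fun h0 => hx' ?_) fun h1 => hx' ?_
    · exact h0 ▸ hηW'
    · obtain ⟨w, hw⟩ := hv x hx h1
      obtain ⟨O₁, hO₁, m₁, rfl⟩ := TopCat.Presheaf.exists_germ_eq F.presheaf w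
      rw [spM_germ] at hw
      have hη₁ := (specializes_genericPoint x).mem_open O₁.2 hO₁
      let V₁ : S := ⟨O₁ ⊓ W, inf_le_right, ⟨hη₁, hη⟩, AModX.res F inf_le_left m₁, (InvX.germ_res' _ _ _).trans hw⟩
      exact le_iSup (fun V : S => V.1) V₁ (show x ∈ O₁ ⊓ W from ⟨hO₁, hx⟩)
  obtain ⟨T, hT⟩ := (bijective_res_of_dim hX hF hr hW' hd).2 t'
  refine ⟨T, ?_⟩
  have h2 := ht' V₀
  rw [← hT, AModX.res_res] at h2
  rw [← ht V₀, ← h2, InvX.germ_res']
where
  two_le_ringKrullDim_of {x : X} (h0 : x ≠ genericPoint X) (h1 : Order.coheight x ≠ 1) :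
      (2 : WithBot ℕ∞) ≤ ringKrullDim (X.presheaf.stalk x) := by
    rw [ringKrullDim_stalk_eq_coheight]
    have h2 : Order.coheight x ≠ 0 := fun h => h0 <| by
      have hm := Order.coheight_eq_zero.1 h
      exact ((specializes_genericPoint x).antisymm (hm (specializes_genericPoint x))).symm.eq
    have h3 : (2 : ℕ∞) ≤ Order.coheight x := by
      rcases hcx : Order.coheight x with _ | n
      · exact le_top
      · rw [hcx] at h1 h2
        match n, h1, h2 with
        | 0, _, h2 => exact absurd rfl h2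
        | 1, h1, _ => exact absurd rfl h1
        | m + 2, _, _ => exact (show ((2 : ℕ) : ℕ∞) ≤ ((m + 2 : ℕ) : ℕ∞) from Nat.cast_le.2 (by omega))
    exact (show ((2 : ℕ∞) : WithBot ℕ∞) ≤ ((Order.coheight x : ℕ∞) : WithBot ℕ∞) from WithBot.coe_le_coe.2 h3)

end Groth.Agent.RefX
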