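import Groth.Agent.RefX.QCoh
import Groth.Agent.InvX.Tensor
import Groth.Agent.QCoh.VanIdeal
import Groth.Agent.MiscSh16.StalkBij
import Groth.Agent.ZClosLib.Basic

/-!
# Reflexive coherent modules and their stalks
-/

universe u

set_option backward.isDefEq.respectTransparency false
set_option backward.isDefEq.respectTransparency.types false
set_option linter.style.haveILetI false

open CategoryTheory AlgebraicGeometry TopologicalSpace Opposite

namespace Groth.Agent.RefX

variable {X : Scheme.{u}} {F G : X.Modules}

/-- The stalk of the structure module is the local ring. -/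
noncomputable def unitStalk (x : X) :
    X.presheaf.stalk x ≃ₗ[X.presheaf.stalk x] (Coh.structureModule X).presheaf.stalk x :=
  LinearEquiv.ofBijective
    (LinearMap.toSpanSingleton (X.presheaf.stalk x) _
      ((Coh.structureModule X).presheaf.germ ⊤ x trivial (show Γ(Coh.structureModule X, ⊤) from (1 : Γ(X, ⊤)))))
    ((InvX.isFrame_one (⊤ : X.Opens)).germ_bijective (x := x) trivial)

/-- The stalk of the dual is the dual of the stalk. -/
noncomputable def dualStalk (hF : CohB1.IsFP F) (x : X) :
    (RefHull.dual F).presheaf.stalk x ≃ₗ[X.presheaf.stalk x]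
      Module.Dual (X.presheaf.stalk x) (F.presheaf.stalk x) :=
  (LinearEquiv.ofBijective (RefHull.evalStalk F (Coh.structureModule X) x) (evalStalk_bijective hF x)).trans
    (unitStalk x).symm.congrRight

/-- The pointwise biduality map is bijective iff the stalk is reflexive. -/
theorem bidualAt_bijective_iff (hF : CohB1.IsFP F) (x : X) :
    Function.Bijective (RefHull.bidualAt F x) ↔ RefHull.IsReflexiveAt F x := by
  let e : Module.Dual (X.presheaf.stalk x) (Module.Dual (X.presheaf.stalk x) (F.presheaf.stalk x)) ≃ₗ[X.presheaf.stalk x]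
      RefHull.StalkHom (RefHull.dual F) (Coh.structureModule X) x :=
    (dualStalk hF x).symm.arrowCongr (unitStalk x)
  have key : RefHull.bidualAt F x =
      e.toLinearMap.comp (Module.Dual.eval (X.presheaf.stalk x) (F.presheaf.stalk x)) := by
    refine LinearMap.ext fun v => LinearMap.ext fun θ => ?_
    show RefHull.evalStalk F _ x θ v = unitStalk x ((unitStalk x).symm (RefHull.evalStalk F _ x θ v))
    rw [LinearEquiv.apply_symm_apply]
  rw [key, LinearMap.coe_comp, LinearEquiv.coe_coe, Function.Bijective.of_comp_iff' e.bijective]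
  exact ⟨fun h => ⟨h⟩, fun h => h.bijective_dual_eval'⟩

variable [IsLocallyNoetherian X]

theorem isCoh_unit : Coh.IsCoh (Coh.structureModule X) := by
  refine QCoh.isCoh_iff.2 ⟨QCoh.isQCoh_structureModule, fun U => ?_⟩
  exact Module.Finite.self _

theorem isCoh_dual (hF : Coh.IsCoh F) : Coh.IsCoh (RefHull.dual F) := isCoh_homSh hF isCoh_unit

/-- The stalks of the biduality map. -/
theorem stalkMap_bidual_bijective_iff (hF : Coh.IsCoh F) (x : X) :
    Function.Bijective (RefHull.stalkMapₗ (RefHull.bidualMap F) x) ↔ RefHull.IsReflexiveAt F x := by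
  rw [← bidualAt_bijective_iff (QCoh.isCoh_iff_isFP.1 hF)]
  have hb := evalStalk_bijective (G := Coh.structureModule X) (QCoh.isCoh_iff_isFP.1 (isCoh_dual hF)) x
  have key : RefHull.bidualAt F x = (RefHull.evalStalk (RefHull.dual F) (Coh.structureModule X) x).comp
      (RefHull.stalkMapₗ (RefHull.bidualMap F) x) := by
    refine LinearMap.ext fun v => ?_
    obtain ⟨U, hx, m, rfl⟩ := TopCat.Presheaf.exists_germ_eq F.presheaf v
    rw [LinearMap.comp_apply, RefHull.stalkMapₗ_germ, RefHull.evalStalk_germ, RefHull.bidualMap_app_apply]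
  rw [key, LinearMap.coe_comp, Function.Bijective.of_comp_iff' hb]

/-- A coherent module is reflexive iff all its stalks are. -/
theorem isReflexive_iff (hF : Coh.IsCoh F) :
    RefHull.IsReflexive F ↔ ∀ x : X, RefHull.IsReflexiveAt F x := by
  refine ⟨fun h x => ?_, fun h => ?_⟩
  · haveI : IsIso (RefHull.bidualMap F) := h
    refine (stalkMap_bidual_bijective_iff hF x).1 ?_
    haveI : IsIso (RefHull.bidualMap F).mapPresheaf :=
      inferInstanceAs (IsIso ((Scheme.Modules.toPresheaf X).map (RefHull.bidualMap F)))
    exact (ConcreteCategory.isIso_iff_bijective ((TopCat.Presheaf.stalkFunctor Ab x).map (RefHull.bidualMap F).mapPresheaf)).1 inferInstance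
  · exact ZClosLib.isIso_of_stalkMap_bijective _ fun x => (stalkMap_bidual_bijective_iff hF x).2 (h x)

/-- Reflexivity of stalks is stable under generalization. -/
theorem isReflexiveAt_of_specializes (hF : Coh.IsCoh F) {x z : X} (h : x ⤳ z)
    (hz : RefHull.IsReflexiveAt F z) : RefHull.IsReflexiveAt F x :=
  (stalkMap_bidual_bijective_iff hF x).1 <|
    (MiscSh16.isOpen_bijective_locus hF (isCoh_dual (isCoh_dual hF)) (RefHull.bidualMap F)).stableUnderGeneralization
      h ((stalkMap_bidual_bijective_iff hF z).2 hz)

end Groth.Agent.RefX
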