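import Groth.Agent.RefX.Hom
import Groth.Agent.QCoh.Support
import Groth.Agent.QCoh.LocFree
import Mathlib.Algebra.Module.FinitePresentation

/-!
# Sections of the sheaf Hom from linear maps on an affine open

For `F` quasi-coherent and `U` affine, an `O(U)`-linear map `F(U) → G(W)` (`W ≤ U`) gives a section of
`homSh F G` over `W`; consequently `evalStalk` is bijective for `F` of finite presentation.
-/

universe u

set_option backward.isDefEq.respectTransparency false
set_option backward.isDefEq.respectTransparency.types false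
set_option linter.style.haveILetI false

open CategoryTheory AlgebraicGeometry TopologicalSpace Opposite

namespace Groth.Agent.RefX

variable {X : Scheme.{u}} {F G : X.Modules}

/-- Sections over a smaller open as a module over the bigger ring. -/
noncomputable abbrev resModule (G : X.Modules) {U W : X.Opens} (h : W ≤ U) : Module Γ(X, U) Γ(G, W) :=
  Module.compHom _ (AModX.resR h)

variable {U W : X.Opens}

/-- A map into sections, composed with the germ. -/
noncomputable def toStalk (h : W ≤ U) (θ : letI := resModule G h; Γ(F, U) →ₗ[Γ(X, U)] Γ(G, W)) (y : W) :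
    letI := QCoh.stalkModule G (h y.2); Γ(F, U) →ₗ[Γ(X, U)] G.presheaf.stalk y.1 :=
  letI := resModule G h
  letI := QCoh.stalkModule G (h y.2)
  { toFun := fun m => G.presheaf.germ W y.1 y.2 (θ m)
    map_add' := fun a b => by rw [map_add, map_add]
    map_smul' := fun r m => by
      rw [map_smul]
      show G.presheaf.germ W y.1 y.2 (AModX.resR h r • θ m) = X.presheaf.germ U y.1 (h y.2) r • G.presheaf.germ W y.1 y.2 (θ m)
      rw [QCoh.germ_smul', germ_resR] }

variable (hF : Coh.IsQCoh F) (hU : IsAffineOpen U)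

include hU in
theorem isUnit_end {x : X} (hx : x ∈ U) (G : X.Modules) (s : (hU.primeIdealOf ⟨x, hx⟩).asIdeal.primeCompl) :
    letI := QCoh.stalkModule G hx
    IsUnit ((algebraMap Γ(X, U) (Module.End Γ(X, U) (G.presheaf.stalk x))) s) := by
  letI := QCoh.stalkModule G hx
  rw [Module.End.isUnit_iff]
  have hu := (X.mem_basicOpen _ x hx).1 ((QCoh.mem_basicOpen_iff_notMem hU hx s.1).2 s.2)
  refine ⟨fun a b hab => hu.smul_left_cancel.1 hab, fun b => ⟨hu.unit⁻¹.val • b, ?_⟩⟩
  show X.presheaf.germ U x hx s.1 • hu.unit⁻¹.val • b = b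
  rw [← mul_smul, IsUnit.mul_val_inv, one_smul]

include hF hU in
theorem exists_stalkHom (h : W ≤ U) (θ : letI := resModule G h; Γ(F, U) →ₗ[Γ(X, U)] Γ(G, W)) (y : W) :
    ∃ φ : RefHull.StalkHom F G y.1, ∀ m,
      φ (F.presheaf.germ U y.1 (h y.2) m) = toStalk h θ y m := by
  letI := QCoh.stalkAlg (X := X) (h y.2)
  letI := QCoh.stalkModule F (h y.2)
  letI := QCoh.stalkModule G (h y.2)
  haveI := QCoh.isScalarTower_stalk F (h y.2)
  haveI := QCoh.isScalarTower_stalk G (h y.2)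
  haveI := QCoh.isLocalization_stalk' hU (h y.2)
  haveI := QCoh.isLocalizedModule_germLin hF hU (h y.2)
  refine ⟨LinearMap.extendScalarsOfIsLocalization (hU.primeIdealOf ⟨y.1, h y.2⟩).asIdeal.primeCompl _
    (IsLocalizedModule.lift (hU.primeIdealOf ⟨y.1, h y.2⟩).asIdeal.primeCompl (QCoh.germLin F (h y.2))
      (toStalk h θ y) (isUnit_end hU (h y.2) G)), fun m => ?_⟩
  exact LinearMap.congr_fun (IsLocalizedModule.lift_comp (hU.primeIdealOf ⟨y.1, h y.2⟩).asIdeal.primeCompl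
    (QCoh.germLin F (h y.2)) (toStalk h θ y) (isUnit_end hU (h y.2) G)) m

include hF hU in
theorem stalkHom_ext {x : X} (hx : x ∈ U) {φ ψ : RefHull.StalkHom F G x}
    (e : ∀ m : Γ(F, U), φ (F.presheaf.germ U x hx m) = ψ (F.presheaf.germ U x hx m)) : φ = ψ := by
  letI := QCoh.stalkModule F hx
  haveI := QCoh.isLocalizedModule_germLin hF hU hx
  refine LinearMap.ext fun v => ?_
  obtain ⟨⟨m, s⟩, hms⟩ := IsLocalizedModule.surj (hU.primeIdealOf ⟨x, hx⟩).asIdeal.primeCompl (QCoh.germLin F hx) v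
  have hu := (X.mem_basicOpen _ x hx).1 ((QCoh.mem_basicOpen_iff_notMem hU hx s.1).2 s.2)
  refine hu.smul_left_cancel.1 ?_
  rw [← map_smul, ← map_smul]
  show φ (s.1 • v) = ψ (s.1 • v)
  rw [show s.1 • v = QCoh.germLin F hx m from hms]
  exact e m

include hF hU in
theorem exists_ofLin (h : W ≤ U) (θ : letI := resModule G h; Γ(F, U) →ₗ[Γ(X, U)] Γ(G, W)) :
    ∃ g : Γ(RefHull.homSh F G, W), ∀ (y : W) m,
      g.1 y (F.presheaf.germ U y.1 (h y.2) m) = toStalk h θ y m := by
  letI := resModule G h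
  choose φ hφ using exists_stalkHom hF hU h θ
  refine ⟨⟨φ, fun V i m y => ?_⟩, hφ⟩
  have hyU : y.1 ∈ U := h (i.le y.2)
  letI := QCoh.stalkModule F hyU
  haveI := QCoh.isLocalizedModule_germLin hF hU hyU
  obtain ⟨⟨m₀, s⟩, hms⟩ := IsLocalizedModule.surj (hU.primeIdealOf ⟨y.1, hyU⟩).asIdeal.primeCompl
    (QCoh.germLin F hyU) (F.presheaf.germ V y.1 y.2 m)
  let V₁ : X.Opens := V ⊓ X.basicOpen s.1
  have hyV₁ : y.1 ∈ V₁ := ⟨y.2, (QCoh.mem_basicOpen_iff_notMem hU hyU s.1).2 s.2⟩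
  have hV₁U : V₁ ≤ U := inf_le_right.trans (X.basicOpen_le s.1)
  have he : F.presheaf.germ V₁ y.1 hyV₁ (AModX.resR hV₁U s.1 • AModX.res F inf_le_left m) =
      F.presheaf.germ V₁ y.1 hyV₁ (AModX.res F hV₁U m₀) := by
    rw [QCoh.germ_smul', germ_resR, germ_res, germ_res]
    exact hms
  obtain ⟨W', hyW', a, a', haa⟩ := TopCat.Presheaf.germ_eq F.presheaf y.1 hyV₁ hyV₁ _ _ he
  have hW'V : W' ≤ V := a.le.trans inf_le_left
  obtain ⟨u, hu⟩ := AModX.isUnit_resR (le_trans (a.le.trans inf_le_right) (X.basicOpen_le s.1)) s.1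
    (a.le.trans inf_le_right)
  refine ⟨W', hyW', homOfLE hW'V, ((u⁻¹ : Γ(X, W')ˣ) : Γ(X, W')) • AModX.res G (hW'V.trans i.le) (θ m₀), fun z => ?_⟩
  have hzU : z.1 ∈ U := hV₁U (a.le z.2)
  have h1 := congrArg (F.presheaf.germ W' z.1 z.2) haa
  change F.presheaf.germ W' z.1 z.2 (AModX.res F a.le _) = F.presheaf.germ W' z.1 z.2 (AModX.res F a'.le _) at h1
  rw [germ_res, germ_res, QCoh.germ_smul', germ_resR, germ_res, germ_res] at h1
  have h2 := congrArg (φ ⟨z.1, i.le (hW'V z.2)⟩) h1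
  rw [map_smul, hφ] at h2
  have hz : IsUnit (X.presheaf.germ U z.1 hzU s.1) := (X.mem_basicOpen _ z.1 hzU).1 ((a.le z.2).2)
  refine hz.smul_left_cancel.1 (h2.trans ?_)
  rw [QCoh.germ_smul', ← mul_smul, ← germ_resR (hV₁U.trans' a.le) z.2 s.1, ← hu, ← map_mul, Units.mul_inv,
    map_one, one_smul, germ_res]
  rfl

/-- The section of the sheaf Hom given by a linear map on an affine open. -/
noncomputable def ofLin (h : W ≤ U) (θ : letI := resModule G h; Γ(F, U) →ₗ[Γ(X, U)] Γ(G, W)) :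
    Γ(RefHull.homSh F G, W) :=
  (exists_ofLin hF hU h θ).choose

theorem ofLin_germ (h : W ≤ U) (θ : letI := resModule G h; Γ(F, U) →ₗ[Γ(X, U)] Γ(G, W)) {y : X} (hy : y ∈ W)
    (m : Γ(F, U)) :
    (ofLin hF hU h θ).1 ⟨y, hy⟩ (F.presheaf.germ U y (h hy) m) = G.presheaf.germ W y hy (θ m) :=
  (exists_ofLin hF hU h θ).choose_spec ⟨y, hy⟩ m

include hF hU in
theorem sect_ext_affine (h : W ≤ U) {g g' : Γ(RefHull.homSh F G, W)}
    (e : ∀ (y : W) (m : Γ(F, U)), g.1 y (F.presheaf.germ U y.1 (h y.2) m) = g'.1 y (F.presheaf.germ U y.1 (h y.2) m)) :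
    g = g' :=
  sect_ext fun y => stalkHom_ext hF hU (h y.2) (e y)

include hF hU in
/-- A map on a stalk comes from a linear map into sections nearby. -/
theorem exists_lin [Module.FinitePresentation Γ(X, U) Γ(F, U)] {x : X} (hx : x ∈ U) (f : RefHull.StalkHom F G x) :
    ∃ (W : X.Opens) (h : W ≤ U) (hxW : x ∈ W) (θ : letI := resModule G h; Γ(F, U) →ₗ[Γ(X, U)] Γ(G, W)),
      ∀ m, G.presheaf.germ W x hxW (θ m) = f (F.presheaf.germ U x hx m) := by
  classical
  obtain ⟨n, K, e, hK⟩ := Module.FinitePresentation.exists_fin Γ(X, U) Γ(F, U)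
  let π : (Fin n → Γ(X, U)) →ₗ[Γ(X, U)] Γ(F, U) := e.symm.toLinearMap.comp K.mkQ
  have hn : ∀ i, ∃ (V : X.Opens) (hV : x ∈ V) (v : Γ(G, V)),
      G.presheaf.germ V x hV v = f (F.presheaf.germ U x hx (π (Pi.single i 1))) := fun i =>
    TopCat.Presheaf.germ_exist G.presheaf _
  choose V hxV v hv using hn
  let W₀ : X.Opens := U ⊓ Finset.univ.inf V
  have hxW₀ : x ∈ W₀ := ⟨hx, by
    show x ∈ ((Finset.univ.inf V : X.Opens) : Set X)
    simp [TopologicalSpace.Opens.coe_finset_inf, hxV]⟩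
  have hW₀V : ∀ i, W₀ ≤ V i := fun i => inf_le_right.trans (Finset.inf_le (Finset.mem_univ i))
  letI := resModule G (inf_le_left : W₀ ≤ U)
  let ν : (Fin n → Γ(X, U)) →ₗ[Γ(X, U)] Γ(G, W₀) :=
    Fintype.linearCombination Γ(X, U) fun i => AModX.res G (hW₀V i) (v i)
  letI := QCoh.stalkModule G hx
  letI := QCoh.stalkModule F hx
  have hsm : ∀ (r : Γ(X, U)) (z : Γ(G, W₀)),
      G.presheaf.germ W₀ x hxW₀ (r • z) = X.presheaf.germ U x hx r • G.presheaf.germ W₀ x hxW₀ z := fun r z => by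
    show G.presheaf.germ W₀ x hxW₀ (AModX.resR (inf_le_left : W₀ ≤ U) r • z) = _
    rw [QCoh.germ_smul', germ_resR]
  have hνg : ∀ c, G.presheaf.germ W₀ x hxW₀ (ν c) = f (F.presheaf.germ U x hx (π c)) := fun c => by
    have hc : c = ∑ i, c i • (Pi.single i 1 : Fin n → Γ(X, U)) := by
      funext j; simp [Finset.sum_apply, Pi.single_apply]
    conv_rhs => rw [hc, map_sum, map_sum, map_sum]
    rw [Fintype.linearCombination_apply, map_sum]
    refine Finset.sum_congr rfl fun i _ => ?_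
    rw [hsm, germ_res, hv, map_smul π, QCoh.germ_smul', map_smul]
  obtain ⟨s, hs⟩ := hK
  have hk : ∀ c : s, ∃ (W' : X.Opens) (hle : W' ≤ W₀), x ∈ W' ∧ AModX.res G hle (ν c.1) = 0 := fun c => by
    have hπ : π c.1 = 0 := by
      have : K.mkQ c.1 = 0 := (Submodule.Quotient.mk_eq_zero K).2 (hs ▸ Submodule.subset_span c.2)
      show e.symm (K.mkQ c.1) = 0
      rw [this, map_zero]
    have h0 : G.presheaf.germ W₀ x hxW₀ (ν c.1) = G.presheaf.germ W₀ x hxW₀ 0 := by
      rw [hνg, hπ, map_zero, map_zero, map_zero]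
    obtain ⟨W', hxW', i, i', hii⟩ := TopCat.Presheaf.germ_eq G.presheaf x hxW₀ hxW₀ _ _ h0
    exact ⟨W', i.le, hxW', hii.trans (map_zero _)⟩
  choose W' hle hxW' hW' using hk
  let W : X.Opens := W₀ ⊓ Finset.univ.inf W'
  have hxW : x ∈ W := ⟨hxW₀, by
    show x ∈ ((Finset.univ.inf W' : X.Opens) : Set X)
    simp [TopologicalSpace.Opens.coe_finset_inf, hxW']⟩
  have hWU : W ≤ U := inf_le_left.trans inf_le_left
  letI := resModule G hWU
  let ν' : (Fin n → Γ(X, U)) →ₗ[Γ(X, U)] Γ(G, W) :=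
    { toFun := fun c => AModX.res G (inf_le_left : W ≤ W₀) (ν c)
      map_add' := fun a b => by rw [map_add, map_add]
      map_smul' := fun r c => by
        rw [map_smul]
        show AModX.res G (inf_le_left : W ≤ W₀) (AModX.resR (inf_le_left : W₀ ≤ U) r • ν c) = AModX.resR hWU r • AModX.res G (inf_le_left : W ≤ W₀) (ν c)
        rw [AModX.res_smul, AModX.resR_resR] }
  have hker : K ≤ LinearMap.ker ν' := by
    rw [← hs, Submodule.span_le]
    intro c hc
    show AModX.res G (inf_le_left : W ≤ W₀) (ν c) = 0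
    rw [← AModX.res_res (hle ⟨c, hc⟩) (inf_le_right.trans (Finset.inf_le (Finset.mem_univ _))), hW', map_zero]
  refine ⟨W, hWU, hxW, (K.liftQ ν' hker).comp e.toLinearMap, fun m => ?_⟩
  obtain ⟨c, hc⟩ := K.mkQ_surjective (e m)
  have hm : π c = m := by show e.symm (K.mkQ c) = m; rw [hc, e.symm_apply_apply]
  show G.presheaf.germ W x hxW (K.liftQ ν' hker (e m)) = _
  rw [← hc, Submodule.mkQ_apply, Submodule.liftQ_apply]
  show G.presheaf.germ W x hxW (AModX.res G inf_le_left (ν c)) = _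
  rw [germ_res, hνg, hm]

/-- `evalStalk` is bijective for `F` of finite presentation. -/
theorem evalStalk_bijective (hF : CohB1.IsFP F) (x : X) : Function.Bijective (RefHull.evalStalk F G x) := by
  have hq : Coh.IsQCoh F := by
    haveI := hF; exact (inferInstance : SheafOfModules.IsQuasicoherent (R := X.ringCatSheaf) F)
  refine ⟨evalStalk_injective (QCoh.isFT_of_isFP hF) x, fun f => ?_⟩
  obtain ⟨_, ⟨U, hU, rfl⟩, hx, -⟩ :=
    X.isBasis_affineOpens.exists_subset_of_mem_open (Set.mem_univ x) isOpen_univ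
  have hU' : IsAffineOpen U := hU
  haveI := QCoh.finitePresentation_of_isFP hF hU'
  obtain ⟨W, h, hxW, θ, hθ⟩ := exists_lin hq hU' hx f
  refine ⟨(RefHull.homSh F G).presheaf.germ W x hxW (ofLin hq hU' h θ), ?_⟩
  rw [RefHull.evalStalk_germ]
  exact stalkHom_ext hq hU' hx fun m => (ofLin_germ hq hU' h θ hxW m).trans (hθ m)

end Groth.Agent.RefX
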