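import Groth.Agent.RefX.ExtSect
import Groth.Agent.H23.PrincipalGlobal
import Groth.Agent.S2821
import Groth.Agent.S1690
import Groth.Agent.Lib.BasisHom
import Groth.Prelude.Def_TorSh

/-!
# Reflexive modules on regular schemes are the torsion-free normal ones
-/

universe u

set_option backward.isDefEq.respectTransparency false
set_option backward.isDefEq.respectTransparency.types false
set_option linter.style.haveILetI false

open CategoryTheory AlgebraicGeometry TopologicalSpace Opposite

namespace Groth.Agent.RefX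

variable {X : Scheme.{u}} [IsLocallyNoetherian X]

/-- A regular integral scheme is normal. -/
theorem normal_of_regular [IsIntegral X] (hreg : ∀ x : X, IsRegularLocalRing (X.presheaf.stalk x)) :
    Pi1.IsNormalScheme X :=
  H23.PrincipalGlobal.normal_of_ufd fun x => by
    haveI := hreg x
    exact (S2821.result (X.presheaf.stalk x)).2

/-- On a normal scheme, torsion-free stalks at points of codimension at most one are free. -/
theorem free_of_torsionFree_of_dim_lt_two (hX : Pi1.IsNormalScheme X) {F : X.Modules}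
    (hF : Coh.IsCoh F) (x : X) (ht : Module.IsTorsionFree (X.presheaf.stalk x) (F.presheaf.stalk x))
    (hd : ringKrullDim (X.presheaf.stalk x) < 2) :
    Module.Free (X.presheaf.stalk x) (F.presheaf.stalk x) := by
  obtain ⟨h1, h2⟩ := hX x
  haveI := h1
  haveI := h2
  haveI := ht
  haveI := QCoh.finite_stalk_of_isFT hF.1 hF.2 x
  by_cases hf : IsField (X.presheaf.stalk x)
  · let := hf.toField
    exact Module.Free.of_divisionRing _ _
  have h : ringKrullDim (X.presheaf.stalk x) = 1 := by
    refine le_antisymm ?_ ?_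
    · exact ENat.WithBot.lt_add_one_iff.1 hd
    · refine not_lt.1 fun h => hf ?_
      haveI : Ring.KrullDimLE 0 (X.presheaf.stalk x) :=
        Ring.krullDimLE_iff.2 (ENat.WithBot.lt_add_one_iff.1 (by simpa using h))
      exact Ring.KrullDimLE.isField_of_isDomain
  haveI := CDiv6.isDVR_of_dim_eq_one (X.presheaf.stalk x) h
  exact Module.free_of_finite_type_torsion_free'

variable [IsIntegral X]

/-- Reflexive modules are torsion-free. -/
theorem isTorsionFree_of_isReflexive {F : X.Modules} (hF : Coh.IsCoh F) (hr : RefHull.IsReflexive F) :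
    TorSh.IsTorsionFree F := fun x => by
  haveI : Module.IsReflexive (X.presheaf.stalk x) (F.presheaf.stalk x) := (isReflexive_iff hF).1 hr x
  infer_instance

/-- Reflexive modules are normal. -/
theorem normal_of_isReflexive (hX : Pi1.IsNormalScheme X) {F : X.Modules} (hF : Coh.IsCoh F)
    (hr : RefHull.IsReflexive F) (U V : X.Opens) (hVU : V ≤ U)
    (hd : ∀ x : X, x ∈ U → x ∉ V → (2 : WithBot ℕ∞) ≤ ringKrullDim (X.presheaf.stalk x)) :
    Function.Bijective (F.presheaf.map (homOfLE hVU).op) :=
  bijective_res_of_dim hX hF hr hVU hd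

/-- Torsion-free normal modules are reflexive. -/
theorem isReflexive_of_normal (hX : Pi1.IsNormalScheme X) {F : X.Modules} (hF : Coh.IsCoh F)
    (ht : TorSh.IsTorsionFree F)
    (hn : ∀ (U V : X.Opens) (hVU : V ≤ U),
      (∀ x : X, x ∈ U → x ∉ V → (2 : WithBot ℕ∞) ≤ ringKrullDim (X.presheaf.stalk x)) →
        Function.Bijective (F.presheaf.map (homOfLE hVU).op)) :
    RefHull.IsReflexive F := by
  refine (isReflexive_iff hF).2 ((S1690.result X hX F hF).2 ?_)
  have hU : ∀ x : X, x ∉ freeLocus F hF → (2 : WithBot ℕ∞) ≤ ringKrullDim (X.presheaf.stalk x) := fun x hx =>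
    not_lt.1 fun h => hx (free_of_torsionFree_of_dim_lt_two hX hF x (ht x) h)
  exact ⟨freeLocus F hF, hU, isFinLocFree_restrict hF _ fun x hx => hx,
    isIso_unit_of_extendsAcross fun W => hn W (W ⊓ freeLocus F hF) inf_le_left fun x hxW hxV =>
      hU x fun hx => hxV ⟨hxW, hx⟩⟩

/-- The kernel of a map from a reflexive module to a torsion-free one is normal. -/
theorem normal_of_sub (hX : Pi1.IsNormalScheme X) (S : ShortComplex X.Modules) (hS : S.ShortExact)
    (hE : Coh.IsCoh S.X₂) (hQ : Coh.IsCoh S.X₃) (hr : RefHull.IsReflexive S.X₂) (ht : TorSh.IsTorsionFree S.X₃)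
    (U V : X.Opens) (hVU : V ≤ U)
    (hd : ∀ x : X, x ∈ U → x ∉ V → (2 : WithBot ℕ∞) ≤ ringKrullDim (X.presheaf.stalk x)) :
    Function.Bijective (S.X₁.presheaf.map (homOfLE hVU).op) := by
  haveI := hS.mono_f
  have hb := normal_of_isReflexive hX hE hr U V hVU hd
  refine ⟨fun a b hab => QCoh.app_injective S.f U (hb.1 ?_), fun s => ?_⟩
  · rw [← QCoh.map_app_comm S.f (homOfLE hVU) a, ← QCoh.map_app_comm S.f (homOfLE hVU) b, hab]
  · obtain ⟨e, he⟩ := hb.2 (S.f.app V s)
    have h0 : S.X₃.presheaf.map (homOfLE hVU).op (S.g.app U e) = 0 := by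
      rw [← QCoh.map_app_comm S.g (homOfLE hVU) e, he]
      exact congr(($(S.zero)).app V s)
    have hge : S.g.app U e = 0 := by
      by_cases hne : (U : Set X).Nonempty
      · have hη : genericPoint X ∈ U := (genericPoint_spec X).mem_open_set_iff U.2 |>.2 (by simpa using hne)
        have hηV : genericPoint X ∈ V := by
          by_contra hc
          have h2 := hd _ hη hc
          rw [ringKrullDim_stalk_eq_coheight, coheight_genericPoint] at h2
          exact absurd h2 (by decide)
        refine germ_eq_zero_of_generic hQ ht _ hη ?_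
        rw [← TopCat.Presheaf.germ_res_apply S.X₃.presheaf (homOfLE hVU) _ hηV, h0, map_zero]
      · refine QCoh.eq_zero_of_locally U _ fun p hp => absurd ⟨p, hp⟩ hne
    obtain ⟨f, hf⟩ := BasisHom.exists_app_eq_of_exact hS.exact U e hge
    refine ⟨f, QCoh.app_injective S.f V ?_⟩
    rw [QCoh.map_app_comm, hf, he]

end Groth.Agent.RefX
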