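import Groth.Agent.RefX.Lift
import Groth.Agent.QCoh.Qcqs

/-!
# Quasi-coherence and coherence of the sheaf Hom
-/

universe u

set_option backward.isDefEq.respectTransparency false
set_option backward.isDefEq.respectTransparency.types false
set_option linter.style.haveILetI false

open CategoryTheory AlgebraicGeometry TopologicalSpace Opposite

namespace Groth.Agent.RefX

variable {X : Scheme.{u}} {F G : X.Modules}

/-- The linear map on sections over an affine open given by a section of the sheaf Hom. -/
noncomputable def toLin {U : X.Opens} (g : Γ(RefHull.homSh F G, U)) : Γ(F, U) →ₗ[Γ(X, U)] Γ(G, U) where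
  toFun := app le_rfl g
  map_add' := app_add le_rfl g
  map_smul' := app_smul le_rfl g

theorem toLin_injective (hF : Coh.IsQCoh F) {U : X.Opens} (hU : IsAffineOpen U)
    (g g' : Γ(RefHull.homSh F G, U)) (h : ∀ m, app le_rfl g m = app le_rfl g' m) : g = g' :=
  sect_ext_affine hF hU le_rfl fun y m => by
    rw [← germ_app le_rfl g m y.2, ← germ_app le_rfl g' m y.2, h]

/-- `homSh F G` is quasi-coherent for `F` of finite presentation and `G` quasi-coherent. -/
theorem isQCoh_homSh (hF : CohB1.IsFP F) (hG : Coh.IsQCoh G) : Coh.IsQCoh (RefHull.homSh F G) := by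
  have hq := QCoh.isQCoh_of_isFP hF
  refine QCoh.isQCoh_of_sections (fun U hU f s => ?_) fun U hU f t ht => ?_
  · haveI := QCoh.finitePresentation_of_isFP hF hU
    letI := QCoh.basicModule f G
    haveI := QCoh.isLocalizedModule_basicRes f hG hU
    let ψ : Γ(F, U) →ₗ[Γ(X, U)] Γ(G, X.basicOpen f) :=
      { toFun := fun m => app le_rfl s (AModX.res F (X.basicOpen_le f) m)
        map_add' := fun a b => by rw [map_add, app_add]
        map_smul' := fun r m => by rw [AModX.res_smul, app_smul]; rfl }
    obtain ⟨θ, ⟨a, n, ha⟩, hθ⟩ := Module.FinitePresentation.exists_lift_of_isLocalizedModule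
      (Submonoid.powers f) (QCoh.basicRes f G) ψ
    have hsm : ∀ (r : Γ(X, U)) (m : Γ(F, U)), θ (r • m) = AModX.resR (le_refl U) r • θ m := fun r m => by
      rw [AModX.resR_self]; exact map_smul θ r m
    let θ'' : letI := resModule G (le_refl U); Γ(F, U) →ₗ[Γ(X, U)] Γ(G, U) :=
      letI := resModule G (le_refl U)
      { toFun := θ, map_add' := map_add θ, map_smul' := hsm }
    refine ⟨n, ofLin hq hU le_rfl θ'', ?_⟩
    show AModX.res _ (X.basicOpen_le f) _ = AModX.resR (X.basicOpen_le f) f ^ n • s
    refine sect_ext_affine hq hU (X.basicOpen_le f) fun y m => ?_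
    rw [res_val, ofLin_germ hq hU le_rfl θ'' (X.basicOpen_le f y.2) m, smul_val, LinearMap.smul_apply]
    have h1 := congrArg (G.presheaf.germ (X.basicOpen f) y.1 y.2) (LinearMap.congr_fun hθ m)
    change G.presheaf.germ _ y.1 y.2 (AModX.res G (X.basicOpen_le f) (θ m)) =
      G.presheaf.germ _ y.1 y.2 (AModX.resR (X.basicOpen_le f) a • app le_rfl s _) at h1
    rw [germ_res, QCoh.germ_smul', germ_app, germ_res, ← ha] at h1
    simp only [map_pow] at h1
    rw [map_pow]
    exact h1
  · haveI := QCoh.finitePresentation_of_isFP hF hU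
    obtain ⟨k, v, hv⟩ := Module.Finite.exists_fin (R := Γ(X, U)) (M := Γ(F, U))
    have h0 : ∀ i, ∃ n : ℕ, f ^ n • app le_rfl t (v i) = 0 := fun i => by
      refine QCoh.exists_pow_smul_eq_zero hG hU f _ ?_
      show AModX.res G (X.basicOpen_le f) (app le_rfl t (v i)) = 0
      rw [res_app]
      refine ZClosLib.section_ext G _ _ fun y hy => ?_
      rw [germ_app, map_zero]
      have h1 := congrArg (fun z : Γ(RefHull.homSh F G, X.basicOpen f) => z.1 ⟨y, hy⟩) ht
      exact LinearMap.congr_fun h1 _
    choose n hn using h0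
    refine ⟨∑ i, n i, toLin_injective hq hU _ _ fun m => ?_⟩
    refine ZClosLib.section_ext G _ _ fun y hy => ?_
    rw [germ_app, germ_app, smul_val, map_pow]
    show X.presheaf.germ U y hy f ^ _ • t.1 ⟨y, hy⟩ _ = 0
    have hm : f ^ (∑ i, n i) • app le_rfl t m = 0 := by
      have hmem : m ∈ Submodule.span Γ(X, U) (Set.range v) := hv ▸ Submodule.mem_top
      show f ^ (∑ i, n i) • toLin t m = 0
      induction hmem using Submodule.span_induction with
      | mem _ h =>
        obtain ⟨i, rfl⟩ := h
        rw [← Finset.sum_erase_add _ _ (Finset.mem_univ i), pow_add, mul_smul]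
        exact (congrArg _ (hn i)).trans (smul_zero _)
      | zero => rw [map_zero, smul_zero]
      | add _ _ _ _ ha hb => rw [map_add, smul_add, ha, hb, add_zero]
      | smul r _ _ ha => rw [map_smul, smul_comm, ha, smul_zero]
    have h2 := congrArg (G.presheaf.germ U y hy) hm
    rw [QCoh.germ_smul', map_pow, germ_app, map_zero] at h2
    exact h2

/-- On a locally noetherian scheme the sheaf Hom of coherent modules is coherent. -/
theorem isCoh_homSh [IsLocallyNoetherian X] (hF : Coh.IsCoh F) (hG : Coh.IsCoh G) :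
    Coh.IsCoh (RefHull.homSh F G) := by
  refine QCoh.isCoh_iff.2 ⟨isQCoh_homSh (QCoh.isCoh_iff_isFP.1 hF) hG.1, fun U => ?_⟩
  haveI := QCoh.noetherian_sections U
  haveI := QCoh.finite_sections hF U.2
  haveI := QCoh.finite_sections hG U.2
  obtain ⟨k, π, hπ⟩ := Module.Finite.exists_fin' Γ(X, U.1) Γ(F, U.1)
  haveI : Module.Finite Γ(X, U.1) (Γ(F, U.1) →ₗ[Γ(X, U.1)] Γ(G, U.1)) :=
    Module.Finite.of_injective (LinearMap.lcomp Γ(X, U.1) Γ(G, U.1) π) fun a b h => LinearMap.ext fun m => by
      obtain ⟨c, rfl⟩ := hπ m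
      exact LinearMap.congr_fun h c
  exact Module.Finite.of_injective
    ({ toFun := toLin
       map_add' := fun a b => LinearMap.ext fun m => ZClosLib.section_ext G _ _ fun y hy => by
         show G.presheaf.germ _ y hy (app le_rfl (a + b) m) = G.presheaf.germ _ y hy (app le_rfl a m + app le_rfl b m)
         rw [map_add, germ_app, germ_app, germ_app]; rfl
       map_smul' := fun r a => LinearMap.ext fun m => ZClosLib.section_ext G _ _ fun y hy => by
         show G.presheaf.germ _ y hy (app le_rfl (r • a) m) = G.presheaf.germ _ y hy (r • app le_rfl a m)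
         rw [QCoh.germ_smul', germ_app, germ_app]; rfl } :
      Γ(RefHull.homSh F G, U.1) →ₗ[Γ(X, U.1)] (Γ(F, U.1) →ₗ[Γ(X, U.1)] Γ(G, U.1)))
    fun a b h => toLin_injective hF.1 U.2 a b fun m => LinearMap.congr_fun h m

end Groth.Agent.RefX
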