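import Groth.Agent.RefX.Reflexive
import Groth.Agent.QCoh.Stalk
import Groth.Agent.CAlgOdd.ReflexiveCore
import Groth.Agent.QCoh.Support

/-!
# Reflexive stalks: transfer along isomorphisms and open immersions
-/

universe u v w

set_option backward.isDefEq.respectTransparency false
set_option backward.isDefEq.respectTransparency.types false
set_option linter.style.haveILetI false

open CategoryTheory AlgebraicGeometry TopologicalSpace Opposite

namespace Groth.Agent.RefX

/-- Reflexivity transfers along a semilinear bijection over a ring isomorphism. -/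
theorem isReflexive_of_ringEquiv {R S : Type u} [CommRing R] [CommRing S] {M : Type v} {N : Type w}
    [AddCommGroup M] [Module R M] [AddCommGroup N] [Module S N] (σ : R ≃+* S) (e : M ≃+ N)
    (he : ∀ (r : R) (m : M), e (r • m) = σ r • e m) [Module.IsReflexive R M] :
    Module.IsReflexive S N := by
  have hes : ∀ (s : S) (n : N), e.symm (s • n) = σ.symm s • e.symm n := fun s n => e.injective (by
    rw [he, e.apply_symm_apply, e.apply_symm_apply, RingEquiv.apply_symm_apply])
  -- duals correspond
  let D : Module.Dual R M → Module.Dual S N := fun φ =>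
    { toFun := fun n => σ (φ (e.symm n))
      map_add' := fun a b => by rw [map_add, map_add, map_add]
      map_smul' := fun s n => by
        rw [hes, map_smul, smul_eq_mul, map_mul, RingEquiv.apply_symm_apply]; rfl }
  let D' : Module.Dual S N → Module.Dual R M := fun ψ =>
    { toFun := fun m => σ.symm (ψ (e m))
      map_add' := fun a b => by rw [map_add, map_add, map_add]
      map_smul' := fun r m => by
        rw [he, map_smul, smul_eq_mul, map_mul, RingEquiv.symm_apply_apply]; rfl }
  have hDD : ∀ ψ, D (D' ψ) = ψ := fun ψ => LinearMap.ext fun n => by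
    show σ (σ.symm (ψ (e (e.symm n)))) = ψ n
    rw [RingEquiv.apply_symm_apply, e.apply_symm_apply]
  have hD'D : ∀ φ, D' (D φ) = φ := fun φ => LinearMap.ext fun m => by
    show σ.symm (σ (φ (e.symm (e m)))) = φ m
    rw [RingEquiv.symm_apply_apply, e.symm_apply_apply]
  refine ⟨⟨fun a b hab => ?_, fun Ψ => ?_⟩⟩
  · refine e.symm.injective ((Module.bijective_dual_eval R M).1 ?_)
    refine LinearMap.ext fun φ => σ.injective ?_
    exact LinearMap.congr_fun hab (D φ)
  · let Φ : Module.Dual R (Module.Dual R M) :=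
      { toFun := fun φ => σ.symm (Ψ (D φ))
        map_add' := fun a b => by
          rw [show D (a + b) = D a + D b from LinearMap.ext fun n => map_add σ _ _, map_add, map_add]
        map_smul' := fun r φ => by
          rw [show D (r • φ) = σ r • D φ from LinearMap.ext fun n => map_mul σ _ _, map_smul, smul_eq_mul,
            map_mul, RingEquiv.symm_apply_apply]; rfl }
    obtain ⟨m, hm⟩ := (Module.bijective_dual_eval R M).2 Φ
    refine ⟨e m, LinearMap.ext fun ψ => σ.symm.injective ?_⟩
    have h := LinearMap.congr_fun hm (D' ψ)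
    simp only [Module.Dual.eval_apply] at h ⊢
    show _ = σ.symm (Ψ ψ)
    conv_rhs => rw [← hDD ψ]
    exact h

variable {X : Scheme.{u}} {F G : X.Modules}

/-- The linear equivalence of stalks induced by an isomorphism. -/
noncomputable def stalkIso (e : F ≅ G) (x : X) :
    F.presheaf.stalk x ≃ₗ[X.presheaf.stalk x] G.presheaf.stalk x :=
  LinearEquiv.ofBijective (RefHull.stalkMapₗ e.hom x)
    (haveI : IsIso e.hom.mapPresheaf := inferInstanceAs (IsIso ((Scheme.Modules.toPresheaf X).map e.hom))
     (ConcreteCategory.isIso_iff_bijective ((TopCat.Presheaf.stalkFunctor Ab x).map e.hom.mapPresheaf)).1 inferInstance)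

theorem isReflexiveAt_of_iso (e : F ≅ G) {x : X} (h : RefHull.IsReflexiveAt F x) :
    RefHull.IsReflexiveAt G x :=
  haveI : Module.IsReflexive (X.presheaf.stalk x) (F.presheaf.stalk x) := h
  Module.equiv (stalkIso e x)

/-- The stalk of a restriction along an open immersion. -/
theorem exists_semilinear_restrict {Y : Scheme.{u}} (j : Y ⟶ X) [IsOpenImmersion j] (M : X.Modules) (z : Y) :
    ∃ e : (M.restrict j).presheaf.stalk z ≃+ M.presheaf.stalk (j.base z),
      ∀ (a : X.presheaf.stalk (j.base z)) m, e ((j.stalkMap z).hom a • m) = a • e m := by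
  let η := (Scheme.Modules.restrictStalkNatIso j z).app M
  refine ⟨η.addCommGroupIsoToAddEquiv, fun a m => ?_⟩
  have hg : ∀ (V : Y.Opens) (hV : z ∈ V) (s : Γ(M, j ''ᵁ V)),
      η.hom ((M.restrict j).presheaf.germ V z hV s) =
        M.presheaf.germ (j ''ᵁ V) (j.base z) ⟨z, hV, rfl⟩ s := fun V hV s =>
    ConcreteCategory.congr_hom (Scheme.Modules.germ_restrictStalkNatIso_hom_app j z M hV) s
  obtain ⟨V, hV, s, rfl⟩ := (M.restrict j).presheaf.germ_exist m
  obtain ⟨W, hW, t, rfl⟩ := X.presheaf.germ_exist a
  let V' : Y.Opens := V ⊓ j ⁻¹ᵁ W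
  have hV' : z ∈ V' := ⟨hV, hW⟩
  have hle : j ''ᵁ V' ≤ W := by rintro _ ⟨y, ⟨-, hy⟩, rfl⟩; exact hy
  have hz' : j.base z ∈ j ''ᵁ V' := ⟨z, hV', rfl⟩
  have hsm : (j.stalkMap z).hom (X.presheaf.germ W (j.base z) hW t) =
      Y.presheaf.germ V' z hV'
        ((j.appIso V').hom (X.presheaf.map (homOfLE hle).op t)) := by
    rw [← X.presheaf.germ_res_apply (homOfLE hle) (j.base z) hz' t]
    erw [Scheme.Hom.germ_stalkMap_apply]
    rw [Scheme.Hom.appIso_hom']
    erw [← Y.presheaf.germ_res_apply (homOfLE (show V' ≤ j ⁻¹ᵁ (j ''ᵁ V') from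
      (j.preimage_image_eq V').ge)) z hV']
    rfl
  rw [hsm, ← (M.restrict j).presheaf.germ_res_apply (homOfLE (inf_le_left : V' ≤ V)) z hV' s,
    ← QCoh.germ_smul' (M.restrict j) hV']
  change η.hom _ = (_ : X.presheaf.stalk (j.base z)) • (show M.presheaf.stalk (j.base z) from η.hom _)
  rw [hg, hg, ← X.presheaf.germ_res_apply (homOfLE hle) (j.base z) hz' t, ← QCoh.germ_smul' M hz']
  congr 1
  have := ConcreteCategory.congr_hom (Scheme.Modules.smul_restrictAppIso_hom j M V'
    ((j.appIso V').hom (X.presheaf.map (homOfLE hle).op t)))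
    ((M.restrict j).presheaf.map (homOfLE (inf_le_left : V' ≤ V)).op s)
  refine this.trans ?_
  simp only [Iso.hom_inv_id_apply]
  rfl

theorem isCoh_of_iso (e : F ≅ G) (h : Coh.IsCoh F) : Coh.IsCoh G :=
  QCoh.isCoh_of_epi e.hom h ((QCoh.isQCoh_iff_iso e).1 h.1)

/-- Reflexivity of a stalk can be tested after restriction to an open subscheme. -/
theorem isReflexiveAt_restrict_iff {Y : Scheme.{u}} (j : Y ⟶ X) [IsOpenImmersion j] (y : Y) :
    RefHull.IsReflexiveAt (F.restrict j) y ↔ RefHull.IsReflexiveAt F (j.base y) := by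
  obtain ⟨e, he⟩ := exists_semilinear_restrict j F y
  let σ : X.presheaf.stalk (j.base y) ≃+* Y.presheaf.stalk y := (asIso (j.stalkMap y)).commRingCatIsoToRingEquiv
  constructor
  · intro (h : Module.IsReflexive _ _)
    refine isReflexive_of_ringEquiv σ.symm e fun a m => ?_
    conv_lhs => rw [← σ.apply_symm_apply a]
    exact he _ _
  · intro (h : Module.IsReflexive _ _)
    refine isReflexive_of_ringEquiv σ e.symm fun a m => e.injective ?_
    rw [e.apply_symm_apply]
    refine Eq.trans ?_ (he a (e.symm m)).symm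
    rw [e.apply_symm_apply]

/-- The bidual map of a module is an isomorphism on the open where its stalks are reflexive. -/
theorem isIso_restrict_bidual [IsLocallyNoetherian X] (hF : Coh.IsCoh F) (U : X.Opens)
    (h : ∀ x ∈ U, RefHull.IsReflexiveAt F x) :
    IsIso ((Scheme.Modules.restrictFunctor U.ι).map (RefHull.bidualMap F)) := by
  refine ZClosLib.isIso_of_stalkMap_bijective _ fun y => ?_
  let η := Scheme.Modules.restrictStalkNatIso U.ι y
  have h1 := η.hom.naturality (RefHull.bidualMap F)
  have hb := (stalkMap_bidual_bijective_iff hF (U.ι.base y)).2 (h _ y.2)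
  haveI : IsIso ((TopCat.Presheaf.stalkFunctor Ab (U.ι.base y)).map (RefHull.bidualMap F).mapPresheaf) :=
    (ConcreteCategory.isIso_iff_bijective _).2 hb
  haveI : IsIso ((Scheme.Modules.toPresheaf X ⋙ TopCat.Presheaf.stalkFunctor _ (U.ι.base y)).map (RefHull.bidualMap F)) := this
  haveI : IsIso ((Scheme.Modules.restrictFunctor U.ι ⋙ Scheme.Modules.toPresheaf _ ⋙
      TopCat.Presheaf.stalkFunctor _ y).map (RefHull.bidualMap F)) := (NatIso.isIso_map_iff η _).2 this
  exact (ConcreteCategory.isIso_iff_bijective _).1 this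

end Groth.Agent.RefX
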