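import Groth.Agent.RefX.Transfer
import Groth.Agent.RefX.Ext
import Groth.Agent.QCoh.ExtendFT

/-!
# Reflexive coherent modules extend from open subschemes
-/

universe u

set_option backward.isDefEq.respectTransparency false
set_option backward.isDefEq.respectTransparency.types false
set_option linter.style.haveILetI false

open CategoryTheory AlgebraicGeometry TopologicalSpace Opposite

namespace Groth.Agent.RefX

variable {X : Scheme.{u}} [IsIntegral X] [IsLocallyNoetherian X]

/-- The stalks of the dual of a coherent module are reflexive. -/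
theorem isReflexiveAt_dual {F : X.Modules} (hF : Coh.IsCoh F) (x : X) :
    RefHull.IsReflexiveAt (RefHull.dual F) x := by
  haveI : IsDomain (X.presheaf.stalk x) := (IsFractionRing.injective (X.presheaf.stalk x) X.functionField).isDomain
  haveI := QCoh.finite_stalk_of_isFT hF.1 hF.2 x
  haveI := CAlgOdd.Refl.isReflexive_dual (R := X.presheaf.stalk x) (F.presheaf.stalk x)
  exact Module.equiv (dualStalk (QCoh.isCoh_iff_isFP.1 hF) x).symm

/-- A coherent module with reflexive stalks on an open subscheme extends to one on `X`. -/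
theorem exists_reflexive_extension (U : X.Opens) {G : (U : Scheme.{u}).Modules} (hG : Coh.IsCoh G)
    (hr : ∀ x, RefHull.IsReflexiveAt G x) :
    ∃ H : X.Modules, Coh.IsCoh H ∧ (∀ x, RefHull.IsReflexiveAt H x) ∧ Nonempty (H.restrict U.ι ≅ G) := by
  have hN : ∀ x : X, ∃ V : X.Opens, x ∈ V ∧ NoetherianSpace (V : Set X) := fun x => by
    obtain ⟨_, ⟨V, hV, rfl⟩, hxV, -⟩ := X.isBasis_affineOpens.exists_subset_of_mem_open (Set.mem_univ x) isOpen_univ
    haveI : IsNoetherianRing Γ(X, V) := IsLocallyNoetherian.component_noetherian ⟨V, hV⟩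
    exact ⟨V, hxV, noetherianSpace_of_isAffineOpen V hV⟩
  haveI := QCoh.quasiCompact_ι_of_noetherian hN U
  obtain ⟨E, hEq, hEft, ⟨e⟩⟩ := QCoh.exists_extension_abs (QCoh.extStep_noetherian hN U) G hG.1 hG.2
  have hE : Coh.IsCoh E := ⟨hEq, hEft⟩
  have hU : ∀ x ∈ U, RefHull.IsReflexiveAt E x := fun x hx =>
    (isReflexiveAt_restrict_iff U.ι ⟨x, hx⟩).1 (isReflexiveAt_of_iso e.symm (hr ⟨x, hx⟩))
  haveI := isIso_restrict_bidual hE U hU
  exact ⟨RefHull.dual (RefHull.dual E), isCoh_dual (isCoh_dual hE), isReflexiveAt_dual (isCoh_dual hE),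
    ⟨(asIso ((Scheme.Modules.restrictFunctor U.ι).map (RefHull.bidualMap E))).symm ≪≫ e⟩⟩

/-- Pushforward from `U` of a coherent module with reflexive stalks, when `X` is deep outside `U`. -/
theorem reflexive_pushforward (U : X.Opens)
    (hU : ∀ x : X, x ∉ U → (2 : ℕ∞) ≤ LocCoh.depth (X.presheaf.stalk x) (X.presheaf.stalk x))
    {G : (U : Scheme.{u}).Modules} (hG : Coh.IsCoh G) (hr : ∀ x, RefHull.IsReflexiveAt G x) :
    Coh.IsCoh ((Scheme.Modules.pushforward U.ι).obj G) ∧
      ∀ x, RefHull.IsReflexiveAt ((Scheme.Modules.pushforward U.ι).obj G) x := by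
  obtain ⟨H, hH, hHr, ⟨e⟩⟩ := exists_reflexive_extension U hG hr
  haveI := isIso_unit_of_extendsAcross (extendsAcross_reflexive hH ((isReflexive_iff hH).2 hHr) hU)
  let i : H ≅ (Scheme.Modules.pushforward U.ι).obj G :=
    asIso ((Scheme.Modules.restrictAdjunction U.ι).unit.app H) ≪≫ (Scheme.Modules.pushforward U.ι).mapIso e
  exact ⟨isCoh_of_iso i hH, fun x => isReflexiveAt_of_iso i (hHr x)⟩

end Groth.Agent.RefX
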