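import Groth.Agent.RefX.Iso
import Groth.Prelude.Def_Pic

/-!
# The group of rank one reflexive modules
-/

universe u

set_option backward.isDefEq.respectTransparency false
set_option backward.isDefEq.respectTransparency.types false
set_option linter.style.haveILetI false

open CategoryTheory AlgebraicGeometry TopologicalSpace

namespace Groth.Agent.RefX

variable {X : Scheme.{u}} [IsIntegral X] [IsLocallyNoetherian X] {F G : X.Modules} {D E : X → ℤ}

/-- `D` is the order function of a nonzero rational section of `F`. -/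
def IsDivOf (F : X.Modules) (D : X → ℤ) : Prop :=
  ∃ v : F.presheaf.stalk (genericPoint X), v ≠ 0 ∧ ∀ x : X, Order.coheight x = 1 →
    Cyc.secOrdAt F (genericPoint X) x (specializes_genericPoint x) (clsη F v) = D x

theorem exists_isDivOf (hF : HasFrames F) : ∃ D, IsDivOf F D := by
  obtain ⟨U, hU, e, he⟩ := hF (genericPoint X) (by rw [coheight_genericPoint]; exact zero_le)
  exact ⟨_, _, germ_frame_ne_zero he hU, fun x _ => rfl⟩

theorem IsDivOf.tensor (hX : Pi1.IsNormalScheme X) (hF : RefHull.IsRef1 F) (hG : RefHull.IsRef1 G)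
    (hD : IsDivOf F D) (hE : IsDivOf G E) :
    RefHull.IsRef1 (RefHull.ddual (CohB1.tensorMod F G)) ∧
      IsDivOf (RefHull.ddual (CohB1.tensorMod F G)) (D + E) := by
  have hfF := hasFrames_of_isRef1 hX hF
  have hfG := hasFrames_of_isRef1 hX hG
  have hc := isCoh_tensor hF.1 hG.1
  have hf := hasFrames_tensor hfF hfG
  refine ⟨isRef1_ddual hc hf, ?_⟩
  obtain ⟨v, hv, hv'⟩ := hD
  obtain ⟨w, hw, hw'⟩ := hE
  obtain ⟨t, ht, ht'⟩ := exists_tensor_section hfF hfG hv hw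
  obtain ⟨h1, h2⟩ := secOrd_bidual hc hf ht
  exact ⟨_, h1, fun x hx => by rw [h2 x hx, ht' x hx, hv' x hx, hw' x hx]; rfl⟩

theorem IsDivOf.dual (hX : Pi1.IsNormalScheme X) (hF : RefHull.IsRef1 F) (hD : IsDivOf F D) :
    RefHull.IsRef1 (RefHull.dual F) ∧ IsDivOf (RefHull.dual F) (-D) := by
  have hf := hasFrames_of_isRef1 hX hF
  refine ⟨isRef1_dual hF.1 hf, ?_⟩
  obtain ⟨v, hv, hv'⟩ := hD
  obtain ⟨w, hw, hw'⟩ := exists_dual_section hF.1 hf hv
  exact ⟨w, hw, fun x hx => by rw [hw' x hx, hv' x hx]; rfl⟩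

theorem isRef1_unit : RefHull.IsRef1 (Coh.structureModule X) := by
  refine ⟨isCoh_unit, (isReflexive_iff isCoh_unit).2 fun x => ?_, ?_⟩
  · show Module.IsReflexive _ _
    exact Module.equiv (unitStalk x)
  · refine ⟨⊤, dense_univ, fun y => ⟨⊤, trivial, ⟨?_⟩⟩⟩
    exact (Scheme.Modules.restrictFunctor _).mapIso (Scheme.Modules.restrictUnitIso _) ≪≫
      Scheme.Modules.restrictUnitIso _

theorem isDivOf_unit : IsDivOf (Coh.structureModule X) (0 : X → ℤ) := by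
  have he := InvX.isFrame_one (X := X) (⊤ : X.Opens)
  refine ⟨_, germ_frame_ne_zero he (x := genericPoint X) trivial, fun x hx => ?_⟩
  have h1 := secOrd_frame he (x := x) trivial hx (one_ne_zero (α := X.functionField))
  have h3 := Scheme.ord_mul (x := x) (one_ne_zero (α := X.functionField)) one_ne_zero
  rw [mul_one] at h3
  refine Eq.trans ?_ (h1.trans (show Scheme.ord (1 : X.functionField) x = (0 : X → ℤ) x by
    rw [Pi.zero_apply]; linarith))
  congr 2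
  exact (one_smul (X.presheaf.stalk (genericPoint X)) _).symm

theorem IsDivOf.of_cl_eq (hX : Pi1.IsNormalScheme X) (hF : RefHull.IsRef1 F) (h : PicF.cl F = PicF.cl G)
    (hD : IsDivOf F D) : IsDivOf G D := by
  have he : Equivalence fun L L' : X.Modules => Nonempty (L ≅ L') :=
    ⟨fun L => ⟨Iso.refl L⟩, fun ⟨e⟩ => ⟨e.symm⟩, fun ⟨e⟩ ⟨e'⟩ => ⟨e ≪≫ e'⟩⟩
  obtain ⟨ι⟩ := (he.eqvGen_iff).1 (Quot.eqvGen_exact h)
  obtain ⟨v, hv, hv'⟩ := hD
  refine ⟨_, fun h0 => hv (stalkMap_injective ι _ (h0.trans (map_zero _).symm)), fun x hx => ?_⟩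
  rw [secOrd_iso ι (hasFrames_of_isRef1 hX hF) hv hx, hv' x hx]

theorem cl_eq_of_isDivOf (hX : Pi1.IsNormalScheme X) (hF : RefHull.IsRef1 F) (hG : RefHull.IsRef1 G)
    (hD : IsDivOf F D) (hE : IsDivOf G D) : PicF.cl F = PicF.cl G := by
  obtain ⟨v, hv, hv'⟩ := hD
  obtain ⟨w, hw, hw'⟩ := hE
  refine Quot.sound (nonempty_iso_of_orders hX hF hG hv hw (one_ne_zero (α := X.functionField)) fun x hx => ?_)
  have h3 := Scheme.ord_mul (x := x) (one_ne_zero (α := X.functionField)) one_ne_zero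
  rw [mul_one] at h3
  rw [hv' x hx, hw' x hx]
  linarith

theorem exists_group (hX : Pi1.IsNormalScheme X) :
    ∃ (mul : {c : PicF.Cl X // ∃ F : X.Modules, PicF.cl F = c ∧ RefHull.IsRef1 F} →
          {c : PicF.Cl X // ∃ F : X.Modules, PicF.cl F = c ∧ RefHull.IsRef1 F} →
            {c : PicF.Cl X // ∃ F : X.Modules, PicF.cl F = c ∧ RefHull.IsRef1 F})
      (one : {c : PicF.Cl X // ∃ F : X.Modules, PicF.cl F = c ∧ RefHull.IsRef1 F})
      (inv : {c : PicF.Cl X // ∃ F : X.Modules, PicF.cl F = c ∧ RefHull.IsRef1 F} →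
          {c : PicF.Cl X // ∃ F : X.Modules, PicF.cl F = c ∧ RefHull.IsRef1 F}),
      (∀ a b, mul a b = mul b a) ∧ (∀ a b c, mul (mul a b) c = mul a (mul b c)) ∧ (∀ a, mul one a = a) ∧
        (∀ a, mul (inv a) a = one) ∧
        (∀ (F G : X.Modules) (hF : RefHull.IsRef1 F) (hG : RefHull.IsRef1 G),
          (mul ⟨PicF.cl F, F, rfl, hF⟩ ⟨PicF.cl G, G, rfl, hG⟩).1 = PicF.cl (RefHull.ddual (CohB1.tensorMod F G))) ∧
        one.1 = PicF.cl (Coh.structureModule X) ∧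
        (∀ (F : X.Modules) (hF : RefHull.IsRef1 F), (inv ⟨PicF.cl F, F, rfl, hF⟩).1 = PicF.cl (RefHull.dual F)) := by
  classical
  let C := {c : PicF.Cl X // ∃ F : X.Modules, PicF.cl F = c ∧ RefHull.IsRef1 F}
  let P : C → (X → ℤ) → Prop := fun a D => ∃ F : X.Modules, PicF.cl F = a.1 ∧ RefHull.IsRef1 F ∧ IsDivOf F D
  have hrep : ∀ (a : C), RefHull.IsRef1 a.2.choose := fun a => a.2.choose_spec.2
  have hP : ∀ a : C, ∃ D, P a D := fun a => by
    obtain ⟨D, hD⟩ := exists_isDivOf (hasFrames_of_isRef1 hX (hrep a))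
    exact ⟨D, _, a.2.choose_spec.1, hrep a, hD⟩
  have uniq : ∀ {a b : C} {D : X → ℤ}, P a D → P b D → a = b := fun {a b D} ⟨F, hFa, hF, hD⟩ ⟨G, hGb, hG, hE⟩ =>
    Subtype.ext (hFa.symm.trans ((cl_eq_of_isDivOf hX hF hG hD hE).trans hGb))
  have hdiv : ∀ {a : C} {D : X → ℤ} {G : X.Modules}, P a D → PicF.cl G = a.1 → IsDivOf G D :=
    fun ⟨F, hFa, hF, hD⟩ hG => hD.of_cl_eq hX hF (hFa.trans hG.symm)
  let mul : C → C → C := fun a b =>
    ⟨PicF.cl (RefHull.ddual (CohB1.tensorMod a.2.choose b.2.choose)), _, rfl,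
      isRef1_ddual (isCoh_tensor (hrep a).1 (hrep b).1)
        (hasFrames_tensor (hasFrames_of_isRef1 hX (hrep a)) (hasFrames_of_isRef1 hX (hrep b)))⟩
  let one : C := ⟨PicF.cl (Coh.structureModule X), _, rfl, isRef1_unit⟩
  let inv : C → C := fun a =>
    ⟨PicF.cl (RefHull.dual a.2.choose), _, rfl, isRef1_dual (hrep a).1 (hasFrames_of_isRef1 hX (hrep a))⟩
  have hmul : ∀ {a b : C} {D E : X → ℤ}, P a D → P b E → P (mul a b) (D + E) := fun {a b D E} ha hb => by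
    obtain ⟨h1, h2⟩ := IsDivOf.tensor hX (hrep a) (hrep b) (hdiv ha a.2.choose_spec.1) (hdiv hb b.2.choose_spec.1)
    exact ⟨_, rfl, h1, h2⟩
  have hinv : ∀ {a : C} {D : X → ℤ}, P a D → P (inv a) (-D) := fun {a D} ha => by
    obtain ⟨h1, h2⟩ := IsDivOf.dual hX (hrep a) (hdiv ha a.2.choose_spec.1)
    exact ⟨_, rfl, h1, h2⟩
  have hone : P one 0 := ⟨_, rfl, isRef1_unit, isDivOf_unit⟩
  refine ⟨mul, one, inv, fun a b => ?_, fun a b c => ?_, fun a => ?_, fun a => ?_, fun F G hF hG => ?_, rfl,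
    fun F hF => ?_⟩
  · obtain ⟨D, hD⟩ := hP a
    obtain ⟨E, hE⟩ := hP b
    exact uniq (hmul hD hE) (add_comm E D ▸ hmul hE hD)
  · obtain ⟨D, hD⟩ := hP a
    obtain ⟨E, hE⟩ := hP b
    obtain ⟨K, hK⟩ := hP c
    exact uniq (hmul (hmul hD hE) hK) ((add_assoc D E K).symm ▸ hmul hD (hmul hE hK))
  · obtain ⟨D, hD⟩ := hP a
    exact uniq ((zero_add D) ▸ hmul hone hD) hD
  · obtain ⟨D, hD⟩ := hP a
    exact uniq ((neg_add_cancel D) ▸ hmul (hinv hD) hD) hone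
  · obtain ⟨D, hD⟩ := exists_isDivOf (hasFrames_of_isRef1 hX hF)
    obtain ⟨E, hE⟩ := exists_isDivOf (hasFrames_of_isRef1 hX hG)
    obtain ⟨h1, h2⟩ := IsDivOf.tensor hX hF hG hD hE
    exact congrArg Subtype.val (uniq (b := ⟨_, _, rfl, h1⟩)
      (hmul (a := ⟨PicF.cl F, F, rfl, hF⟩) (b := ⟨PicF.cl G, G, rfl, hG⟩) ⟨F, rfl, hF, hD⟩ ⟨G, rfl, hG, hE⟩)
      ⟨_, rfl, h1, h2⟩)
  · obtain ⟨D, hD⟩ := exists_isDivOf (hasFrames_of_isRef1 hX hF)
    obtain ⟨h1, h2⟩ := IsDivOf.dual hX hF hD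
    exact congrArg Subtype.val (uniq (b := ⟨_, _, rfl, h1⟩)
      (hinv (a := ⟨PicF.cl F, F, rfl, hF⟩) ⟨F, rfl, hF, hD⟩) ⟨_, rfl, h1, h2⟩)

end Groth.Agent.RefX
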