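import Groth.Agent.RefX.Dual
import Groth.Agent.QCoh.VanIdeal
import Groth.Agent.QCoh.Qcqs
import Mathlib.RingTheory.OrderOfVanishing.Noetherian

/-!
# Reflexive modules of rank one with prescribed orders in codimension one
-/

universe u

set_option backward.isDefEq.respectTransparency false
set_option backward.isDefEq.respectTransparency.types false
set_option linter.style.haveILetI false

open CategoryTheory AlgebraicGeometry TopologicalSpace Opposite IsLocalRing

namespace Groth.Agent.RefX

variable {X : Scheme.{u}}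

/-- A section of the structure module as a function. -/
abbrev fn {U : X.Opens} (s : Γ(Coh.structureModule X, U)) : Γ(X, U) := s

theorem fn_res {U V : X.Opens} (i : V ≤ U) (s : Γ(Coh.structureModule X, U)) :
    fn ((Coh.structureModule X).presheaf.map (homOfLE i).op s) = X.presheaf.map (homOfLE i).op (fn s) := rfl

variable (k : X → ℕ)

/-- The functions vanishing to prescribed orders in codimension one. -/
noncomputable def divIdeal : QCoh.SubMod (Coh.structureModule X) where
  mem U :=
    { carrier := {s | ∀ (x : X) (hx : x ∈ U), Order.coheight x = 1 →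
        X.presheaf.germ U x hx (fn s) ∈ maximalIdeal (X.presheaf.stalk x) ^ k x}
      zero_mem' := fun x hx _ => by
        show X.presheaf.germ U x hx 0 ∈ _
        rw [map_zero]
        exact zero_mem _
      add_mem' := fun {a b} ha hb x hx h1 => by
        show X.presheaf.germ U x hx (fn a + fn b) ∈ _
        rw [map_add]
        exact add_mem (ha x hx h1) (hb x hx h1)
      smul_mem' := fun r a ha x hx h1 => by
        show X.presheaf.germ U x hx (r * fn a) ∈ _
        rw [map_mul]
        exact Ideal.mul_mem_left _ _ (ha x hx h1) }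
  map_mem {U V} i {s} hs x hx h1 := by
    rw [fn_res, TopCat.Presheaf.germ_res_apply]
    exact hs x (i hx) h1
  of_locally U s hs x hx h1 := by
    obtain ⟨V, i, hxV, h⟩ := hs x hx
    have := h x hxV h1
    rwa [fn_res, TopCat.Presheaf.germ_res_apply] at this

theorem mem_divIdeal {U : X.Opens} (s : Γ(Coh.structureModule X, U)) :
    s ∈ (divIdeal k).mem U ↔ ∀ (x : X) (hx : x ∈ U), Order.coheight x = 1 →
        X.presheaf.germ U x hx (fn s) ∈ maximalIdeal (X.presheaf.stalk x) ^ k x := Iff.rfl

variable (hk : ∀ V : X.Opens, IsAffineOpen V → {x : X | x ∈ V ∧ Order.coheight x = 1 ∧ k x ≠ 0}.Finite)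

include hk in
theorem isQCoh_divIdeal : Coh.IsQCoh (divIdeal k).toModules := by
  refine QCoh.isQCoh_of_sections (fun U hU f s => ?_) fun U hU f t ht => ?_
  · obtain ⟨n, t, ht⟩ := QCoh.exists_pow_smul_eq_map QCoh.isQCoh_structureModule hU f ((divIdeal k).ι.app _ s)
    obtain ⟨N, hN⟩ := ((hk U hU).image k).bddAbove
    have hmem : f ^ N • t ∈ (divIdeal k).mem U := by
      intro x hx h1
      show X.presheaf.germ U x hx (f ^ N * fn t) ∈ _
      rw [map_mul, map_pow]
      by_cases hxf : x ∈ X.basicOpen f
      · refine Ideal.mul_mem_left _ _ ?_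
        rw [← X.presheaf.germ_res_apply (homOfLE (X.basicOpen_le f)) x hxf]
        rw [show X.presheaf.map (homOfLE (X.basicOpen_le f)).op (fn t) =
          X.presheaf.map (homOfLE (X.basicOpen_le f)).op f ^ n * fn ((divIdeal k).ι.app _ s) from ht]
        rw [map_mul]
        exact Ideal.mul_mem_left _ _ ((mem_divIdeal k _).1 ((divIdeal k).ι_app_mem _ s) x hxf h1)
      · refine Ideal.mul_mem_right _ _ ?_
        have hm : X.presheaf.germ U x hx f ∈ maximalIdeal (X.presheaf.stalk x) := fun hu =>
          hxf ((X.mem_basicOpen f x hx).2 hu)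
        by_cases hk0 : k x = 0
        · rw [hk0, pow_zero, Ideal.one_eq_top]
          trivial
        · exact Ideal.pow_le_pow_right (hN ⟨x, ⟨hx, h1, hk0⟩, rfl⟩) (Ideal.pow_mem_pow hm N)
    obtain ⟨t', ht'⟩ := (divIdeal k).exists_app_eq hmem
    refine ⟨N + n, t', (divIdeal k).ι_app_injective _ ?_⟩
    rw [QCoh.map_app_comm, ht', Scheme.Modules.map_smul, map_pow, ht, Scheme.Modules.Hom.app_smul, ← mul_smul,
      ← pow_add]
  · have h0 := congrArg ((divIdeal k).ι.app _) ht
    rw [QCoh.map_app_comm, map_zero] at h0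
    obtain ⟨n, hn⟩ := QCoh.exists_pow_smul_eq_zero QCoh.isQCoh_structureModule hU f _ h0
    refine ⟨n, (divIdeal k).ι_app_injective _ ?_⟩
    rw [Scheme.Modules.Hom.app_smul, map_zero]
    exact hn

variable [IsLocallyNoetherian X]

include hk in
theorem isCoh_divIdeal : Coh.IsCoh (divIdeal k).toModules := by
  refine QCoh.isCoh_iff.2 ⟨isQCoh_divIdeal k hk, fun U => ?_⟩
  haveI : IsNoetherianRing Γ(X, U.1) := IsLocallyNoetherian.component_noetherian U
  haveI : Module.Finite Γ(X, U.1) Γ(Coh.structureModule X, U.1) := Module.Finite.self _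
  let L : Γ((divIdeal k).toModules, U.1) →ₗ[Γ(X, U.1)] Γ(Coh.structureModule X, U.1) :=
    { toFun := (divIdeal k).ι.app U.1
      map_add' := map_add _
      map_smul' := fun r x => (divIdeal k).ι.app_smul r x }
  exact Module.Finite.of_injective L ((divIdeal k).ι_app_injective _)

theorem stalk_ι_injective (x : X) : Function.Injective (RefHull.stalkMapₗ (divIdeal k).ι x) := by
  refine (injective_iff_map_eq_zero _).2 fun m hm => ?_
  obtain ⟨V, hV, s, rfl⟩ := TopCat.Presheaf.exists_germ_eq (divIdeal k).toModules.presheaf m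
  rw [RefHull.stalkMapₗ_germ] at hm
  obtain ⟨W, hW, i, j, hij⟩ := (Coh.structureModule X).presheaf.germ_eq x hV hV _ 0 (hm.trans (map_zero _).symm)
  have h2 : (divIdeal k).toModules.presheaf.map i.op s = 0 := (divIdeal k).ι_app_injective _ (by
    rw [QCoh.map_app_comm, hij, map_zero, map_zero])
  rw [← (divIdeal k).toModules.presheaf.germ_res_apply i x hW, h2, map_zero]

variable [IsIntegral X]

include hk in
/-- Near a point of codimension at most one the orders are prescribed only at that point. -/
theorem exists_nhd_clean {x : X} (hx : Order.coheight x ≤ 1) {V : X.Opens} (hV : IsAffineOpen V) (hxV : x ∈ V) :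
    ∃ W : X.Opens, W ≤ V ∧ x ∈ W ∧ ∀ y ∈ W, Order.coheight y = 1 → k y ≠ 0 → y = x := by
  classical
  let S := (hk V hV).toFinset.erase x
  have hcl : IsClosed (⋃ y ∈ S, closure ({y} : Set X)) := S.finite_toSet.isClosed_biUnion fun _ _ => isClosed_closure
  refine ⟨⟨(V : Set X) ∩ (⋃ y ∈ S, closure ({y} : Set X))ᶜ, V.2.inter hcl.isOpen_compl⟩, fun z hz => hz.1, ⟨hxV, ?_⟩,
    fun y hy h1 h0 => ?_⟩
  · simp only [Set.mem_compl_iff, Set.mem_iUnion, not_exists]
    intro y hy hyx
    have hmem := Set.Finite.mem_toFinset _ |>.1 (Finset.mem_of_mem_erase hy)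
    have hne : y ≠ x := Finset.ne_of_mem_erase hy
    have h2 := coheight_two_le (specializes_iff_mem_closure.2 hyx) hne fun hg => by
      have := hmem.2.1
      rw [hg, coheight_genericPoint] at this
      exact zero_ne_one this
    exact absurd (h2.trans hx) (by norm_num)
  · by_contra hne
    refine hy.2 (Set.mem_iUnion₂.2 ⟨y, ?_, subset_closure rfl⟩)
    exact Finset.mem_erase.2 ⟨hne, (Set.Finite.mem_toFinset _).2 ⟨hy.1, h1, h0⟩⟩

include hk in
/-- The ideal has frames in codimension one and a section with the negated orders. -/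
theorem divIdeal_section (hX : Pi1.IsNormalScheme X) :
    HasFrames (divIdeal k).toModules ∧
      ∃ v : (divIdeal k).toModules.presheaf.stalk (genericPoint X), v ≠ 0 ∧ ∀ x : X, Order.coheight x = 1 →
        Cyc.secOrdAt (divIdeal k).toModules (genericPoint X) x (specializes_genericPoint x) (clsη _ v) =
          - (k x : ℤ) := by
  have hcoh := isCoh_divIdeal k hk
  have htf : ∀ y : X, Module.IsTorsionFree (X.presheaf.stalk y) ((divIdeal k).toModules.presheaf.stalk y) := fun y => by
    haveI := (hX y).1
    refine Module.isTorsionFree_iff_smul_eq_zero.2 fun a m h => ?_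
    have h' := congrArg (RefHull.stalkMapₗ (divIdeal k).ι y) h
    rw [map_smul, map_zero] at h'
    have h'' := congrArg (unitStalk y).symm h'
    rw [map_smul, map_zero, smul_eq_mul] at h''
    exact (mul_eq_zero.1 h'').imp id fun h0 => stalk_ι_injective k y ((unitStalk y).symm.injective (by
      rw [h0, map_zero, map_zero]))
  -- image of the stalk
  have himg : ∀ (x : X), Order.coheight x = 1 → ∀ a ∈ maximalIdeal (X.presheaf.stalk x) ^ k x,
      ∃ m, (unitStalk x).symm (RefHull.stalkMapₗ (divIdeal k).ι x m) = a := by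
    intro x hx a ha
    obtain ⟨W, hxW, g, rfl⟩ := TopCat.Presheaf.exists_germ_eq X.presheaf a
    obtain ⟨_, ⟨V, hV, rfl⟩, hxV, hVW⟩ := X.isBasis_affineOpens.exists_subset_of_mem_open hxW W.2
    replace hVW : V ≤ W := hVW
    obtain ⟨W', hW'V, hxW', hclean⟩ := exists_nhd_clean k hk hx.le hV hxV
    have hmem : (show Γ(Coh.structureModule X, W') from X.presheaf.map (homOfLE (hW'V.trans hVW)).op g) ∈
        (divIdeal k).mem W' := fun y hy h1 => by
      by_cases h0 : k y = 0
      · rw [h0, pow_zero, Ideal.one_eq_top]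
        trivial
      obtain rfl := hclean y hy h1 h0
      show X.presheaf.germ W' y hy (X.presheaf.map (homOfLE (hW'V.trans hVW)).op g) ∈ _
      rwa [TopCat.Presheaf.germ_res_apply]
    obtain ⟨t, ht⟩ := (divIdeal k).exists_app_eq hmem
    refine ⟨(divIdeal k).toModules.presheaf.germ W' x hxW' t, ?_⟩
    rw [RefHull.stalkMapₗ_germ, ht]
    exact (unitStalk_symm_germ hxW' _).trans (X.presheaf.germ_res_apply _ x hxW' g)
  -- the unit near the generic point
  obtain ⟨_, ⟨V, hV, rfl⟩, hηV, -⟩ :=
    X.isBasis_affineOpens.exists_subset_of_mem_open (Set.mem_univ (genericPoint X)) isOpen_univ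
  obtain ⟨W₀, -, hηW₀, hclean₀⟩ := exists_nhd_clean k hk
    (show Order.coheight (genericPoint X) ≤ 1 by rw [coheight_genericPoint]; exact zero_le) hV hηV
  have h10 : (show Γ(Coh.structureModule X, W₀) from (1 : Γ(X, W₀))) ∈ (divIdeal k).mem W₀ := fun y hy h1 => by
    by_cases h0 : k y = 0
    · rw [h0, pow_zero, Ideal.one_eq_top]
      trivial
    exfalso
    rw [hclean₀ y hy h1 h0, coheight_genericPoint] at h1
    exact zero_ne_one h1
  obtain ⟨o, ho⟩ := (divIdeal k).exists_app_eq h10
  let v := (divIdeal k).toModules.presheaf.germ W₀ (genericPoint X) hηW₀ o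
  have hv : (unitStalk (genericPoint X)).symm (RefHull.stalkMapₗ (divIdeal k).ι _ v) = 1 := by
    rw [RefHull.stalkMapₗ_germ, ho]
    exact (unitStalk_symm_germ hηW₀ _).trans (map_one _)
  have hv0 : v ≠ 0 := fun h => one_ne_zero (α := X.functionField) (by
    show (1 : X.presheaf.stalk (genericPoint X)) = 0
    rw [← hv, h, map_zero, map_zero])
  have hbij : Function.Bijective fun a : X.presheaf.stalk (genericPoint X) => a • v := by
    constructor
    · intro a b hab
      have := congrArg (fun m => (unitStalk (genericPoint X)).symm (RefHull.stalkMapₗ (divIdeal k).ι _ m)) hab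
      simpa only [map_smul, hv, smul_eq_mul, mul_one] using this
    · intro m
      refine ⟨(unitStalk (genericPoint X)).symm (RefHull.stalkMapₗ (divIdeal k).ι _ m), stalk_ι_injective k _
        ((unitStalk (genericPoint X)).symm.injective ?_)⟩
      simp only [map_smul, hv, smul_eq_mul, mul_one]
  -- a generator at each point of codimension one
  have hgen : ∀ x : X, Order.coheight x = 1 → ∃ (t : (divIdeal k).toModules.presheaf.stalk x) (a : X.presheaf.stalk x),
      Submodule.span (X.presheaf.stalk x) {t} = ⊤ ∧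
      spM _ (specializes_genericPoint x) t = X.presheaf.stalkSpecializes (specializes_genericPoint x) a • v ∧
      a ≠ 0 ∧ Scheme.ord (algebraMap (X.presheaf.stalk x) X.functionField a) x = (k x : ℤ) := by
    intro x hx
    haveI := (hX x).1
    haveI := CDiv6.isDVR_of_coheight_one hX hx
    obtain ⟨π, hπ⟩ := IsDiscreteValuationRing.exists_irreducible (X.presheaf.stalk x)
    obtain ⟨t, ht⟩ := himg x hx (π ^ k x) (Ideal.pow_mem_pow (by
      rw [hπ.maximalIdeal_eq]; exact Ideal.mem_span_singleton_self π) _)
    refine ⟨t, π ^ k x, eq_top_iff.2 fun m _ => ?_, ?_, pow_ne_zero _ hπ.ne_zero, ?_⟩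
    · have hm : (unitStalk x).symm (RefHull.stalkMapₗ (divIdeal k).ι x m) ∈
          maximalIdeal (X.presheaf.stalk x) ^ k x := by
        obtain ⟨W, hW, s, rfl⟩ := TopCat.Presheaf.exists_germ_eq (divIdeal k).toModules.presheaf m
        rw [RefHull.stalkMapₗ_germ]
        erw [unitStalk_symm_germ hW]
        exact (mem_divIdeal k _).1 ((divIdeal k).ι_app_mem _ s) x hW hx
      rw [hπ.maximalIdeal_eq, Ideal.span_singleton_pow, Ideal.mem_span_singleton'] at hm
      obtain ⟨c, hc⟩ := hm
      refine Submodule.mem_span_singleton.2 ⟨c, stalk_ι_injective k x ((unitStalk x).symm.injective ?_)⟩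
      rw [map_smul, map_smul, ht, smul_eq_mul, hc]
    · refine stalk_ι_injective k _ ((unitStalk (genericPoint X)).symm.injective ?_)
      rw [map_smul, map_smul, hv, smul_eq_mul, mul_one, stalkMap_spM]
      obtain ⟨W, hW, g, hg⟩ := TopCat.Presheaf.exists_germ_eq (Coh.structureModule X).presheaf
        (RefHull.stalkMapₗ (divIdeal k).ι x t)
      rw [← ht, ← hg, spM_germ]
      erw [unitStalk_symm_germ hW, unitStalk_symm_germ]
      exact (TopCat.Presheaf.germ_stalkSpecializes_apply X.presheaf hW _ _).symm
    · haveI : Ring.KrullDimLE 1 (X.presheaf.stalk x) := krullDimLE_of_coheight_le hx.le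
      rw [Scheme.ord_eq_iff hx ((map_ne_zero_iff _ (IsFractionRing.injective _ _)).2 (pow_ne_zero _ hπ.ne_zero)),
        map_pow, map_pow]
      show (Ring.ordFrac (X.presheaf.stalk x) (algebraMap (X.presheaf.stalk x) X.functionField π)) ^ k x = _
      rw [Ring.ordFrac_irreducible hπ, ← WithZero.exp_nsmul]
      simp [WithZero.exp]
  refine ⟨fun x hx => ?_, v, hv0, fun x hx => ?_⟩
  · rcases lt_or_eq_of_le hx with h | h
    · have hxη : x = genericPoint X := by
        rw [ENat.lt_one_iff_eq_zero, Order.coheight_eq_zero] at h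
        exact (Specializes.antisymm (h (specializes_genericPoint x)) (specializes_genericPoint x)).eq
      subst hxη
      refine exists_frame_of_gen hcoh htf (t := v) (eq_top_iff.2 fun m _ => ?_) ?_
      · obtain ⟨c, hc⟩ := hbij.2 m
        exact Submodule.mem_span_singleton.2 ⟨c, hc⟩
      · rw [spM_germ]
        exact hv0
    · obtain ⟨t, a, ht, hta, ha, -⟩ := hgen x h
      refine exists_frame_of_gen hcoh htf ht ?_
      rw [hta]
      intro h0
      rcases smul_eq_zero_generic h0 with h1 | h1
      · exact ha (IsFractionRing.injective (X.presheaf.stalk x) X.functionField (h1.trans (map_zero _).symm))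
      · exact hv0 h1
  · obtain ⟨t, a, ht, hta, ha, hord⟩ := hgen x hx
    have hA : algebraMap (X.presheaf.stalk x) X.functionField a ≠ 0 :=
      (map_ne_zero_iff _ (IsFractionRing.injective _ _)).2 ha
    have ht0 : spM _ (specializes_genericPoint x) t ≠ 0 := by
      rw [hta]
      intro h0
      rcases smul_eq_zero_generic h0 with h1 | h1
      · exact hA h1
      · exact hv0 h1
    have := secOrdAt_eq_ord hx ht ht0 (s := clsη _ v) (φ := (algebraMap (X.presheaf.stalk x) X.functionField a)⁻¹)
      (inv_ne_zero hA) (by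
        rw [hta, ← mul_smul]
        show _ = Submodule.Quotient.mk _
        congr 1
        exact (one_smul _ v).symm.trans (congrArg (· • v) (inv_mul_cancel₀ hA).symm))
    rw [this, ← hord]
    have h2 := Scheme.ord_mul (x := x) hA (inv_ne_zero hA)
    have h3 := Scheme.ord_mul (x := x) (one_ne_zero (α := X.functionField)) one_ne_zero
    rw [mul_one] at h3
    rw [mul_inv_cancel₀ hA] at h2
    linarith

/-- Every cycle of codimension one is the divisor of a rational section of a reflexive module of rank one. -/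
theorem exists_ref1_of_orders (hX : Pi1.IsNormalScheme X) (D : X → ℤ)
    (hD : ∀ V : X.Opens, IsAffineOpen V → {x : X | x ∈ V ∧ Order.coheight x = 1 ∧ D x ≠ 0}.Finite) :
    ∃ (F : X.Modules) (_ : RefHull.IsRef1 F) (v : F.presheaf.stalk (genericPoint X)), v ≠ 0 ∧
      ∀ x : X, Order.coheight x = 1 →
        Cyc.secOrdAt F (genericPoint X) x (specializes_genericPoint x) (clsη _ v) = D x := by
  let p : X → ℕ := fun x => (D x).toNat
  let n : X → ℕ := fun x => (-D x).toNat
  have hp : ∀ V : X.Opens, IsAffineOpen V → {x : X | x ∈ V ∧ Order.coheight x = 1 ∧ p x ≠ 0}.Finite :=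
    fun V hV => (hD V hV).subset fun x ⟨h1, h2, h3⟩ => ⟨h1, h2, fun h => h3 (by simp [p, h])⟩
  have hn : ∀ V : X.Opens, IsAffineOpen V → {x : X | x ∈ V ∧ Order.coheight x = 1 ∧ n x ≠ 0}.Finite :=
    fun V hV => (hD V hV).subset fun x ⟨h1, h2, h3⟩ => ⟨h1, h2, fun h => h3 (by simp [n, h])⟩
  obtain ⟨hfp, vp, hvp, hop⟩ := divIdeal_section p hp hX
  obtain ⟨hfn, vn, hvn, hon⟩ := divIdeal_section n hn hX
  obtain ⟨wp, hwp, hop'⟩ := exists_dual_section (isCoh_divIdeal p hp) hfp hvp
  have hfd := hasFrames_dual (isCoh_divIdeal p hp) hfp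
  obtain ⟨w, hw, how⟩ := exists_tensor_section hfd hfn hwp hvn
  have hc := isCoh_tensor (isCoh_dual (isCoh_divIdeal p hp)) (isCoh_divIdeal n hn)
  have hfT := hasFrames_tensor hfd hfn
  obtain ⟨h1, h2⟩ := secOrd_bidual hc hfT hw
  refine ⟨_, isRef1_ddual hc hfT, _, h1, fun x hx => ?_⟩
  rw [h2 x hx, how x hx, hop' x hx, hop x hx, hon x hx]
  simp only [p, n]
  omega

end Groth.Agent.RefX
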