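import Groth.Agent.RefX.Generic
import Groth.Agent.CycLib.DivMap
import Groth.Agent.IntThLib.Lattice
import Groth.Prelude.Def_C1
import Mathlib.AlgebraicGeometry.OrderOfVanishing

/-!
# Orders of rational sections in codimension one
-/

universe u

set_option backward.isDefEq.respectTransparency false
set_option backward.isDefEq.respectTransparency.types false
set_option linter.style.haveILetI false

open CategoryTheory AlgebraicGeometry TopologicalSpace Opposite IsLocalRing

namespace Groth.Agent.RefX

variable {X : Scheme.{u}} [IsIntegral X]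

theorem residue_injective : Function.Injective (X.residue (genericPoint X)).hom := by
  letI : Field (X.presheaf.stalk (genericPoint X)) := (inferInstance : Field X.functionField)
  exact RingHom.injective _

theorem maximalIdeal_generic : maximalIdeal (X.presheaf.stalk (genericPoint X)) = ⊥ := by
  letI : Field (X.presheaf.stalk (genericPoint X)) := (inferInstance : Field X.functionField)
  exact maximalIdeal_eq_bot

theorem mk_injective (L : X.Modules) :
    Function.Injective (Submodule.Quotient.mk : L.presheaf.stalk (genericPoint X) → Cyc.secFibre L (genericPoint X)) := by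
  intro a b h
  rw [Submodule.Quotient.eq, maximalIdeal_generic, Submodule.bot_smul, Submodule.mem_bot] at h
  exact sub_eq_zero.1 h

variable [IsLocallyNoetherian X]

/-- The order at a point of codimension one, computed on the closure of the generic point. -/
noncomputable def ordK (x : X) (φ : X.functionField) : ℤ :=
  Cyc.ordAt x (genericPoint X) (specializes_genericPoint x) (X.residue (genericPoint X) φ)

theorem specMap_eq (x : X) (a : X.presheaf.stalk x) :
    Cyc.specMap x (genericPoint X) (specializes_genericPoint x) a =
      X.residue (genericPoint X) (algebraMap (X.presheaf.stalk x) X.functionField a) := rfl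

theorem specMap_injective (x : X) :
    Function.Injective (Cyc.specMap x (genericPoint X) (specializes_genericPoint x)) := fun a b h =>
  IsFractionRing.injective (X.presheaf.stalk x) X.functionField (residue_injective (by
    rw [← specMap_eq, ← specMap_eq, h]))

/-- The local ring is the local ring of the closure of the generic point. -/
noncomputable def locQuotEquiv (x : X) :
    X.presheaf.stalk x ≃+* Cyc.LocQuot x (genericPoint X) (specializes_genericPoint x) :=
  RingEquiv.ofBijective (Ideal.Quotient.mk _) ⟨(injective_iff_map_eq_zero _).2 fun b hb =>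
    specMap_injective x ((RingHom.mem_ker.1 (Ideal.Quotient.eq_zero_iff_mem.1 hb)).trans (map_zero _).symm),
    Ideal.Quotient.mk_surjective⟩

theorem krullDimLE_locQuot_gen {x : X} (hx : Order.coheight x = 1) :
    Ring.KrullDimLE 1 (Cyc.LocQuot x (genericPoint X) (specializes_genericPoint x)) := by
  haveI : Ring.KrullDimLE 1 (X.presheaf.stalk x) := krullDimLE_of_coheight_le hx.le
  rw [Ring.KrullDimLE, Order.krullDimLE_iff]
  exact (ringKrullDim_eq_of_ringEquiv (locQuotEquiv x)).ge.trans (Ring.krullDimLE_iff.1 inferInstance)

theorem ordK_algebraMap {x : X} (hx : Order.coheight x = 1) {a : X.presheaf.stalk x} (ha : a ≠ 0) :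
    ordK x (algebraMap (X.presheaf.stalk x) X.functionField a) =
      Scheme.ord (algebraMap (X.presheaf.stalk x) X.functionField a) x := by
  haveI := krullDimLE_locQuot_gen hx
  haveI : Ring.KrullDimLE 1 (X.presheaf.stalk x) := krullDimLE_of_coheight_le hx.le
  have h0 : Ideal.Quotient.mk _ a ≠ (0 : Cyc.LocQuot x (genericPoint X) (specializes_genericPoint x)) := fun h =>
    ha ((locQuotEquiv x).injective (h.trans (map_zero _).symm))
  obtain ⟨n, hn⟩ := ENat.ne_top_iff_exists.mp (Ring.ord_ne_top (mem_nonZeroDivisors_of_ne_zero ha))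
  have h1 : ordK x (algebraMap (X.presheaf.stalk x) X.functionField a) = (n : ℤ) := by
    unfold ordK Cyc.ordAt
    rw [show X.residue (genericPoint X) (algebraMap (X.presheaf.stalk x) X.functionField a) =
      algebraMap (Cyc.LocQuot x (genericPoint X) (specializes_genericPoint x)) (X.residueField (genericPoint X))
        (Ideal.Quotient.mk _ a) from rfl, IntThLib.ordFrac_algebraMap h0,
      show Ideal.Quotient.mk _ a = locQuotEquiv x a from rfl, CycLib.ord_ringEquiv, ← hn]
    rfl
  rw [h1]
  refine ((Scheme.ord_eq_iff hx ((map_ne_zero_iff _ (IsFractionRing.injective _ _)).2 ha)).2 ?_).symm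
  show Ring.ordFrac (X.presheaf.stalk x) _ = _
  rw [Ring.ordFrac_eq_ord _ ha, Ring.ordMonoidWithZeroHom_eq_coe _ (mem_nonZeroDivisors_of_ne_zero ha) hn.symm]

theorem ordK_eq {x : X} (hx : Order.coheight x = 1) {φ : X.functionField} (hφ : φ ≠ 0) :
    ordK x φ = Scheme.ord φ x := by
  haveI := krullDimLE_locQuot_gen hx
  obtain ⟨a, b, hb, rfl⟩ := IsFractionRing.div_surjective (A := X.presheaf.stalk x) φ
  have hb0 : b ≠ 0 := nonZeroDivisors.ne_zero hb
  have ha0 : a ≠ 0 := fun h => hφ (by rw [h, map_zero, zero_div])
  set A := algebraMap (X.presheaf.stalk x) X.functionField a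
  set B := algebraMap (X.presheaf.stalk x) X.functionField b
  have hA : A ≠ 0 := (map_ne_zero_iff _ (IsFractionRing.injective _ _)).2 ha0
  have hB : B ≠ 0 := (map_ne_zero_iff _ (IsFractionRing.injective _ _)).2 hb0
  have hmul : ∀ f g : X.functionField, f ≠ 0 → g ≠ 0 → ordK x (f * g) = ordK x f + ordK x g := fun f g hf hg => by
    unfold ordK Cyc.ordAt
    rw [map_mul]
    exact IntThLib.ordFrac_mul ((map_ne_zero_iff _ residue_injective).2 hf) ((map_ne_zero_iff _ residue_injective).2 hg)
  have h1 := hmul _ _ (div_ne_zero hA hB) hB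
  have h2 := Scheme.ord_mul (x := x) (div_ne_zero hA hB) hB
  rw [div_mul_cancel₀ _ hB] at h1 h2
  have h3 := ordK_algebraMap hx ha0
  have h4 := ordK_algebraMap hx hb0
  linarith

theorem spM_generator_smul {L : X.Modules} {x : X} {t t' : L.presheaf.stalk x}
    (ht : Submodule.span (X.presheaf.stalk x) {t} = ⊤) (ht' : Submodule.span (X.presheaf.stalk x) {t'} = ⊤)
    (h0 : spM L (specializes_genericPoint x) t ≠ 0) :
    ∃ u : X.presheaf.stalk x, IsUnit u ∧ t' = u • t := by
  obtain ⟨u, hu⟩ := Submodule.mem_span_singleton.1 (ht.ge (Submodule.mem_top : t' ∈ ⊤))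
  obtain ⟨r, hr⟩ := Submodule.mem_span_singleton.1 (ht'.ge (Submodule.mem_top : t ∈ ⊤))
  refine ⟨u, IsUnit.of_mul_eq_one r ?_, hu.symm⟩
  letI : Field (X.presheaf.stalk (genericPoint X)) := (inferInstance : Field X.functionField)
  have h1 : spM L (specializes_genericPoint x) ((r * u - 1) • t) = 0 := by
    rw [sub_smul, mul_smul, hu, hr, one_smul, sub_self, map_zero]
  rw [spM_smul] at h1
  have h2 : r * u - 1 = 0 := by
    by_contra hne
    refine h0 ((smul_eq_zero.1 h1).resolve_left ?_)
    exact (map_ne_zero_iff _ (IsFractionRing.injective (X.presheaf.stalk x) X.functionField)).2 hne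
  rw [mul_comm]
  exact sub_eq_zero.1 h2

/-- The order of a rational section, computed with a generator of the stalk. -/
theorem secOrdAt_eq_ord {L : X.Modules} {x : X} (hx : Order.coheight x = 1) {t : L.presheaf.stalk x}
    (ht : Submodule.span (X.presheaf.stalk x) {t} = ⊤) (h0 : spM L (specializes_genericPoint x) t ≠ 0)
    {s : Cyc.secFibre L (genericPoint X)} {φ : X.functionField} (hφ : φ ≠ 0)
    (hs : s = Submodule.Quotient.mk
      (show L.presheaf.stalk (genericPoint X) from
        (show X.presheaf.stalk (genericPoint X) from φ) • spM L (specializes_genericPoint x) t)) :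
    Cyc.secOrdAt L (genericPoint X) x (specializes_genericPoint x) s = Scheme.ord φ x := by
  classical
  letI : Field (X.presheaf.stalk (genericPoint X)) := (inferInstance : Field X.functionField)
  have ht' : ∃ t : L.presheaf.stalk x, Submodule.span (X.presheaf.stalk x) {t} = ⊤ := ⟨t, ht⟩
  rw [Cyc.secOrdAt, dif_pos ht']
  obtain ⟨u, hu, hut⟩ := spM_generator_smul ht (Classical.choose_spec ht') h0
  obtain ⟨v, hv⟩ := hu.exists_left_inv
  have hψ : ∃ ψ : X.presheaf.stalk (genericPoint X), s = ψ • (Submodule.Quotient.mk
      ((L.presheaf.stalkSpecializes (specializes_genericPoint x)) (Classical.choose ht')) :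
        Cyc.secFibre L (genericPoint X)) := by
    refine ⟨(show X.presheaf.stalk (genericPoint X) from φ) * X.presheaf.stalkSpecializes (specializes_genericPoint x) v, ?_⟩
    rw [hs, ← Submodule.Quotient.mk_smul]
    congr 1
    change _ = _ • spM L (specializes_genericPoint x) (Classical.choose ht')
    rw [hut, spM_smul, ← mul_smul, mul_assoc, ← map_mul, hv, map_one, mul_one]
  rw [dif_pos hψ]
  have h1 := Classical.choose_spec hψ
  rw [← Submodule.Quotient.mk_smul] at h1
  have h2 := mk_injective L (hs.symm.trans h1)
  change _ = _ • spM L (specializes_genericPoint x) (Classical.choose ht') at h2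
  generalize Classical.choose hψ = ψ at h2 ⊢
  rw [hut, spM_smul, ← mul_smul] at h2
  have h3 := smul_left_injective _ h0 h2
  simp only at h3
  set U := algebraMap (X.presheaf.stalk x) X.functionField u
  have h3' : φ = (show X.functionField from ψ) * U := h3
  have hψ0 : (show X.functionField from ψ) ≠ 0 := fun h => hφ (by rw [h3', h, zero_mul])
  have hU : U ≠ 0 := (map_ne_zero_iff _ (IsFractionRing.injective _ _)).2 hu.ne_zero
  show ordK x ψ = _
  rw [ordK_eq hx hψ0, h3', Scheme.ord_mul hψ0 hU, ← ordK_eq hx hU]
  have : ordK x U = 0 := by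
    unfold ordK Cyc.ordAt
    haveI := krullDimLE_locQuot_gen hx
    rw [show X.residue (genericPoint X) U =
      algebraMap (Cyc.LocQuot x (genericPoint X) (specializes_genericPoint x)) (X.residueField (genericPoint X))
        (Ideal.Quotient.mk _ u) from rfl, IntThLib.ordFrac_algebraMap (hu.map _).ne_zero,
      Ring.ord_of_isUnit (hu.map (Ideal.Quotient.mk _))]
    rfl
  rw [this, add_zero]

end Groth.Agent.RefX
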