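import Groth.Agent.RefX.Dual
import Groth.Agent.RefX.RankOne
import Groth.Agent.InvX.GenLocusPull

/-!
# Isomorphisms of rank one reflexive modules and their orders in codimension one
-/

universe u

set_option backward.isDefEq.respectTransparency false
set_option backward.isDefEq.respectTransparency.types false
set_option linter.style.haveILetI false

open CategoryTheory AlgebraicGeometry TopologicalSpace Opposite IsLocalRing

namespace Groth.Agent.RefX

variable {X : Scheme.{u}} {F G H : X.Modules}

theorem stalkMap_comp_apply (φ : F ⟶ G) (ψ : G ⟶ H) (x : X) (v : F.presheaf.stalk x) :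
    RefHull.stalkMapₗ (φ ≫ ψ) x v = RefHull.stalkMapₗ ψ x (RefHull.stalkMapₗ φ x v) := by
  obtain ⟨U, hx, m, rfl⟩ := TopCat.Presheaf.exists_germ_eq F.presheaf v
  rw [RefHull.stalkMapₗ_germ, RefHull.stalkMapₗ_germ, RefHull.stalkMapₗ_germ]
  rfl

theorem stalkMap_id_apply (F : X.Modules) (x : X) (v : F.presheaf.stalk x) :
    RefHull.stalkMapₗ (𝟙 F) x v = v := by
  obtain ⟨U, hx, m, rfl⟩ := TopCat.Presheaf.exists_germ_eq F.presheaf v
  rw [RefHull.stalkMapₗ_germ]
  rfl

theorem stalkMap_injective (ι : F ≅ G) (x : X) : Function.Injective (RefHull.stalkMapₗ ι.hom x) := by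
  intro a b h
  have := congrArg (RefHull.stalkMapₗ ι.inv x) h
  rwa [← stalkMap_comp_apply, ← stalkMap_comp_apply, ι.hom_inv_id, stalkMap_id_apply, stalkMap_id_apply] at this

variable [IsIntegral X] [IsLocallyNoetherian X]

theorem torsionFree_of_reflexive {x : X} (h : RefHull.IsReflexiveAt F x) :
    Module.IsTorsionFree (X.presheaf.stalk x) (F.presheaf.stalk x) := by
  haveI : Module.IsReflexive (X.presheaf.stalk x) (F.presheaf.stalk x) := h
  exact (Module.bijective_dual_eval (X.presheaf.stalk x) (F.presheaf.stalk x)).1.moduleIsTorsionFree _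
    (fun r m => map_smul _ r m)

/-- Maps into a torsion free coherent module are determined at the generic point. -/
theorem hom_ext_generic (hG : Coh.IsCoh G)
    (htf : ∀ x : X, Module.IsTorsionFree (X.presheaf.stalk x) (G.presheaf.stalk x)) {φ ψ : F ⟶ G}
    (h : ∀ v, RefHull.stalkMapₗ φ (genericPoint X) v = RefHull.stalkMapₗ ψ (genericPoint X) v) : φ = ψ := by
  refine Scheme.Modules.hom_ext _ _ fun W => ?_
  ext s
  by_cases hη : genericPoint X ∈ W
  · refine sub_eq_zero.1 (germ_eq_zero_of_generic hG htf (φ.app W s - ψ.app W s) hη ?_)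
    rw [map_sub, sub_eq_zero]
    have := h (F.presheaf.germ W _ hη s)
    rwa [RefHull.stalkMapₗ_germ, RefHull.stalkMapₗ_germ] at this
  · refine AModX.eq_of_locally _ _ fun p hp => ?_
    exact absurd ((specializes_genericPoint p).mem_open W.2 hp) hη

theorem bijective_smul_of_ne_zero (hF : HasFrames F) {v : F.presheaf.stalk (genericPoint X)} (hv : v ≠ 0) :
    Function.Bijective fun a : ↑(X.presheaf.stalk (genericPoint X)) => a • v := by
  obtain ⟨U, hU, e, he⟩ := hF (genericPoint X) (by rw [coheight_genericPoint]; exact zero_le)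
  obtain ⟨φ, rfl⟩ := exists_coord_generic he hU v
  have hφ : IsUnit φ := by
    refine (isUnit_iff_ne_zero (a := (show X.functionField from φ))).2 fun h => hv ?_
    rw [show φ = 0 from h, zero_smul]
  have hb := (he.germ_bijective hU).comp (IsUnit.isUnit_iff_mulRight_bijective.1 hφ)
  have hfun : (fun a : ↑(X.presheaf.stalk (genericPoint X)) => a • φ • F.presheaf.germ U (genericPoint X) hU e) =
      (fun a => a • F.presheaf.germ U (genericPoint X) hU e) ∘ (fun a => a * φ) :=
    funext fun a => (mul_smul a φ _).symm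
  rw [hfun]
  exact hb

theorem secOrd_iso (ι : F ≅ G) (hF : HasFrames F) {v : F.presheaf.stalk (genericPoint X)} (hv : v ≠ 0) {x : X}
    (hx : Order.coheight x = 1) :
    Cyc.secOrdAt G (genericPoint X) x (specializes_genericPoint x)
        (clsη G (RefHull.stalkMapₗ ι.hom (genericPoint X) v)) =
      Cyc.secOrdAt F (genericPoint X) x (specializes_genericPoint x) (clsη F v) := by
  obtain ⟨U, hU, e, he⟩ := hF x hx.le
  have hη := (specializes_genericPoint x).mem_open U.2 hU
  obtain ⟨φ, rfl⟩ := exists_coord_generic he hη v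
  have hφ : (show X.functionField from φ) ≠ 0 := fun h0 => hv (by rw [show φ = 0 from h0, zero_smul])
  rw [map_smul, RefHull.stalkMapₗ_germ]
  exact (secOrd_frame (he.map_iso ι) hU hx hφ).trans (secOrd_frame he hU hx hφ).symm

/-- Isomorphic modules: the orders differ by a principal divisor. -/
theorem exists_ord_of_iso (ι : F ≅ G) (hF : HasFrames F) (hG : HasFrames G)
    {v : F.presheaf.stalk (genericPoint X)} (hv : v ≠ 0) {w : G.presheaf.stalk (genericPoint X)} (hw : w ≠ 0) :
    ∃ f : X.functionField, f ≠ 0 ∧ ∀ x : X, Order.coheight x = 1 →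
      Cyc.secOrdAt F (genericPoint X) x (specializes_genericPoint x) (clsη F v) =
        Cyc.secOrdAt G (genericPoint X) x (specializes_genericPoint x) (clsη G w) + Scheme.ord f x := by
  obtain ⟨f, hf⟩ := (bijective_smul_of_ne_zero hG hw).2 (RefHull.stalkMapₗ ι.hom (genericPoint X) v)
  have hf0 : (show X.functionField from f) ≠ 0 := fun h => hv (stalkMap_injective ι _ (by
    rw [map_zero, ← hf]
    show f • w = 0
    rw [show f = 0 from h, zero_smul]))
  refine ⟨f, hf0, fun x hx => ?_⟩
  rw [← secOrd_iso ι hF hv hx, ← hf, add_comm]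
  exact secOrd_smul hG hx hf0 hw

/-- A map at the generic point adding nonnegative orders respects the lattices. -/
theorem mapsTo_spM (hX : Pi1.IsNormalScheme X) (hF : HasFrames F) (hG : HasFrames G)
    {v : F.presheaf.stalk (genericPoint X)} (hv : v ≠ 0) {w : G.presheaf.stalk (genericPoint X)} (hw : w ≠ 0)
    {x : X} (hx : Order.coheight x = 1)
    (h : Cyc.secOrdAt G (genericPoint X) x (specializes_genericPoint x) (clsη G w) ≤
      Cyc.secOrdAt F (genericPoint X) x (specializes_genericPoint x) (clsη F v))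
    (T : G.presheaf.stalk (genericPoint X) →ₗ[X.presheaf.stalk (genericPoint X)] F.presheaf.stalk (genericPoint X))
    (hT : T w = v) :
    Set.MapsTo T (Set.range (spM G (specializes_genericPoint x))) (Set.range (spM F (specializes_genericPoint x))) := by
  intro u hu
  obtain ⟨a, rfl⟩ := (bijective_smul_of_ne_zero hG hw).2 u
  rw [map_smul, hT]
  by_cases ha : (show X.functionField from a) = 0
  · exact ⟨0, by rw [map_zero, show a = 0 from ha, zero_smul]⟩
  · have ha' : a • w ≠ 0 := fun h0 => by
      rcases smul_eq_zero_generic h0 with h1 | h1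
      · exact ha h1
      · exact hw h1
    have ha'' : a • v ≠ 0 := fun h0 => by
      rcases smul_eq_zero_generic h0 with h1 | h1
      · exact ha h1
      · exact hv h1
    refine (secOrd_nonneg_iff hX hF hx ha'').1 ?_
    have h1 := (secOrd_nonneg_iff hX hG hx ha').2 hu
    have h2 := secOrd_smul hG hx ha hw
    have h3 := secOrd_smul hF hx ha hv
    exact le_trans h1 (le_trans h2.le (le_trans (add_le_add le_rfl h) h3.ge))

theorem exists_hom_of_orders (hX : Pi1.IsNormalScheme X) (hF : RefHull.IsRef1 F) (hG : HasFrames G)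
    {v : F.presheaf.stalk (genericPoint X)} (hv : v ≠ 0) {w : G.presheaf.stalk (genericPoint X)} (hw : w ≠ 0)
    (h : ∀ x : X, Order.coheight x = 1 →
      Cyc.secOrdAt G (genericPoint X) x (specializes_genericPoint x) (clsη G w) ≤
        Cyc.secOrdAt F (genericPoint X) x (specializes_genericPoint x) (clsη F v)) :
    ∃ φ : G ⟶ F, RefHull.stalkMapₗ φ (genericPoint X) w = v := by
  let E := LinearEquiv.ofBijective (LinearMap.toSpanSingleton (X.presheaf.stalk (genericPoint X)) _ w)
    (bijective_smul_of_ne_zero hG hw)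
  let T := (LinearMap.toSpanSingleton (X.presheaf.stalk (genericPoint X)) _ v).comp E.symm.toLinearMap
  have hT : T w = v := by
    have h1 : E.symm w = 1 := E.injective (by
      rw [LinearEquiv.apply_symm_apply]
      exact (one_smul (X.presheaf.stalk (genericPoint X)) w).symm)
    show (E.symm w) • v = v
    rw [h1, one_smul]
  obtain ⟨ψ, hψ⟩ := (exists_hom_iff hX hF.1 T).2 fun x hx => by
    have hx' : Order.coheight x = 1 := by
      rw [ringKrullDim_stalk_eq_coheight] at hx
      exact_mod_cast hx
    exact mapsTo_spM hX (hasFrames_of_isRef1 hX hF) hG hv hw hx' (h x hx') T hT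
  haveI : IsIso (RefHull.bidualMap F) := hF.2.1
  refine ⟨ψ ≫ inv (RefHull.bidualMap F), ?_⟩
  rw [stalkMap_comp_apply, LinearMap.congr_fun hψ w, LinearMap.comp_apply, hT, ← stalkMap_comp_apply,
    IsIso.hom_inv_id, stalkMap_id_apply]

/-- Rank one reflexive modules with the same orders are isomorphic. -/
theorem nonempty_iso_of_orders (hX : Pi1.IsNormalScheme X) (hF : RefHull.IsRef1 F) (hG : RefHull.IsRef1 G)
    {v : F.presheaf.stalk (genericPoint X)} (hv : v ≠ 0) {w : G.presheaf.stalk (genericPoint X)} (hw : w ≠ 0)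
    {f : X.functionField} (hf : f ≠ 0)
    (h : ∀ x : X, Order.coheight x = 1 →
      Cyc.secOrdAt F (genericPoint X) x (specializes_genericPoint x) (clsη F v) =
        Cyc.secOrdAt G (genericPoint X) x (specializes_genericPoint x) (clsη G w) + Scheme.ord f x) :
    Nonempty (F ≅ G) := by
  have hfF := hasFrames_of_isRef1 hX hF
  have hfG := hasFrames_of_isRef1 hX hG
  obtain ⟨w', hw'def⟩ : ∃ w', w' = (show X.presheaf.stalk (genericPoint X) from f) • w := ⟨_, rfl⟩
  have hw' : w' ≠ 0 := fun h0 => by
    rcases smul_eq_zero_generic (hw'def.symm.trans h0) with h1 | h1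
    · exact hf h1
    · exact hw h1
  have h' : ∀ x : X, Order.coheight x = 1 →
      Cyc.secOrdAt F (genericPoint X) x (specializes_genericPoint x) (clsη F v) =
        Cyc.secOrdAt G (genericPoint X) x (specializes_genericPoint x) (clsη G w') := fun x hx => by
    rw [h x hx, add_comm, hw'def]
    exact (secOrd_smul hfG hx hf hw).symm
  obtain ⟨φ, hφ⟩ := exists_hom_of_orders hX hG hfF hw' hv fun x hx => (h' x hx).le
  obtain ⟨ψ, hψ⟩ := exists_hom_of_orders hX hF hfG hv hw' fun x hx => (h' x hx).ge
  have htf : ∀ {K : X.Modules}, RefHull.IsRef1 K → ∀ x : X,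
      Module.IsTorsionFree (X.presheaf.stalk x) (K.presheaf.stalk x) := fun hK x =>
    torsionFree_of_reflexive ((isReflexive_iff hK.1).1 hK.2.1 x)
  refine ⟨⟨φ, ψ, hom_ext_generic hF.1 (htf hF) fun u => ?_, hom_ext_generic hG.1 (htf hG) fun u => ?_⟩⟩
  · obtain ⟨a, rfl⟩ := (bijective_smul_of_ne_zero hfF hv).2 u
    rw [map_smul, map_smul, stalkMap_comp_apply, hφ, hψ, stalkMap_id_apply]
  · obtain ⟨a, rfl⟩ := (bijective_smul_of_ne_zero hfG hw').2 u
    rw [map_smul, map_smul, stalkMap_comp_apply, hψ, hφ, stalkMap_id_apply]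

/-- The dual of a module with frames in codimension one is reflexive of rank one. -/
theorem isRef1_dual (hF : Coh.IsCoh F) (h : HasFrames F) : RefHull.IsRef1 (RefHull.dual F) := by
  refine ⟨isCoh_dual hF, (isReflexive_iff (isCoh_dual hF)).2 fun x => isReflexiveAt_dual hF x, ?_⟩
  obtain ⟨U, hU, e, he⟩ := h (genericPoint X) (by rw [coheight_genericPoint]; exact zero_le)
  obtain ⟨ι⟩ := InvX.nonempty_iso_of_isFrame (isFrame_dualFrame hF he)
  refine ⟨U, U.2.dense ⟨_, hU⟩, fun y => ⟨⊤, trivial, ⟨?_⟩⟩⟩
  exact (Scheme.Modules.restrictFunctor _).mapIso ι ≪≫ Scheme.Modules.restrictUnitIso _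

end Groth.Agent.RefX
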