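import Groth.Agent.RefX.Frames
import Groth.Agent.QCoh.TensorSections

/-!
# Orders of rational sections of tensor products and of reflexive hulls
-/

universe u

set_option backward.isDefEq.respectTransparency false
set_option backward.isDefEq.respectTransparency.types false
set_option linter.style.haveILetI false

open CategoryTheory AlgebraicGeometry TopologicalSpace Opposite IsLocalRing

namespace Groth.Agent.RefX

variable {X : Scheme.{u}}

theorem isCoh_tensor {M N : X.Modules} (hM : Coh.IsCoh M) (hN : Coh.IsCoh N) :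
    Coh.IsCoh (CohB1.tensorMod M N) := by
  refine QCoh.isCoh_iff.2 ⟨KFlatLib.isQCoh_tensor hM.1 hN.1, fun U => ?_⟩
  haveI := QCoh.finite_sections hM U.2
  haveI := QCoh.finite_sections hN U.2
  exact Module.Finite.of_surjective (QCoh.tmLin M N U.1) (QCoh.bijective_tmLin hM.1 hN.1 U.2).2

theorem germ_frame_res {M : X.Modules} {U W : X.Opens} (h : W ≤ U) (e : Γ(M, U)) {y : X} (hy : y ∈ W) :
    M.presheaf.germ W y hy (AModX.res M h e) = M.presheaf.germ U y (h hy) e :=
  M.presheaf.germ_res_apply (homOfLE h) y hy e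

/-- The image of a frame under the biduality map is a frame. -/
theorem bidual_frame [IsLocallyNoetherian X] {M : X.Modules} (hM : Coh.IsCoh M) {U : X.Opens} {e : Γ(M, U)}
    (he : InvX.IsFrame e) : InvX.IsFrame ((RefHull.bidualMap M).app U e) := by
  refine InvX.isFrame_of_germ fun y hy => ?_
  let E : X.presheaf.stalk y ≃ₗ[X.presheaf.stalk y] M.presheaf.stalk y :=
    LinearEquiv.ofBijective (LinearMap.toSpanSingleton _ _ (M.presheaf.germ U y hy e)) (he.germ_bijective hy)
  have hr : RefHull.IsReflexiveAt M y := Module.equiv E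
  have hb := (stalkMap_bidual_bijective_iff hM y).2 hr
  have h1 : (fun c : X.presheaf.stalk y => c • (RefHull.ddual M).presheaf.germ U y hy ((RefHull.bidualMap M).app U e)) =
      RefHull.stalkMapₗ (RefHull.bidualMap M) y ∘ fun c => c • M.presheaf.germ U y hy e := funext fun c => by
    rw [Function.comp_apply, map_smul, RefHull.stalkMapₗ_germ]
  rw [h1]
  exact hb.comp (he.germ_bijective hy)

variable [IsIntegral X] [IsLocallyNoetherian X] {F G : X.Modules}

theorem hasFrames_tensor (hF : HasFrames F) (hG : HasFrames G) : HasFrames (CohB1.tensorMod F G) := fun x hx => by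
  obtain ⟨U, hU, e, he⟩ := hF x hx
  obtain ⟨V, hV, f, hf⟩ := hG x hx
  exact ⟨U ⊓ V, ⟨hU, hV⟩, _, InvX.isFrame_tmul (he.res inf_le_left) (hf.res inf_le_right)⟩

theorem hasFrames_ddual (hF : Coh.IsCoh F) (h : HasFrames F) : HasFrames (RefHull.ddual F) := fun x hx => by
  obtain ⟨U, hU, e, he⟩ := h x hx
  exact ⟨U, hU, _, bidual_frame hF he⟩

/-- The biduality map preserves the order of rational sections. -/
theorem secOrd_bidual (hF : Coh.IsCoh F) (h : HasFrames F) {v : F.presheaf.stalk (genericPoint X)} (hv : v ≠ 0) :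
    RefHull.stalkMapₗ (RefHull.bidualMap F) (genericPoint X) v ≠ 0 ∧
      ∀ x : X, Order.coheight x = 1 →
        Cyc.secOrdAt (RefHull.ddual F) (genericPoint X) x (specializes_genericPoint x)
            (clsη _ (RefHull.stalkMapₗ (RefHull.bidualMap F) (genericPoint X) v)) =
          Cyc.secOrdAt F (genericPoint X) x (specializes_genericPoint x) (clsη F v) := by
  refine ⟨?_, fun x hx => ?_⟩
  · obtain ⟨U, hU, e, he⟩ := h (genericPoint X) (by rw [coheight_genericPoint]; exact zero_le)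
    obtain ⟨φ, rfl⟩ := exists_coord_generic he hU v
    rw [map_smul, RefHull.stalkMapₗ_germ]
    intro h0
    rcases smul_eq_zero_generic h0 with h1 | h1
    · exact hv (by rw [show φ = 0 from h1, zero_smul])
    · exact germ_frame_ne_zero (bidual_frame hF he) hU h1
  · obtain ⟨U, hU, e, he⟩ := h x hx.le
    have hη := (specializes_genericPoint x).mem_open U.2 hU
    obtain ⟨φ, rfl⟩ := exists_coord_generic he hη v
    have hφ : (show X.functionField from φ) ≠ 0 := fun h0 => hv (by rw [show φ = 0 from h0, zero_smul])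
    rw [map_smul, RefHull.stalkMapₗ_germ]
    exact (secOrd_frame (bidual_frame hF he) hU hx hφ).trans (secOrd_frame he hU hx hφ).symm

/-- A product of rational sections has the sum of the orders. -/
theorem exists_tensor_section (hF : HasFrames F) (hG : HasFrames G) {v : F.presheaf.stalk (genericPoint X)}
    (hv : v ≠ 0) {u : G.presheaf.stalk (genericPoint X)} (hu : u ≠ 0) :
    ∃ w : (CohB1.tensorMod F G).presheaf.stalk (genericPoint X), w ≠ 0 ∧ ∀ x : X, Order.coheight x = 1 →
      Cyc.secOrdAt (CohB1.tensorMod F G) (genericPoint X) x (specializes_genericPoint x) (clsη _ w) =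
        Cyc.secOrdAt F (genericPoint X) x (specializes_genericPoint x) (clsη F v) +
          Cyc.secOrdAt G (genericPoint X) x (specializes_genericPoint x) (clsη G u) := by
  have hc : Order.coheight (genericPoint X) ≤ 1 := by rw [coheight_genericPoint]; exact zero_le
  obtain ⟨U₁, hU₁, e₁, he₁⟩ := hF _ hc
  obtain ⟨U₂, hU₂, e₂, he₂⟩ := hG _ hc
  obtain ⟨φ, rfl⟩ := exists_coord_generic he₁ hU₁ v
  obtain ⟨ψ, rfl⟩ := exists_coord_generic he₂ hU₂ u
  have hφ : (show X.functionField from φ) ≠ 0 := fun h => hv (by rw [show φ = 0 from h, zero_smul])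
  have hψ : (show X.functionField from ψ) ≠ 0 := fun h => hu (by rw [show ψ = 0 from h, zero_smul])
  let E := InvX.tmul (AModX.res F (inf_le_left : U₁ ⊓ U₂ ≤ U₁) e₁) (AModX.res G (inf_le_right : U₁ ⊓ U₂ ≤ U₂) e₂)
  have hE : InvX.IsFrame E := InvX.isFrame_tmul (he₁.res _) (he₂.res _)
  refine ⟨(φ * ψ) • (CohB1.tensorMod F G).presheaf.germ (U₁ ⊓ U₂) (genericPoint X) ⟨hU₁, hU₂⟩ E, fun h => ?_,
    fun x hx => ?_⟩
  · rcases smul_eq_zero_generic h with h1 | h1
    · exact mul_ne_zero hφ hψ h1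
    · exact germ_frame_ne_zero hE _ h1
  obtain ⟨V₁, hV₁, f₁, hf₁⟩ := hF x hx.le
  obtain ⟨V₂, hV₂, f₂, hf₂⟩ := hG x hx.le
  have hη₁ := (specializes_genericPoint x).mem_open V₁.2 hV₁
  have hη₂ := (specializes_genericPoint x).mem_open V₂.2 hV₂
  let W : X.Opens := (U₁ ⊓ U₂) ⊓ (V₁ ⊓ V₂)
  have hW : genericPoint X ∈ W := ⟨⟨hU₁, hU₂⟩, hη₁, hη₂⟩
  have i₁ : W ≤ U₁ := inf_le_left.trans inf_le_left
  have i₂ : W ≤ U₂ := inf_le_left.trans inf_le_right
  have j₁ : W ≤ V₁ := inf_le_right.trans inf_le_left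
  have j₂ : W ≤ V₂ := inf_le_right.trans inf_le_right
  obtain ⟨a, ha⟩ := hf₁.exists_coord j₁ (AModX.res F i₁ e₁)
  obtain ⟨b, hb⟩ := hf₂.exists_coord j₂ (AModX.res G i₂ e₂)
  let A : X.presheaf.stalk (genericPoint X) := X.presheaf.germ W _ hW a
  let B : X.presheaf.stalk (genericPoint X) := X.presheaf.germ W _ hW b
  have h1 : F.presheaf.germ U₁ _ hU₁ e₁ = A • F.presheaf.germ V₁ _ hη₁ f₁ := by
    rw [← germ_frame_res i₁ e₁ hW, ha, QCoh.germ_smul', germ_frame_res]
  have h2 : G.presheaf.germ U₂ _ hU₂ e₂ = B • G.presheaf.germ V₂ _ hη₂ f₂ := by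
    rw [← germ_frame_res i₂ e₂ hW, hb, QCoh.germ_smul', germ_frame_res]
  let T := InvX.tmul (AModX.res F (inf_le_left : V₁ ⊓ V₂ ≤ V₁) f₁) (AModX.res G (inf_le_right : V₁ ⊓ V₂ ≤ V₂) f₂)
  have hT : InvX.IsFrame T := InvX.isFrame_tmul (hf₁.res _) (hf₂.res _)
  have h3 : (CohB1.tensorMod F G).presheaf.germ (U₁ ⊓ U₂) _ ⟨hU₁, hU₂⟩ E =
      (A * B) • (CohB1.tensorMod F G).presheaf.germ (V₁ ⊓ V₂) _ ⟨hη₁, hη₂⟩ T := by
    rw [← germ_frame_res (inf_le_left : W ≤ U₁ ⊓ U₂) E hW, InvX.res_tmul, AModX.res_res, AModX.res_res, ha, hb,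
      InvX.tmul_smul_left, InvX.tmul_smul_right, QCoh.germ_smul', QCoh.germ_smul', ← mul_smul]
    congr 1
    rw [← AModX.res_res (inf_le_left : V₁ ⊓ V₂ ≤ V₁) (inf_le_right : W ≤ V₁ ⊓ V₂) f₁,
      ← AModX.res_res (inf_le_right : V₁ ⊓ V₂ ≤ V₂) (inf_le_right : W ≤ V₁ ⊓ V₂) f₂, ← InvX.res_tmul,
      germ_frame_res]
  have hA : (show X.functionField from A) ≠ 0 := fun h => germ_frame_ne_zero he₁ hU₁ (by
    rw [h1, show A = 0 from h, zero_smul])
  have hB : (show X.functionField from B) ≠ 0 := fun h => germ_frame_ne_zero he₂ hU₂ (by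
    rw [h2, show B = 0 from h, zero_smul])
  rw [h1, h2, h3, ← mul_smul, ← mul_smul, ← mul_smul]
  refine (secOrd_frame hT ⟨hV₁, hV₂⟩ hx
    (φ := (show X.functionField from φ) * (show X.functionField from ψ) *
      ((show X.functionField from A) * (show X.functionField from B))) ?_).trans ?_
  · exact mul_ne_zero (mul_ne_zero hφ hψ) (mul_ne_zero hA hB)
  refine Eq.trans ?_ (congrArg₂ (· + ·)
    (secOrd_frame hf₁ hV₁ hx (φ := (show X.functionField from φ) * (show X.functionField from A)) (mul_ne_zero hφ hA)).symm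
    (secOrd_frame hf₂ hV₂ hx (φ := (show X.functionField from ψ) * (show X.functionField from B)) (mul_ne_zero hψ hB)).symm)
  rw [Scheme.ord_mul (mul_ne_zero hφ hψ) (mul_ne_zero hA hB), Scheme.ord_mul hφ hψ, Scheme.ord_mul hA hB,
    Scheme.ord_mul hφ hA, Scheme.ord_mul hψ hB]
  ring

end Groth.Agent.RefX
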