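import Groth.Agent.RefX.ClassGroup
import Groth.Prelude.Def_RefPow

/-!
# Reflexive powers and powers of a section
-/

universe u

set_option backward.isDefEq.respectTransparency false
set_option backward.isDefEq.respectTransparency.types false
set_option linter.style.haveILetI false

open CategoryTheory AlgebraicGeometry TopologicalSpace

namespace Groth.Agent.RefX

variable {X : Scheme.{u}} {F : X.Modules}

theorem app_eq_smul_val (φ : Coh.structureModule X ⟶ F) {V : X.Opens} (r : Γ(Coh.structureModule X, V)) :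
    φ.app V r = (show Γ(X, V) from r) • (SecTwist.val φ V : Γ(F, V)) :=
  (congrArg (φ.app V) (mul_one (show Γ(X, V) from r)).symm).trans
    (φ.app_smul (show Γ(X, V) from r) (show Γ(Coh.structureModule X, V) from (1 : Γ(X, V))))

theorem res_secVal (φ : Coh.structureModule X ⟶ F) {U V : X.Opens} (h : V ≤ U) :
    AModX.res F h (SecTwist.val φ U) = SecTwist.val φ V :=
  SecTwist.map_val φ (homOfLE h)

theorem val_sPow_succ (s : Coh.structureModule X ⟶ F) (n : ℕ) (V : X.Opens) :
    (SecTwist.val (RefPow.sPow s (n + 1)) V : Γ(RefPow.refPow F (n + 1), V)) =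
      (RefPow.mulBy s n).app V (SecTwist.val (RefPow.sPow s n) V) := rfl

theorem tmul_eq {M N : X.Modules} {U : X.Opens} (a : Γ(M, U)) (b : Γ(N, U)) :
    (SecTwist.tmul M N U a b : Γ(CohB1.tensorMod M N, U)) = InvX.tmul a b := rfl

theorem mem_isoLocus_iff (s : Coh.structureModule X ⟶ F) {V : X.Opens} {x : X} (hx : x ∈ V) :
    x ∈ RefPow.isoLocus s ↔
      Function.Bijective fun c : X.presheaf.stalk x => c • F.presheaf.germ V x hx (SecTwist.val s V) := by
  rw [RefPow.mem_isoLocus]
  have hb := (InvX.isFrame_one V).germ_bijective hx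
  rw [← Function.Bijective.of_comp_iff (RefHull.stalkMapₗ s x) hb]
  refine Eq.to_iff (congrArg _ (funext fun c => ?_))
  rw [Function.comp_apply, map_smul, RefHull.stalkMapₗ_germ]
  rfl

/-- On the isomorphism locus the section is a frame. -/
theorem isFrame_val_of_le (s : Coh.structureModule X ⟶ F) {V : X.Opens} (hV : (V : Set X) ⊆ RefPow.isoLocus s) :
    InvX.IsFrame (SecTwist.val s V : Γ(F, V)) :=
  InvX.isFrame_of_germ fun x hx => (mem_isoLocus_iff s hx).1 (hV hx)

variable [IsIntegral X] [IsLocallyNoetherian X]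

theorem isRef1_refPow (hX : Pi1.IsNormalScheme X) (hF : RefHull.IsRef1 F) :
    ∀ n, RefHull.IsRef1 (RefPow.refPow F n)
  | 0 => isRef1_unit
  | 1 => hF
  | n + 2 => isRef1_ddual (isCoh_tensor (isRef1_refPow hX hF (n + 1)).1 hF.1)
      (hasFrames_tensor (hasFrames_of_isRef1 hX (isRef1_refPow hX hF (n + 1))) (hasFrames_of_isRef1 hX hF))

/-- Frames of the powers in which the power of the section has the power coordinate. -/
theorem exists_frame_pow (hX : Pi1.IsNormalScheme X) (hF : RefHull.IsRef1 F) (s : Coh.structureModule X ⟶ F)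
    {V : X.Opens} {e : Γ(F, V)} (he : InvX.IsFrame e) {g : Γ(X, V)} (hg : (SecTwist.val s V : Γ(F, V)) = g • e) :
    ∀ n, ∃ f : Γ(RefPow.refPow F n, V), InvX.IsFrame f ∧
      (SecTwist.val (RefPow.sPow s n) V : Γ(RefPow.refPow F n, V)) = g ^ n • f
  | 0 => ⟨_, InvX.isFrame_one V, by rw [pow_zero, one_smul]; rfl⟩
  | 1 => ⟨e, he, by
      rw [pow_one, ← hg, RefPow.sPow_one]
      rfl⟩
  | n + 2 => by
    obtain ⟨f, hf, hfv⟩ := exists_frame_pow hX hF s he hg (n + 1)
    have hc := isCoh_tensor (isRef1_refPow hX hF (n + 1)).1 hF.1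
    refine ⟨_, bidual_frame hc (InvX.isFrame_tmul hf he), ?_⟩
    rw [val_sPow_succ, hfv, Scheme.Modules.Hom.app_smul, RefPow.mulBy_succ_app, hg, tmul_eq, InvX.tmul_smul_right,
      Scheme.Modules.Hom.app_smul, ← mul_smul, ← pow_succ]

theorem isFrame_val_sPow (hX : Pi1.IsNormalScheme X) (hF : RefHull.IsRef1 F) (s : Coh.structureModule X ⟶ F)
    {V : X.Opens} (hV : (V : Set X) ⊆ RefPow.isoLocus s) (n : ℕ) :
    InvX.IsFrame (SecTwist.val (RefPow.sPow s n) V : Γ(RefPow.refPow F n, V)) := by
  obtain ⟨f, hf, hfv⟩ := exists_frame_pow hX hF s (isFrame_val_of_le s hV) (g := 1) (one_smul _ _).symm n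
  rw [one_pow, one_smul] at hfv
  rwa [hfv]

/-- A nonzero section generates at the generic point. -/
theorem eq_zero_of_notMem (hX : Pi1.IsNormalScheme X) (hF : RefHull.IsRef1 F) (s : Coh.structureModule X ⟶ F)
    (h : genericPoint X ∉ RefPow.isoLocus s) : s = 0 := by
  refine hom_ext_generic hF.1 (fun x => torsionFree_of_reflexive ((isReflexive_iff hF.1).1 hF.2.1 x)) fun v => ?_
  have hv0 : F.presheaf.germ ⊤ (genericPoint X) trivial (SecTwist.val s ⊤) = 0 := by
    by_contra hne
    exact h ((mem_isoLocus_iff s (V := ⊤) trivial).2 (bijective_smul_of_ne_zero (hasFrames_of_isRef1 hX hF) hne))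
  obtain ⟨c, rfl⟩ := ((InvX.isFrame_one (⊤ : X.Opens)).germ_bijective (x := genericPoint X) trivial).2 v
  show RefHull.stalkMapₗ s (genericPoint X) (c • _) = RefHull.stalkMapₗ 0 (genericPoint X) (c • _)
  rw [map_smul, map_smul, RefHull.stalkMapₗ_germ, RefHull.stalkMapₗ_germ]
  refine congrArg (c • ·) (hv0.trans (map_zero _).symm)

theorem mulBy_zero_hom (n : ℕ) : RefPow.mulBy (0 : Coh.structureModule X ⟶ F) n = 0 := by
  cases n with
  | zero => rfl
  | succ n =>
    refine Scheme.Modules.hom_ext _ _ fun U => ?_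
    ext t
    rw [RefPow.mulBy_succ_app, tmul_eq]
    have h0 : (SecTwist.val (0 : Coh.structureModule X ⟶ F) U : Γ(F, U)) = (0 : Γ(X, U)) • (0 : Γ(F, U)) := by
      rw [zero_smul]
      rfl
    rw [h0, InvX.tmul_smul_right, zero_smul, map_zero]
    rfl

end Groth.Agent.RefX
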