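import Groth.Agent.QCoh.Stalk
import Groth.Agent.AModX.Res
import Groth.Agent.FDescent.StalkFinite
import Groth.Agent.ZClosLib.ColimSections
import Groth.Prelude.Def_RefHull

/-!
# Sections of the sheaf Hom `RefHull.homSh`

Values of a section on sections; extensionality; `evalStalk` is injective for `F` of finite type.
-/

universe u

set_option backward.isDefEq.respectTransparency false
set_option backward.isDefEq.respectTransparency.types false
set_option linter.style.haveILetI false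

open CategoryTheory AlgebraicGeometry TopologicalSpace Opposite

namespace Groth.Agent.RefX

/-- Generating sections generate every stalk. -/
theorem gens_span_eq_top {X : Scheme.{u}} (N : X.Modules) {U : X.Opens} (G : (SheafOfModules.over N U).GeneratingSections)
    [Finite G.I] (x' : X) (hx' : x' ∈ U) :
    Submodule.span (X.presheaf.stalk x') (Set.range fun j =>
      N.presheaf.germ U x' hx' ((G.s j).eval (op (Over.mk (𝟙 U))) : Γ(N, U))) = ⊤ := by
  let t : G.I → Γ(N, U) := fun j => (G.s j).eval (op (Over.mk (𝟙 U)))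
  rw [eq_top_iff]
  intro y _
  obtain ⟨V, hxV, m, rfl⟩ := TopCat.Presheaf.germ_exist N.presheaf y
  let V₀ : Over U := Over.mk (homOfLE inf_le_left : U ⊓ V ⟶ U)
  let m' : (SheafOfModules.over N U).val.obj (op V₀) :=
    N.presheaf.map (homOfLE inf_le_right : U ⊓ V ⟶ V).op m
  obtain ⟨S, hS, hz⟩ := FDescent.exists_cover_eq_app G.π V₀ m'
  rw [GrothendieckTopology.mem_over_iff] at hS
  obtain ⟨W, i, hi, hxW⟩ := hS x' ⟨hx', hxV⟩
  obtain ⟨W₀, i₀, hle, hSi, -⟩ := hi
  obtain ⟨z, hz'⟩ := hz i₀ hSi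
  have hxW₀ : x' ∈ W₀.left := hle.le hxW
  have hspan := FDescent.app_mem_span G (op W₀) z
  rw [hz'] at hspan
  let T := Submodule.span (X.presheaf.stalk x') (Set.range fun j => N.presheaf.germ U x' hx' (t j))
  have hj : ∀ j, N.presheaf.germ W₀.left x' hxW₀ ((G.s j).eval (op W₀)) ∈ T := fun j => by
    have e : N.presheaf.map W₀.hom.op (t j) = (G.s j).eval (op W₀) :=
      (G.s j).property (Over.homMk W₀.hom (by simp) : W₀ ⟶ Over.mk (𝟙 U)).op
    have e' : N.presheaf.germ W₀.left x' hxW₀ ((G.s j).eval (op W₀)) = N.presheaf.germ U x' hx' (t j) :=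
      (congrArg (fun w => N.presheaf.germ W₀.left x' hxW₀ w) e.symm).trans
        (TopCat.Presheaf.germ_res_apply N.presheaf W₀.hom x' hxW₀ (t j))
    exact (congrArg (· ∈ T) e').mpr (Submodule.subset_span ⟨j, rfl⟩)
  have hmem : N.presheaf.germ W₀.left x' hxW₀ (N.presheaf.map i₀.left.op
      (N.presheaf.map (homOfLE inf_le_right : U ⊓ V ⟶ V).op m)) ∈ T :=
    FDescent.germ_mem_span hxW₀ (fun j => (G.s j).eval (op W₀)) T hj _ hspan
  have e1 : N.presheaf.germ W₀.left x' hxW₀ (N.presheaf.map i₀.left.op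
      (N.presheaf.map (homOfLE inf_le_right : U ⊓ V ⟶ V).op m)) = N.presheaf.germ V x' hxV m :=
    (TopCat.Presheaf.germ_res_apply N.presheaf i₀.left x' hxW₀ _).trans
      (TopCat.Presheaf.germ_res_apply N.presheaf (homOfLE inf_le_right : U ⊓ V ⟶ V) x' ⟨hx', hxV⟩ m)
  exact (congrArg (· ∈ T) e1).mp hmem

variable {X : Scheme.{u}} {F G : X.Modules}

theorem germ_res (M : X.Modules) {U V : X.Opens} (h : V ≤ U) {x : X} (hx : x ∈ V) (s : Γ(M, U)) :
    M.presheaf.germ V x hx (AModX.res M h s) = M.presheaf.germ U x (h hx) s :=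
  TopCat.Presheaf.germ_res_apply M.presheaf (homOfLE h) x hx s

theorem germ_resR {U V : X.Opens} (h : V ≤ U) {x : X} (hx : x ∈ V) (r : Γ(X, U)) :
    X.presheaf.germ V x hx (AModX.resR h r) = X.presheaf.germ U x (h hx) r :=
  TopCat.Presheaf.germ_res_apply X.presheaf (homOfLE h) x hx r

theorem exists_app {U V : X.Opens} (h : V ≤ U) (g : Γ(RefHull.homSh F G, U)) (m : Γ(F, V)) :
    ∃ n : Γ(G, V), ∀ y : V, G.presheaf.germ V y.1 y.2 n = g.1 ⟨y.1, h y.2⟩ (F.presheaf.germ V y.1 y.2 m) := by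
  choose W hxW j n hn using fun x : V => RefHull.isLocSect_of_mem g V (homOfLE h) m x
  obtain ⟨t, ht, -⟩ := AModX.existsUnique_glue (M := G) W (fun x => (j x).le)
    (fun p hp => ⟨⟨p, hp⟩, hxW ⟨p, hp⟩⟩) n fun a b => by
      refine ZClosLib.section_ext G _ _ fun y hy => ?_
      rw [germ_res, germ_res, ← hn a ⟨y, hy.1⟩, ← hn b ⟨y, hy.2⟩]
  refine ⟨t, fun y => ?_⟩
  have h1 := congrArg (G.presheaf.germ (W y) y.1 (hxW y)) (ht y)
  rw [germ_res] at h1
  exact h1.trans (hn y ⟨y.1, hxW y⟩).symm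

/-- The value of a section of the sheaf Hom on a section. -/
noncomputable def app {U V : X.Opens} (h : V ≤ U) (g : Γ(RefHull.homSh F G, U)) (m : Γ(F, V)) : Γ(G, V) :=
  (exists_app h g m).choose

theorem germ_app {U V : X.Opens} (h : V ≤ U) (g : Γ(RefHull.homSh F G, U)) (m : Γ(F, V)) {y : X} (hy : y ∈ V) :
    G.presheaf.germ V y hy (app h g m) = g.1 ⟨y, h hy⟩ (F.presheaf.germ V y hy m) :=
  (exists_app h g m).choose_spec ⟨y, hy⟩

theorem app_add {U V : X.Opens} (h : V ≤ U) (g : Γ(RefHull.homSh F G, U)) (m m' : Γ(F, V)) :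
    app h g (m + m') = app h g m + app h g m' :=
  ZClosLib.section_ext G _ _ fun y hy => by rw [germ_app, map_add, map_add, map_add, germ_app, germ_app]

theorem app_smul {U V : X.Opens} (h : V ≤ U) (g : Γ(RefHull.homSh F G, U)) (r : Γ(X, V)) (m : Γ(F, V)) :
    app h g (r • m) = r • app h g m :=
  ZClosLib.section_ext G _ _ fun y hy => by
    rw [germ_app, QCoh.germ_smul', QCoh.germ_smul', map_smul, germ_app]

theorem res_app {U V V' : X.Opens} (h : V ≤ U) (h' : V' ≤ V) (g : Γ(RefHull.homSh F G, U)) (m : Γ(F, V)) :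
    AModX.res G h' (app h g m) = app (h'.trans h) g (AModX.res F h' m) :=
  ZClosLib.section_ext G _ _ fun y hy => by rw [germ_res, germ_app, germ_app, germ_res]

theorem smul_val {U : X.Opens} (r : Γ(X, U)) (g : Γ(RefHull.homSh F G, U)) (y : U) :
    (r • g).1 y = X.presheaf.germ U y.1 y.2 r • g.1 y := rfl

theorem res_val {U V : X.Opens} (h : V ≤ U) (g : Γ(RefHull.homSh F G, U)) (y : V) :
    (AModX.res (RefHull.homSh F G) h g).1 y = g.1 ⟨y.1, h y.2⟩ := rfl

theorem sect_ext {W : X.Opens} {g g' : Γ(RefHull.homSh F G, W)} (h : ∀ y : W, g.1 y = g'.1 y) : g = g' :=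
  Subtype.ext (funext h)

/-- `evalStalk` is injective for `F` of finite type. -/
theorem evalStalk_injective (hF : CohB1.IsFT F) (x : X) : Function.Injective (RefHull.evalStalk F G x) := by
  haveI : SheafOfModules.IsFiniteType (R := X.ringCatSheaf) F := hF
  refine (injective_iff_map_eq_zero _).2 fun θ hθ => ?_
  obtain ⟨U, hxU, g, rfl⟩ := TopCat.Presheaf.exists_germ_eq (RefHull.homSh F G).presheaf θ
  rw [RefHull.evalStalk_germ] at hθ
  obtain ⟨σ, hσ⟩ := hF.exists_localGeneratorsData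
  obtain ⟨k, hk⟩ := ((Opens.coversTop_iff _ σ.X).1 σ.coversTop).exists_mem x
  haveI : Finite (σ.generators k).I := (hσ.isFiniteType k).finite
  letI := Fintype.ofFinite (σ.generators k).I
  let W : X.Opens := σ.X k ⊓ U
  have hxW : x ∈ W := ⟨hk, hxU⟩
  let t : (σ.generators k).I → Γ(F, σ.X k) :=
    fun j => ((σ.generators k).s j).eval (op (Over.mk (𝟙 (σ.X k))))
  let n := fun j => app (inf_le_right : W ≤ U) g (AModX.res F inf_le_left (t j))
  have hv : ∀ j, ∃ (W' : X.Opens) (hle : W' ≤ W), x ∈ W' ∧ AModX.res G hle (n j) = 0 := fun j => by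
    have h0 : G.presheaf.germ W x hxW (n j) = G.presheaf.germ W x hxW 0 := by
      rw [germ_app, map_zero, show g.1 ⟨x, hxU⟩ = 0 from hθ, LinearMap.zero_apply]
    obtain ⟨W', hxW', i, i', hii⟩ := TopCat.Presheaf.germ_eq G.presheaf x hxW hxW _ _ h0
    exact ⟨W', i.le, hxW', hii.trans (map_zero _)⟩
  choose W' hle hxW' hW' using hv
  let V : X.Opens := W ⊓ Finset.univ.inf W'
  have hxV : x ∈ V := ⟨hxW, by
    show x ∈ ((Finset.univ.inf W' : X.Opens) : Set X)
    simp [TopologicalSpace.Opens.coe_finset_inf, hxW']⟩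
  have hVU : V ≤ U := inf_le_left.trans inf_le_right
  have h0 : AModX.res (RefHull.homSh F G) hVU g = 0 := sect_ext fun y => by
    rw [res_val]
    show g.1 ⟨y.1, hVU y.2⟩ = 0
    have hy : y.1 ∈ σ.X k := y.2.1.1
    refine LinearMap.ext_on (gens_span_eq_top F (σ.generators k) y.1 hy) ?_
    rintro _ ⟨j, rfl⟩
    have hyj : y.1 ∈ W' j := (Finset.inf_le (f := W') (Finset.mem_univ j)) y.2.2
    have h1 := germ_app (inf_le_right : W ≤ U) g (AModX.res F inf_le_left (t j)) (y := y.1) y.2.1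
    rw [germ_res] at h1
    refine h1.symm.trans ?_
    show G.presheaf.germ W y.1 y.2.1 (n j) = 0
    rw [← germ_res G (hle j) hyj, hW' j, map_zero]
  rw [← germ_res (RefHull.homSh F G) hVU hxV g, h0, map_zero]

end Groth.Agent.RefX
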