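import Groth.Agent.RefX.RankOne
import Groth.Agent.CDiv6.Factorial
import Mathlib.Algebra.Module.Torsion.Basic
import Mathlib.LinearAlgebra.Dual.Lemmas

/-!
# Maps into a reflexive hull from their values at the generic point
-/

universe u

set_option backward.isDefEq.respectTransparency false
set_option backward.isDefEq.respectTransparency.types false
set_option linter.style.haveILetI false

open CategoryTheory AlgebraicGeometry TopologicalSpace Opposite IsLocalRing

namespace Groth.Agent.RefX

/-- Over a domain, evaluation is surjective once the torsion free quotient is reflexive. -/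
theorem eval_surjective_of_quot {R : Type u} [CommRing R] [IsDomain R] {M : Type u} [AddCommGroup M] [Module R M]
    [Module.IsReflexive R (M ⧸ Submodule.torsion R M)] : Function.Surjective (Module.Dual.eval R M) := by
  intro Ψ
  obtain ⟨w, hw⟩ := (Module.bijective_dual_eval R (M ⧸ Submodule.torsion R M)).2
    (Ψ.comp (Submodule.torsion R M).mkQ.dualMap)
  obtain ⟨m, rfl⟩ := Submodule.mkQ_surjective _ w
  refine ⟨m, LinearMap.ext fun φ => ?_⟩
  have hle : Submodule.torsion R M ≤ LinearMap.ker φ := fun t ⟨a, ha⟩ => by
    have h1 : (a : R) • φ t = 0 := by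
      rw [← map_smul, show (a : R) • t = 0 from ha, map_zero]
    exact LinearMap.mem_ker.2 ((mul_eq_zero.1 h1).resolve_left (nonZeroDivisors.ne_zero a.2))
  have h2 := LinearMap.congr_fun hw ((Submodule.torsion R M).liftQ φ hle)
  simp only [Module.Dual.eval_apply, LinearMap.comp_apply] at h2 ⊢
  refine h2.trans ?_
  congr 1

variable {X : Scheme.{u}}

/-- Specialization of stalks of a module. -/
noncomputable def spM (M : X.Modules) {z x : X} (h : z ⤳ x) : M.presheaf.stalk x →+ M.presheaf.stalk z :=
  (M.presheaf.stalkSpecializes h).hom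

theorem spM_germ (M : X.Modules) {z x : X} (h : z ⤳ x) {U : X.Opens} (hx : x ∈ U) (m : Γ(M, U)) :
    spM M h (M.presheaf.germ U x hx m) = M.presheaf.germ U z (h.mem_open U.2 hx) m :=
  ConcreteCategory.congr_hom (TopCat.Presheaf.germ_stalkSpecializes M.presheaf hx h) m

theorem spM_smul (M : X.Modules) {z x : X} (h : z ⤳ x) (a : X.presheaf.stalk x) (m : M.presheaf.stalk x) :
    spM M h (a • m) = X.presheaf.stalkSpecializes h a • spM M h m := by
  obtain ⟨U, hU, r, rfl⟩ := TopCat.Presheaf.exists_germ_eq X.presheaf a
  obtain ⟨V, hV, m, rfl⟩ := TopCat.Presheaf.exists_germ_eq M.presheaf m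
  rw [← X.presheaf.germ_res_apply (homOfLE (inf_le_left : U ⊓ V ≤ U)) x ⟨hU, hV⟩,
    ← M.presheaf.germ_res_apply (homOfLE (inf_le_right : U ⊓ V ≤ V)) x ⟨hU, hV⟩, ← QCoh.germ_smul',
    spM_germ, spM_germ, QCoh.germ_smul']
  congr 1
  exact (ConcreteCategory.congr_hom (TopCat.Presheaf.germ_stalkSpecializes X.presheaf
    (show x ∈ U ⊓ V from ⟨hU, hV⟩) h) _).symm

theorem spM_spM (M : X.Modules) {w z x : X} (h : z ⤳ x) (h' : w ⤳ z) (m : M.presheaf.stalk x) :
    spM M h' (spM M h m) = spM M (h'.trans h) m := by
  obtain ⟨V, hV, m, rfl⟩ := TopCat.Presheaf.exists_germ_eq M.presheaf m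
  rw [spM_germ, spM_germ, spM_germ]

theorem stalkMap_spM {F G : X.Modules} (φ : F ⟶ G) {z x : X} (h : z ⤳ x) (m : F.presheaf.stalk x) :
    RefHull.stalkMapₗ φ z (spM F h m) = spM G h (RefHull.stalkMapₗ φ x m) := by
  obtain ⟨V, hV, m, rfl⟩ := TopCat.Presheaf.exists_germ_eq F.presheaf m
  rw [spM_germ, RefHull.stalkMapₗ_germ, RefHull.stalkMapₗ_germ, spM_germ]

theorem unitStalk_symm_germ {x : X} {U : X.Opens} (hx : x ∈ U) (n : Γ(X, U)) :
    (unitStalk x).symm ((Coh.structureModule X).presheaf.germ U x hx n) = X.presheaf.germ U x hx n := by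
  rw [LinearEquiv.symm_apply_eq]
  show _ = X.presheaf.germ U x hx n • (Coh.structureModule X).presheaf.germ ⊤ x trivial
    (show Γ(Coh.structureModule X, ⊤) from (1 : Γ(X, ⊤)))
  rw [← (Coh.structureModule X).presheaf.germ_res_apply (homOfLE (le_top : U ≤ ⊤)) x hx]
  erw [← QCoh.germ_smul']
  congr 1
  show n = n * X.presheaf.map (homOfLE (le_top : U ≤ ⊤)).op 1
  rw [map_one, mul_one]

/-- The biduality map on a stalk is surjective when evaluation is. -/
theorem stalkMap_bidual_surjective [IsLocallyNoetherian X] {F : X.Modules} (hF : Coh.IsCoh F) (x : X)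
    (h : Function.Surjective (Module.Dual.eval (X.presheaf.stalk x) (F.presheaf.stalk x))) :
    Function.Surjective (RefHull.stalkMapₗ (RefHull.bidualMap F) x) := by
  intro Φ
  have hFP := QCoh.isCoh_iff_isFP.1 hF
  obtain ⟨v, hv⟩ := h (((unitStalk x).symm.toLinearMap.comp (RefHull.evalStalk (RefHull.dual F)
    (Coh.structureModule X) x Φ)).comp (dualStalk hFP x).symm.toLinearMap)
  refine ⟨v, (evalStalk_bijective (QCoh.isCoh_iff_isFP.1 (isCoh_dual hF)) x).1 ?_⟩
  obtain ⟨W, hW, m, rfl⟩ := TopCat.Presheaf.exists_germ_eq F.presheaf v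
  rw [RefHull.stalkMapₗ_germ, RefHull.evalStalk_germ, RefHull.bidualMap_app_apply]
  refine LinearMap.ext fun θ => (unitStalk x).symm.injective ?_
  have h1 := LinearMap.congr_fun hv (dualStalk hFP x θ)
  simp only [Module.Dual.eval_apply, LinearMap.comp_apply, LinearEquiv.coe_coe, LinearEquiv.symm_apply_apply] at h1
  exact h1

variable [IsIntegral X] [IsLocallyNoetherian X]

theorem specializes_genericPoint (x : X) : genericPoint X ⤳ x :=
  (genericPoint_spec X).specializes (Set.mem_univ x)

/-- The pairing of a form at the generic point with a vector. -/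
noncomputable def pairη (F : X.Modules) (θ : (RefHull.dual F).presheaf.stalk (genericPoint X))
    (v : F.presheaf.stalk (genericPoint X)) : X.functionField :=
  (unitStalk (genericPoint X)).symm (RefHull.evalStalk F (Coh.structureModule X) (genericPoint X) θ v)

theorem pairη_germ (F : X.Modules) {W : X.Opens} (hW : genericPoint X ∈ W) (g : Γ(RefHull.dual F, W))
    (m : Γ(F, W)) :
    pairη F ((RefHull.dual F).presheaf.germ W _ hW g) (F.presheaf.germ W _ hW m) =
      X.presheaf.germ W (genericPoint X) hW (app le_rfl g m) := by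
  rw [pairη, RefHull.evalStalk_germ, ← germ_app le_rfl g m hW]
  exact unitStalk_symm_germ hW _

theorem algebraMap_germ {x : X} {W : X.Opens} (hx : x ∈ W) (r : Γ(X, W)) :
    algebraMap (X.presheaf.stalk x) X.functionField (X.presheaf.germ W x hx r) =
      X.presheaf.germ W (genericPoint X) ((specializes_genericPoint x).mem_open W.2 hx) r := by
  exact ConcreteCategory.congr_hom (TopCat.Presheaf.germ_stalkSpecializes X.presheaf hx
    (specializes_genericPoint x)) r

theorem pairη_spM (F : X.Modules) (x : X) (θ : (RefHull.dual F).presheaf.stalk x) (f : F.presheaf.stalk x) :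
    pairη F (spM _ (specializes_genericPoint x) θ) (spM _ (specializes_genericPoint x) f) =
      algebraMap (X.presheaf.stalk x) X.functionField
        ((unitStalk x).symm (RefHull.evalStalk F (Coh.structureModule X) x θ f)) := by
  obtain ⟨U, hU, g, rfl⟩ := TopCat.Presheaf.exists_germ_eq (RefHull.dual F).presheaf θ
  obtain ⟨V, hV, m, rfl⟩ := TopCat.Presheaf.exists_germ_eq F.presheaf f
  let W := U ⊓ V
  have hW : x ∈ W := ⟨hU, hV⟩
  rw [← (RefHull.dual F).presheaf.germ_res_apply (homOfLE (inf_le_left : W ≤ U)) x hW,
    ← F.presheaf.germ_res_apply (homOfLE (inf_le_right : W ≤ V)) x hW, spM_germ, spM_germ, pairη_germ,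
    RefHull.evalStalk_germ, ← germ_app le_rfl _ _ hW]
  erw [unitStalk_symm_germ hW]
  rw [algebraMap_germ]

section construction

variable (hX : Pi1.IsNormalScheme X) {F G : X.Modules}
  (T : G.presheaf.stalk (genericPoint X) →ₗ[X.presheaf.stalk (genericPoint X)] F.presheaf.stalk (genericPoint X))
  (hT : ∀ x : X, Order.coheight x = 1 → ∀ g : G.presheaf.stalk x,
    ∃ f : F.presheaf.stalk x, spM F (specializes_genericPoint x) f = T (spM G (specializes_genericPoint x) g))

include hX hT in
theorem exists_value (y : X) (g : G.presheaf.stalk y) (θ : (RefHull.dual F).presheaf.stalk y) :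
    ∃ c : X.presheaf.stalk y, algebraMap (X.presheaf.stalk y) X.functionField c =
      pairη F (spM _ (specializes_genericPoint y) θ) (T (spM G (specializes_genericPoint y) g)) := by
  by_cases h0 : pairη F (spM _ (specializes_genericPoint y) θ) (T (spM G (specializes_genericPoint y) g)) = 0
  · exact ⟨0, by rw [map_zero, h0]⟩
  refine CDiv6.reg_of_forall_ord_nonneg hX h0 fun x hx hx1 => CDiv6.reg_ord_nonneg h0 ?_
  obtain ⟨f, hf⟩ := hT x hx1 (spM G hx g)
  refine ⟨(unitStalk x).symm (RefHull.evalStalk F (Coh.structureModule X) x (spM _ hx θ) f), ?_⟩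
  rw [← pairη_spM, hf, spM_spM, spM_spM]

/-- The value of the extended map. -/
noncomputable def value (y : X) (g : G.presheaf.stalk y) (θ : (RefHull.dual F).presheaf.stalk y) :
    X.presheaf.stalk y :=
  (exists_value hX T hT y g θ).choose

theorem value_spec (y : X) (g : G.presheaf.stalk y) (θ : (RefHull.dual F).presheaf.stalk y) :
    algebraMap (X.presheaf.stalk y) X.functionField (value hX T hT y g θ) =
      pairη F (spM _ (specializes_genericPoint y) θ) (T (spM G (specializes_genericPoint y) g)) :=
  (exists_value hX T hT y g θ).choose_spec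

theorem pairη_smul_left (a : X.presheaf.stalk (genericPoint X)) (θ : (RefHull.dual F).presheaf.stalk (genericPoint X))
    (v : F.presheaf.stalk (genericPoint X)) : pairη F (a • θ) v = a * pairη F θ v := by
  unfold pairη
  rw [map_smul, LinearMap.smul_apply, map_smul]
  rfl

theorem pairη_smul_right (a : X.presheaf.stalk (genericPoint X)) (θ : (RefHull.dual F).presheaf.stalk (genericPoint X))
    (v : F.presheaf.stalk (genericPoint X)) : pairη F θ (a • v) = a * pairη F θ v := by
  unfold pairη
  rw [map_smul, map_smul]
  rfl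

theorem value_inj {y : X} {a b : X.presheaf.stalk y}
    (h : algebraMap (X.presheaf.stalk y) X.functionField a = algebraMap (X.presheaf.stalk y) X.functionField b) :
    a = b :=
  IsFractionRing.injective (X.presheaf.stalk y) X.functionField h

theorem pairη_add_left (θ θ' : (RefHull.dual F).presheaf.stalk (genericPoint X))
    (v : F.presheaf.stalk (genericPoint X)) : pairη F (θ + θ') v = pairη F θ v + pairη F θ' v := by
  unfold pairη
  rw [map_add, LinearMap.add_apply, map_add]

theorem pairη_add_right (θ : (RefHull.dual F).presheaf.stalk (genericPoint X))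
    (v v' : F.presheaf.stalk (genericPoint X)) : pairη F θ (v + v') = pairη F θ v + pairη F θ v' := by
  unfold pairη
  rw [map_add, map_add]

/-- The value, linear in the form. -/
noncomputable def valueLin (y : X) (g : G.presheaf.stalk y) :
    Module.Dual (X.presheaf.stalk y) ((RefHull.dual F).presheaf.stalk y) where
  toFun θ := value hX T hT y g θ
  map_add' a b := value_inj (by rw [map_add, value_spec, value_spec, value_spec, map_add, pairη_add_left])
  map_smul' a θ := value_inj (by
    rw [RingHom.id_apply, smul_eq_mul, map_mul, value_spec, value_spec, spM_smul, pairη_smul_left]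
    rfl)

theorem valueLin_apply (y : X) (g : G.presheaf.stalk y) (θ : (RefHull.dual F).presheaf.stalk y) :
    valueLin hX T hT y g θ = value hX T hT y g θ := rfl

theorem valueLin_add (y : X) (g g' : G.presheaf.stalk y) :
    valueLin hX T hT y (g + g') = valueLin hX T hT y g + valueLin hX T hT y g' :=
  LinearMap.ext fun θ => value_inj (by
    rw [LinearMap.add_apply, valueLin_apply, valueLin_apply, valueLin_apply, map_add, value_spec, value_spec,
      value_spec, map_add, map_add, pairη_add_right])

theorem valueLin_smul (y : X) (a : X.presheaf.stalk y) (g : G.presheaf.stalk y) :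
    valueLin hX T hT y (a • g) = a • valueLin hX T hT y g :=
  LinearMap.ext fun θ => value_inj (by
    rw [LinearMap.smul_apply, valueLin_apply, valueLin_apply, smul_eq_mul, map_mul, value_spec, value_spec,
      spM_smul, map_smul, pairη_smul_right]
    rfl)

/-- The stalk maps of the extended map. -/
noncomputable def extStalk (y : X) :
    G.presheaf.stalk y →ₗ[X.presheaf.stalk y] RefHull.StalkHom (RefHull.dual F) (Coh.structureModule X) y where
  toFun g := (unitStalk y).toLinearMap.comp (valueLin hX T hT y g)
  map_add' g g' := by rw [valueLin_add, LinearMap.comp_add]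
  map_smul' a g := by rw [valueLin_smul, LinearMap.comp_smul, RingHom.id_apply]

theorem extStalk_apply (y : X) (g : G.presheaf.stalk y) (θ : (RefHull.dual F).presheaf.stalk y) :
    extStalk hX T hT y g θ = unitStalk y (value hX T hT y g θ) := rfl

theorem isLocSect_ext (U : X.Opens) (m : Γ(G, U)) :
    RefHull.IsLocSect (RefHull.dual F) (Coh.structureModule X)
      fun x : U => extStalk hX T hT x.1 (G.presheaf.germ U x.1 x.2 m) := by
  intro V i θ x
  let c := value hX T hT x.1 (G.presheaf.germ U x.1 (i.le x.2) m) ((RefHull.dual F).presheaf.germ V x.1 x.2 θ)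
  obtain ⟨W, hW, n, hn⟩ := TopCat.Presheaf.exists_germ_eq X.presheaf c
  refine ⟨W ⊓ V, ⟨hW, x.2⟩, homOfLE inf_le_right, AModX.resR (inf_le_left : W ⊓ V ≤ W) n, fun y => ?_⟩
  refine (unitStalk y.1).symm.injective (value_inj ?_)
  erw [unitStalk_symm_germ]
  rw [algebraMap_germ, extStalk_apply, LinearEquiv.symm_apply_apply, value_spec, spM_germ, spM_germ]
  have hc := value_spec hX T hT x.1 (G.presheaf.germ U x.1 (i.le x.2) m) ((RefHull.dual F).presheaf.germ V x.1 x.2 θ)
  rw [spM_germ, spM_germ] at hc
  refine Eq.trans ?_ (Eq.trans (congrArg _ hn.symm) (algebraMap_germ hW n)) |>.trans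
    (X.presheaf.germ_res_apply (homOfLE (inf_le_left : W ⊓ V ≤ W)) _ _ n).symm
  exact hc.symm

/-- The morphism into the reflexive hull with given value at the generic point. -/
noncomputable def extHom : G ⟶ RefHull.ddual F :=
  ⟨PresheafOfModules.homMk
    { app := fun U => AddCommGrpCat.ofHom
        { toFun := fun m => ⟨fun x => extStalk hX T hT x.1 (G.presheaf.germ U.unop x.1 x.2 m),
            isLocSect_ext hX T hT U.unop m⟩
          map_zero' := Subtype.ext <| funext fun x => by
            simp only [map_zero]
            rfl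
          map_add' := fun s t => Subtype.ext <| funext fun x => by
            simp only [map_add]
            rfl }
      naturality := fun {U V} i => by
        ext s
        refine Subtype.ext (funext fun x => ?_)
        change extStalk hX T hT x.1 _ = extStalk hX T hT x.1 _
        exact congrArg _ (TopCat.Presheaf.germ_res_apply' G.presheaf i x.1 x.2 s) }
    (fun U r s => Subtype.ext <| funext fun x =>
      (congrArg (extStalk hX T hT x.1) (Mero.germ_smul G U.unop x.1 x.2 r s)).trans
        (map_smul (extStalk hX T hT x.1) _ _))⟩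

theorem extHom_app_apply {U : X.Opens} (m : Γ(G, U)) (x : U) :
    ((extHom hX T hT).app U m).1 x = extStalk hX T hT x.1 (G.presheaf.germ U x.1 x.2 m) := rfl

theorem stalkMap_extHom (hF : Coh.IsCoh F) :
    RefHull.stalkMapₗ (extHom hX T hT) (genericPoint X) =
      (RefHull.stalkMapₗ (RefHull.bidualMap F) (genericPoint X)).comp T := by
  refine LinearMap.ext fun v => ?_
  obtain ⟨W, hW, m, rfl⟩ := TopCat.Presheaf.exists_germ_eq G.presheaf v
  obtain ⟨W', hW', f, hf⟩ := TopCat.Presheaf.exists_germ_eq F.presheaf (T (G.presheaf.germ W _ hW m))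
  refine (evalStalk_bijective (QCoh.isCoh_iff_isFP.1 (isCoh_dual hF)) _).1 ?_
  rw [LinearMap.comp_apply, ← hf, RefHull.stalkMapₗ_germ, RefHull.stalkMapₗ_germ, RefHull.evalStalk_germ,
    RefHull.evalStalk_germ, extHom_app_apply, RefHull.bidualMap_app_apply]
  refine LinearMap.ext fun θ => (unitStalk (genericPoint X)).symm.injective (value_inj ?_)
  rw [extStalk_apply, LinearEquiv.symm_apply_apply, value_spec, RefHull.bidualAt_apply, ← pairη_spM, spM_germ, spM_germ, hf]

end construction

/-- A map at the generic point comes from a map into the hull iff it respects the lattices in codimension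
one. -/
theorem exists_hom_iff (hX : Pi1.IsNormalScheme X) {F G : X.Modules} (hF : Coh.IsCoh F)
    (T : G.presheaf.stalk (genericPoint X) →ₗ[X.presheaf.stalk (genericPoint X)] F.presheaf.stalk (genericPoint X)) :
    (∃ ψ : G ⟶ RefHull.ddual F, RefHull.stalkMapₗ ψ (genericPoint X) =
        (RefHull.stalkMapₗ (RefHull.bidualMap F) (genericPoint X)).comp T) ↔
      ∀ x : X, ringKrullDim (X.presheaf.stalk x) = 1 →
        Set.MapsTo T (Set.range (spM G (specializes_genericPoint x))) (Set.range (spM F (specializes_genericPoint x))) := by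
  constructor
  · rintro ⟨ψ, hψ⟩ x hx _ ⟨g, rfl⟩
    haveI := (hX x).1
    haveI := (hX x).2
    haveI := CDiv6.isDVR_of_dim_eq_one (X.presheaf.stalk x) hx
    haveI := QCoh.finite_stalk_of_isFT hF.1 hF.2 x
    haveI := QCoh.finite_stalk_of_isFT hF.1 hF.2 (genericPoint X)
    haveI : Module.Free (X.presheaf.stalk x) (F.presheaf.stalk x ⧸ Submodule.torsion (X.presheaf.stalk x) (F.presheaf.stalk x)) :=
      Module.free_of_finite_type_torsion_free'
    obtain ⟨f, hf⟩ := stalkMap_bidual_surjective hF x eval_surjective_of_quot (RefHull.stalkMapₗ ψ x g)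
    have hη : RefHull.IsReflexiveAt F (genericPoint X) := by
      letI : Field (X.presheaf.stalk (genericPoint X)) := (inferInstance : Field X.functionField)
      show Module.IsReflexive _ _
      infer_instance
    refine ⟨f, ((stalkMap_bidual_bijective_iff hF _).2 hη).1 ?_⟩
    have h1 : RefHull.stalkMapₗ ψ (genericPoint X) (spM G (specializes_genericPoint x) g) =
        RefHull.stalkMapₗ (RefHull.bidualMap F) (genericPoint X) (T (spM G (specializes_genericPoint x) g)) :=
      LinearMap.congr_fun hψ _
    rw [stalkMap_spM, hf, ← stalkMap_spM, h1]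
  · intro h
    have hT : ∀ x : X, Order.coheight x = 1 → ∀ g : G.presheaf.stalk x,
        ∃ f : F.presheaf.stalk x, spM F (specializes_genericPoint x) f = T (spM G (specializes_genericPoint x) g) :=
      fun x hx g => h x (by rw [ringKrullDim_stalk_eq_coheight, hx]; rfl) ⟨g, rfl⟩
    exact ⟨extHom hX T hT, stalkMap_extHom hX T hT hF⟩

end Groth.Agent.RefX
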