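import Groth.Agent.RefX.PowColim
import Groth.Agent.QCoh.Stalk
import Mathlib.AlgebraicGeometry.Morphisms.Affine

/-!
# When is the isomorphism locus of a section affine over the base
-/

universe u

set_option backward.isDefEq.respectTransparency false
set_option backward.isDefEq.respectTransparency.types false
set_option linter.style.haveILetI false

open CategoryTheory AlgebraicGeometry TopologicalSpace IsLocalRing

namespace Groth.Agent.RefX

theorem exists_smul_mem_of_isLocalizedModule {A R : Type u} [CommRing A] [CommRing R] [Algebra A R]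
    (p : Ideal A) [p.IsPrime] [IsLocalization.AtPrime R p] [IsLocalRing R] {M N : Type u} [AddCommGroup M]
    [Module A M] [AddCommGroup N] [Module A N] [Module R N] [IsScalarTower A R N] (f : M →ₗ[A] N)
    [IsLocalizedModule p.primeCompl f] {z : N} (hz : z ∈ maximalIdeal R • (⊤ : Submodule R N)) :
    ∃ h : A, h ∉ p ∧ ∃ τ ∈ p • (⊤ : Submodule A M), h • z = f τ := by
  refine Submodule.smul_induction_on hz (fun a ha m _ => ?_) ?_
  · obtain ⟨a', u, rfl⟩ := IsLocalization.exists_mk'_eq p.primeCompl a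
    obtain ⟨⟨m', v⟩, hm⟩ := IsLocalizedModule.surj p.primeCompl f m
    have hm' : (v : A) • m = f m' := hm
    have ha' : a' ∈ p := (IsLocalization.AtPrime.mk'_mem_maximal_iff R p a' u).1 ha
    refine ⟨(v : A) * u, fun h => (Ideal.IsPrime.mem_or_mem ‹_› h).elim v.2 u.2, a' • m',
      Submodule.smul_mem_smul ha' Submodule.mem_top, ?_⟩
    rw [map_smul, ← hm', smul_smul]
    conv_lhs => rw [← IsScalarTower.algebraMap_smul R, ← mul_smul, map_mul, mul_assoc, IsLocalization.mk'_spec'_mk,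
      ← map_mul, IsScalarTower.algebraMap_smul, mul_comm]
  · rintro z₁ z₂ ⟨h₁, hh₁, τ₁, hτ₁, e₁⟩ ⟨h₂, hh₂, τ₂, hτ₂, e₂⟩
    refine ⟨h₁ * h₂, fun h => (Ideal.IsPrime.mem_or_mem ‹_› h).elim hh₁ hh₂, h₂ • τ₁ + h₁ • τ₂,
      add_mem (Submodule.smul_mem _ _ hτ₁) (Submodule.smul_mem _ _ hτ₂), ?_⟩
    rw [map_add, map_smul, map_smul, ← e₁, ← e₂, smul_add, smul_smul, smul_smul, mul_comm h₁ h₂]

variable {X : Scheme.{u}} [IsIntegral X] [IsLocallyNoetherian X] (hX : Pi1.IsNormalScheme X)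
  {F : X.Modules} (hF : RefHull.IsRef1 F) (s : Coh.structureModule X ⟶ F)
  (U : X.Opens) (hU : (U : Set X) = RefPow.isoLocus s)

include hX hF hU in
theorem isAffineHom_of_pow_mem
    (h : ∀ x : X, x ∉ U → ∃ n : ℕ, 0 < n ∧
      RefPow.sPowGerm s n x ∈ maximalIdeal (X.presheaf.stalk x) •
        (⊤ : Submodule (X.presheaf.stalk x) ((RefPow.refPow F n).presheaf.stalk x))) :
    IsAffineHom U.ι := by
  refine ⟨fun W hW => ?_⟩
  rw [← U.ι.isAffineOpen_iff_of_isOpenImmersion]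
  set O := U.ι ''ᵁ (U.ι ⁻¹ᵁ W) with hO
  have hmem : ∀ z, z ∈ O ↔ z ∈ U ∧ z ∈ W := fun z => by
    rw [hO, Scheme.Hom.image_preimage_eq_opensRange_inf, Scheme.Opens.opensRange_ι]
    exact Iff.rfl
  have hle : O ≤ W := image_preimage_le U W
  let S : Set Γ(X, O) := (X.presheaf.map (homOfLE hle).op).hom '' {f | X.basicOpen f ≤ U}
  refine isAffineOpen_of_isAffineOpen_basicOpen O S ?_ ?_
  · by_contra hne
    obtain ⟨M, hM, hSM⟩ := Ideal.exists_le_maximal _ hne
    let p : PrimeSpectrum Γ(X, W) := ⟨M.comap (X.presheaf.map (homOfLE hle).op).hom, inferInstance⟩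
    let x : X := hW.fromSpec p
    have hxW : x ∈ W := by rw [← SetLike.mem_coe, ← hW.range_fromSpec]; exact ⟨p, rfl⟩
    have hp : hW.primeIdealOf ⟨x, hxW⟩ = p :=
      hW.fromSpec.isOpenEmbedding.injective (hW.fromSpec_primeIdealOf ⟨x, hxW⟩)
    have hxU : x ∉ U := fun hxU => by
      obtain ⟨f, hf, hxf⟩ := hW.exists_basicOpen_le (V := U) ⟨x, hxU⟩ hxW
      refine ((QCoh.mem_basicOpen_iff_notMem hW hxW f).1 hxf) ?_
      rw [hp]
      exact hSM (Ideal.subset_span ⟨f, hf, rfl⟩)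
    obtain ⟨n, -, hn⟩ := h x hxU
    have hG := isRef1_refPow hX hF n
    letI := QCoh.stalkAlg (X := X) hxW
    letI := QCoh.stalkModule (RefPow.refPow F n) hxW
    haveI := QCoh.isScalarTower_stalk (RefPow.refPow F n) hxW
    haveI := QCoh.isLocalization_stalk' hW hxW
    haveI := QCoh.isLocalizedModule_germLin hG.1.1 hW hxW
    obtain ⟨a, ha, τ, hτ, hat⟩ := exists_smul_mem_of_isLocalizedModule (hW.primeIdealOf ⟨x, hxW⟩).asIdeal
      (QCoh.germLin (RefPow.refPow F n) hxW) hn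
    rw [hp] at ha hτ
    let σ : Γ(RefPow.refPow F n, W) := SecTwist.val (RefPow.sPow s n) W
    have hηW := (specializes_genericPoint x).mem_open W.2 hxW
    have heq : a • σ = τ := by
      refine sub_eq_zero.1 (germ_eq_zero_of_generic hG.1
        (fun y => torsionFree_of_reflexive ((isReflexive_iff hG.1).1 hG.2.1 y)) _ hηW ?_)
      have h1 : (RefPow.refPow F n).presheaf.germ W x hxW (a • σ - τ) = 0 := by
        rw [map_sub, QCoh.germ_smul', sub_eq_zero]
        refine Eq.trans ?_ hat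
        show _ = X.presheaf.germ W x hxW a • RefPow.sPowGerm s n x
        refine congrArg (_ • ·) ?_
        show (RefPow.refPow F n).presheaf.germ W x hxW (SecTwist.val (RefPow.sPow s n) W) = _
        rw [← res_secVal (RefPow.sPow s n) (le_top : W ≤ ⊤), InvX.germ_res']
      rw [← spM_germ (RefPow.refPow F n) (specializes_genericPoint x) hxW, h1, map_zero]
    have hres : ∀ τ ∈ p.asIdeal • (⊤ : Submodule Γ(X, W) Γ(RefPow.refPow F n, W)), ∃ c ∈ M,
        AModX.res (RefPow.refPow F n) hle τ = c • (SecTwist.val (RefPow.sPow s n) O : Γ(RefPow.refPow F n, O)) := by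
      intro τ hτ
      have he := isFrame_val_sPow hX hF s (V := O) (fun z hz => hU.subset ((hmem z).1 hz).1) n
      refine Submodule.smul_induction_on hτ (fun b hb m _ => ?_) ?_
      · obtain ⟨c, hc⟩ := he.exists_coord le_rfl (AModX.res (RefPow.refPow F n) hle m)
        rw [AModX.res_self] at hc
        exact ⟨AModX.resR hle b * c, Ideal.mul_mem_right _ _ hb, by rw [AModX.res_smul, hc, mul_smul]⟩
      · rintro m₁ m₂ ⟨c₁, hc₁, e₁⟩ ⟨c₂, hc₂, e₂⟩
        exact ⟨c₁ + c₂, add_mem hc₁ hc₂, by rw [map_add, e₁, e₂, add_smul]⟩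
    obtain ⟨c, hc, hcτ⟩ := hres τ hτ
    have he := isFrame_val_sPow hX hF s (V := O) (fun z hz => hU.subset ((hmem z).1 hz).1) n
    rw [← heq, AModX.res_smul, res_secVal] at hcτ
    refine ha ?_
    show AModX.resR hle a ∈ M
    rw [he.coord_unique le_rfl (r := AModX.resR hle a) (r' := c) (by rw [AModX.res_self]; exact hcτ)]
    exact hc
  · rintro _ ⟨f, hf, rfl⟩
    rw [Scheme.basicOpen_res, inf_eq_right.2 (fun z hz => (hmem z).2 ⟨hf hz, X.basicOpen_le f hz⟩)]
    exact hW.basicOpen f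

include hX hF hU in
theorem pow_mem_of_isAffineHom [IsAffineHom U.ι] {x : X} (hx : x ∉ U) :
    ∃ n : ℕ, 0 < n ∧ RefPow.sPowGerm s n x ∈ maximalIdeal (X.presheaf.stalk x) •
        (⊤ : Submodule (X.presheaf.stalk x) ((RefPow.refPow F n).presheaf.stalk x)) := by
  by_cases hηU : genericPoint X ∈ U
  swap
  · refine ⟨1, one_pos, ?_⟩
    have hs : s = 0 := eq_zero_of_notMem hX hF s (hU ▸ hηU)
    have h0 : RefPow.sPowGerm s 1 x = 0 := by
      subst hs
      show (RefPow.refPow F 1).presheaf.germ ⊤ x trivial (SecTwist.val (RefPow.sPow 0 1) ⊤) = 0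
      rw [RefPow.sPow_one]
      exact map_zero _
    rw [h0]
    exact zero_mem _
  obtain ⟨_, ⟨W, hW, rfl⟩, hxW, -⟩ := X.isBasis_affineOpens.exists_subset_of_mem_open (Set.mem_univ x) isOpen_univ
  set O := U.ι ''ᵁ (U.ι ⁻¹ᵁ W) with hO
  have hOa : IsAffineOpen O := (U.ι.isAffineOpen_iff_of_isOpenImmersion).2 (IsAffineHom.isAffine_preimage W hW)
  have hmem : ∀ z, z ∈ O ↔ z ∈ U ∧ z ∈ W := fun z => by
    rw [hO, Scheme.Hom.image_preimage_eq_opensRange_inf, Scheme.Opens.opensRange_ι]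
    exact Iff.rfl
  have hle : O ≤ W := image_preimage_le U W
  let p := (hW.primeIdealOf ⟨x, hxW⟩)
  have htop : p.asIdeal.map (AModX.resR hle) = ⊤ := by
    by_contra hne
    obtain ⟨M, hM, hpM⟩ := Ideal.exists_le_maximal _ hne
    let y : X := hOa.fromSpec ⟨M, inferInstance⟩
    have hyO : y ∈ O := by rw [← SetLike.mem_coe, ← hOa.range_fromSpec]; exact ⟨_, rfl⟩
    have hy : hOa.primeIdealOf ⟨y, hyO⟩ = ⟨M, inferInstance⟩ :=
      hOa.fromSpec.isOpenEmbedding.injective (hOa.fromSpec_primeIdealOf ⟨y, hyO⟩)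
    have hyW : y ∈ W := hle hyO
    have hpq : p ≤ hW.primeIdealOf ⟨y, hyW⟩ := fun a ha => by
      by_contra hna
      have h1 := (QCoh.mem_basicOpen_iff_notMem hW hyW a).2 hna
      have h2 : y ∈ X.basicOpen (AModX.resR hle a) := by
        show y ∈ X.basicOpen ((X.presheaf.map (homOfLE hle).op).hom a)
        rw [Scheme.basicOpen_res]
        exact ⟨hyO, h1⟩
      refine (QCoh.mem_basicOpen_iff_notMem hOa hyO _).1 h2 ?_
      rw [hy]
      exact hpM (Ideal.mem_map_of_mem _ ha)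
    have hsp := ((PrimeSpectrum.le_iff_specializes _ _).1 hpq).map hW.fromSpec.continuous
    rw [hW.fromSpec_primeIdealOf, hW.fromSpec_primeIdealOf] at hsp
    exact hx (hsp.mem_open U.2 ((hmem y).1 hyO).1)
  have hηW := (specializes_genericPoint x).mem_open W.2 hxW
  have lift : ∀ c : Γ(X, O), ∃ N, ∀ j, N ≤ j → ∃ T : Γ(RefPow.refPow F j, W),
      AModX.res (RefPow.refPow F j) hle T =
        c • (SecTwist.val (RefPow.sPow s j) O : Γ(RefPow.refPow F j, O)) := by
    intro c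
    obtain ⟨n, t, ht⟩ := exists_section_pow hX hF s U (fun z hz h => hz (hU.symm.subset h)) hηU hW hηW c
    refine ⟨n, fun j hj => ?_⟩
    induction j, hj using Nat.le_induction with
    | base => exact ⟨t, ht⟩
    | succ j _ ih =>
      obtain ⟨T, hT⟩ := ih
      exact ⟨(RefPow.mulBy s j).app W T, by rw [← AModX.app_res, hT, Scheme.Modules.Hom.app_smul]; rfl⟩
  have key : ∀ b ∈ p.asIdeal.map (AModX.resR hle), ∀ c : Γ(X, O), ∃ N, ∀ j, N ≤ j →
      ∃ T ∈ p.asIdeal • (⊤ : Submodule Γ(X, W) Γ(RefPow.refPow F j, W)),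
        AModX.res (RefPow.refPow F j) hle T =
          (c * b) • (SecTwist.val (RefPow.sPow s j) O : Γ(RefPow.refPow F j, O)) := by
    intro b hb
    rw [Ideal.map] at hb
    induction hb using Submodule.span_induction with
    | mem z hz =>
      obtain ⟨a, ha, rfl⟩ := hz
      intro c
      obtain ⟨N, hN⟩ := lift c
      refine ⟨N, fun j hj => ?_⟩
      obtain ⟨T, hT⟩ := hN j hj
      refine ⟨a • T, Submodule.smul_mem_smul ha Submodule.mem_top, ?_⟩
      rw [AModX.res_smul, hT, ← mul_smul, mul_comm]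
    | zero => exact fun c => ⟨0, fun j _ => ⟨0, zero_mem _, by rw [map_zero, mul_zero, zero_smul]⟩⟩
    | add z₁ z₂ _ _ h₁ h₂ =>
      intro c
      obtain ⟨N₁, h₁⟩ := h₁ c
      obtain ⟨N₂, h₂⟩ := h₂ c
      refine ⟨max N₁ N₂, fun j hj => ?_⟩
      obtain ⟨T₁, hT₁, e₁⟩ := h₁ j (le_of_max_le_left hj)
      obtain ⟨T₂, hT₂, e₂⟩ := h₂ j (le_of_max_le_right hj)
      exact ⟨T₁ + T₂, add_mem hT₁ hT₂, by rw [map_add, e₁, e₂, mul_add, add_smul]⟩
    | smul r z _ hz =>
      intro c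
      obtain ⟨N, hN⟩ := hz (c * r)
      exact ⟨N, fun j hj => by
        obtain ⟨T, hT, e⟩ := hN j hj
        exact ⟨T, hT, by rw [e, smul_eq_mul, mul_assoc]⟩⟩
  obtain ⟨N, hN⟩ := key 1 (htop ▸ Submodule.mem_top) 1
  obtain ⟨T, hT, hTv⟩ := hN (N + 1) (Nat.le_succ N)
  refine ⟨N + 1, N.succ_pos, ?_⟩
  have hG := isRef1_refPow hX hF (N + 1)
  have heq : T = (SecTwist.val (RefPow.sPow s (N + 1)) W : Γ(RefPow.refPow F (N + 1), W)) := by
    refine sub_eq_zero.1 (germ_eq_zero_of_generic hG.1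
      (fun y => torsionFree_of_reflexive ((isReflexive_iff hG.1).1 hG.2.1 y)) _ hηW ?_)
    rw [map_sub, sub_eq_zero, ← InvX.germ_res' hle ((hmem _).2 ⟨hηU, hηW⟩) T, hTv, one_mul, one_smul,
      ← res_secVal (RefPow.sPow s (N + 1)) hle, InvX.germ_res']
  have h1 : RefPow.sPowGerm s (N + 1) x = (RefPow.refPow F (N + 1)).presheaf.germ W x hxW T := by
    rw [heq, ← res_secVal (RefPow.sPow s (N + 1)) (le_top : W ≤ ⊤), InvX.germ_res']
  rw [h1]
  refine Submodule.smul_induction_on hT (fun a ha m _ => ?_) fun z₁ z₂ h₁ h₂ => ?_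
  · rw [QCoh.germ_smul']
    refine Submodule.smul_mem_smul ?_ Submodule.mem_top
    exact fun hu => (QCoh.mem_basicOpen_iff_notMem hW hxW a).1 ((X.mem_basicOpen a x hxW).2 hu) ha
  · rw [map_add]
    exact add_mem h₁ h₂

end Groth.Agent.RefX
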