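import Groth.Agent.RefX.PowSec
import Groth.Agent.RefX.ExtSect
import Groth.Agent.KFlatLib.Scheme.Exact

/-!
# The colimit of the reflexive powers
-/

universe u

set_option backward.isDefEq.respectTransparency false
set_option backward.isDefEq.respectTransparency.types false
set_option linter.style.haveILetI false

open CategoryTheory CategoryTheory.Limits AlgebraicGeometry TopologicalSpace IsLocalRing

namespace Groth.Agent.RefX

variable {X : Scheme.{u}} [IsIntegral X] [IsLocallyNoetherian X] (hX : Pi1.IsNormalScheme X)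
  {F : X.Modules} (hF : RefHull.IsRef1 F) (s : Coh.structureModule X ⟶ F)
  (U : X.Opens) (hU : (U : Set X) ⊆ RefPow.isoLocus s)

/-- The restriction of modules to `U`. -/
noncomputable abbrev restr : X.Modules ⥤ (U : Scheme.{u}).Modules := Scheme.Modules.restrictFunctor U.ι

/-- The direct image of the structure sheaf of `U`. -/
noncomputable abbrev pushOne : X.Modules :=
  (Scheme.Modules.pushforward U.ι).obj ((Coh.structureModule X).restrict U.ι)

include hX hF hU in
theorem isIso_restr_sPow (n : ℕ) : IsIso ((restr U).map (RefPow.sPow s n)) := by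
  refine Scheme.Modules.Hom.isIso_iff_isIso_app.2 fun W => ?_
  rw [ConcreteCategory.isIso_iff_bijective]
  show Function.Bijective ((RefPow.sPow s n).app (U.ι ''ᵁ W))
  have hle : U.ι ''ᵁ W ≤ U := fun z hz => by
    obtain ⟨y, -, rfl⟩ := hz
    exact y.2
  have he := isFrame_val_sPow hX hF s (V := U.ι ''ᵁ W) (fun z hz => hU (hle hz)) n
  have h1 : ((RefPow.sPow s n).app (U.ι ''ᵁ W) : _ → _) = fun r : Γ(X, U.ι ''ᵁ W) =>
      r • AModX.res (RefPow.refPow F n) le_rfl
        (SecTwist.val (RefPow.sPow s n) (U.ι ''ᵁ W) : Γ(RefPow.refPow F n, U.ι ''ᵁ W)) := funext fun r => by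
    rw [AModX.res_self]
    exact app_eq_smul_val _ r
  rw [h1]
  exact he _ le_rfl

/-- The comparison map of the `n`-th power. -/
noncomputable def leg (n : ℕ) : RefPow.refPow F n ⟶ pushOne U :=
  haveI := isIso_restr_sPow hX hF s U hU n
  (Scheme.Modules.restrictAdjunction U.ι).unit.app _ ≫
    (Scheme.Modules.pushforward U.ι).map (inv ((restr U).map (RefPow.sPow s n)))

theorem leg_zero : leg hX hF s U hU 0 = (Scheme.Modules.restrictAdjunction U.ι).unit.app (Coh.structureModule X) := by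
  haveI := isIso_restr_sPow hX hF s U hU 0
  have h1 : inv ((restr U).map (RefPow.sPow s 0)) = 𝟙 _ := IsIso.inv_eq_of_hom_inv_id (by
    rw [Category.comp_id]
    exact (restr U).map_id _)
  show _ ≫ (Scheme.Modules.pushforward U.ι).map (inv ((restr U).map (RefPow.sPow s 0))) = _
  rw [h1]
  erw [(Scheme.Modules.pushforward U.ι).map_id]
  exact Category.comp_id _

theorem mulBy_leg (n : ℕ) : RefPow.mulBy s n ≫ leg hX hF s U hU (n + 1) = leg hX hF s U hU n := by
  haveI := isIso_restr_sPow hX hF s U hU n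
  haveI := isIso_restr_sPow hX hF s U hU (n + 1)
  have h1 : (restr U).map (RefPow.sPow s (n + 1)) =
      (restr U).map (RefPow.sPow s n) ≫ (restr U).map (RefPow.mulBy s n) := (restr U).map_comp _ _
  have h2 : (restr U).map (RefPow.mulBy s n) ≫ inv ((restr U).map (RefPow.sPow s (n + 1))) =
      inv ((restr U).map (RefPow.sPow s n)) := by
    refine (IsIso.eq_inv_of_hom_inv_id ?_)
    rw [← Category.assoc, ← h1, IsIso.hom_inv_id]
  have h3 := (Scheme.Modules.restrictAdjunction U.ι).unit.naturality (RefPow.mulBy s n)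
  show RefPow.mulBy s n ≫ _ ≫ _ = _ ≫ _
  erw [reassoc_of% h3]
  erw [← (Scheme.Modules.pushforward U.ι).map_comp, h2]

/-- The cocone. -/
noncomputable def legs : RefPow.diagram F s ⟶ (Functor.const ℕ).obj (pushOne U) :=
  NatTrans.ofSequence (fun n => leg hX hF s U hU n) fun n => by
    rw [RefPow.diagram_map, mulBy_leg]
    simp

theorem legs_app (n : ℕ) : (legs hX hF s U hU).app n = leg hX hF s U hU n := rfl

/-- The image of a section that restricts to a multiple of the power of `s`. -/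
theorem leg_app_eq {n : ℕ} {W : X.Opens} (hle : U.ι ''ᵁ (U.ι ⁻¹ᵁ W) ≤ W) (t : Γ(RefPow.refPow F n, W))
    (r : Γ(X, U.ι ''ᵁ (U.ι ⁻¹ᵁ W)))
    (h : AModX.res (RefPow.refPow F n) hle t =
      r • (SecTwist.val (RefPow.sPow s n) (U.ι ''ᵁ (U.ι ⁻¹ᵁ W)) : Γ(RefPow.refPow F n, U.ι ''ᵁ (U.ι ⁻¹ᵁ W)))) :
    (leg hX hF s U hU n).app W t = (show Γ(pushOne U, W) from r) := by
  haveI := isIso_restr_sPow hX hF s U hU n
  show (inv ((restr U).map (RefPow.sPow s n))).app (U.ι ⁻¹ᵁ W)
    (((Scheme.Modules.restrictAdjunction U.ι).unit.app _).app W t) = _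
  have h1 : ((Scheme.Modules.restrictAdjunction U.ι).unit.app (RefPow.refPow F n)).app W t =
      ((restr U).map (RefPow.sPow s n)).app (U.ι ⁻¹ᵁ W) r := by
    rw [Scheme.Modules.restrictAdjunction_unit_app_app]
    exact h.trans (app_eq_smul_val _ r).symm
  rw [h1]
  show (((restr U).map (RefPow.sPow s n)) ≫ inv ((restr U).map (RefPow.sPow s n))).app (U.ι ⁻¹ᵁ W) r = _
  rw [IsIso.hom_inv_id]
  rfl

theorem image_preimage_le (W : X.Opens) : U.ι ''ᵁ (U.ι ⁻¹ᵁ W) ≤ W := fun z hz => by
  rw [Scheme.Hom.image_preimage_eq_opensRange_inf] at hz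
  exact hz.2

theorem exists_coord_leg {n : ℕ} {W : X.Opens} (t : Γ(RefPow.refPow F n, W)) :
    (fun r : Γ(X, U.ι ''ᵁ (U.ι ⁻¹ᵁ W)) =>
      AModX.res (RefPow.refPow F n) (image_preimage_le U W) t =
      r • (SecTwist.val (RefPow.sPow s n) (U.ι ''ᵁ (U.ι ⁻¹ᵁ W)) : Γ(RefPow.refPow F n, U.ι ''ᵁ (U.ι ⁻¹ᵁ W))))
        ((leg hX hF s U hU n).app W t) := by
  have hle' : U.ι ''ᵁ (U.ι ⁻¹ᵁ W) ≤ U := fun z hz => by
    rw [Scheme.Hom.image_preimage_eq_opensRange_inf, Scheme.Opens.opensRange_ι] at hz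
    exact hz.1
  obtain ⟨r, hr⟩ := (isFrame_val_sPow hX hF s (fun z hz => hU (hle' hz)) n).exists_coord le_rfl
    (AModX.res (RefPow.refPow F n) (image_preimage_le U W) t)
  rw [AModX.res_self] at hr
  show _ = _
  rw [leg_app_eq hX hF s U hU (image_preimage_le U W) t r hr]
  exact hr

theorem exists_pow_dvd {R : Type u} [CommRing R] [IsDomain R] [IsDiscreteValuationRing R] {g b : R}
    (hg : g ∈ maximalIdeal R) (hb : b ≠ 0) : ∃ k, ∀ j, k ≤ j → b ∣ g ^ j := by
  obtain ⟨ϖ, hϖ⟩ := IsDiscreteValuationRing.exists_irreducible R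
  obtain ⟨k, hk⟩ := IsDiscreteValuationRing.associated_pow_irreducible hb hϖ
  rw [hϖ.maximalIdeal_eq, Ideal.mem_span_singleton] at hg
  exact ⟨k, fun j hj => hk.dvd.trans ((pow_dvd_pow_of_dvd hg k).trans (pow_dvd_pow g hj))⟩

include hX hF in
/-- Functions on the locus become sections of a high power after multiplying by the section. -/
theorem exists_section_pow (hU' : ∀ x, x ∉ U → x ∉ RefPow.isoLocus s) (hηU : genericPoint X ∈ U) {W : X.Opens}
    (hW : IsAffineOpen W) (hηW : genericPoint X ∈ W) (r : Γ(X, U.ι ''ᵁ (U.ι ⁻¹ᵁ W))) :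
    ∃ (n : ℕ) (t : Γ(RefPow.refPow F n, W)), AModX.res (RefPow.refPow F n) (image_preimage_le U W) t =
      r • (SecTwist.val (RefPow.sPow s n) (U.ι ''ᵁ (U.ι ⁻¹ᵁ W)) : Γ(RefPow.refPow F n, U.ι ''ᵁ (U.ι ⁻¹ᵁ W))) := by
  have hmem : ∀ z, z ∈ U → z ∈ W → z ∈ U.ι ''ᵁ (U.ι ⁻¹ᵁ W) := fun z h1 h2 => by
    rw [Scheme.Hom.image_preimage_eq_opensRange_inf, Scheme.Opens.opensRange_ι]
    exact ⟨h1, h2⟩
  have hη' := hmem _ hηU hηW
  let ρ : X.presheaf.stalk (genericPoint X) := X.presheaf.germ _ _ hη' r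
  let σ : ∀ n, (RefPow.refPow F n).presheaf.stalk (genericPoint X) := fun n =>
    (RefPow.refPow F n).presheaf.germ ⊤ _ trivial (SecTwist.val (RefPow.sPow s n) ⊤)
  have hσ : ∀ n (V : X.Opens) (hV : genericPoint X ∈ V),
      σ n = (RefPow.refPow F n).presheaf.germ V _ hV (SecTwist.val (RefPow.sPow s n) V) := fun n V hV => by
    rw [← res_secVal (RefPow.sPow s n) (le_top : V ≤ ⊤), InvX.germ_res']
  have key : ∀ x, x ∈ {x : X | x ∈ W ∧ Order.coheight x = 1 ∧ x ∉ U} → ∃ k, ∀ j, k ≤ j →
      ρ • σ j ∈ Set.range (spM (RefPow.refPow F j) (specializes_genericPoint x)) := by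
    rintro x ⟨hxW, hx1, hxU⟩
    haveI := CDiv6.isDVR_of_coheight_one hX hx1
    obtain ⟨V, hxV, e, he⟩ := hasFrames_of_isRef1 hX hF x hx1.le
    have hηV := (specializes_genericPoint x).mem_open V.2 hxV
    obtain ⟨g, hg⟩ := he.exists_coord le_rfl (SecTwist.val s V : Γ(F, V))
    rw [AModX.res_self] at hg
    have hgm : X.presheaf.germ V x hxV g ∈ maximalIdeal (X.presheaf.stalk x) := fun hu => by
      refine hU' x hxU ((mem_isoLocus_iff s hxV).2 ?_)
      have h1 : (fun c : X.presheaf.stalk x => c • F.presheaf.germ V x hxV (SecTwist.val s V)) =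
          (fun c => c • F.presheaf.germ V x hxV e) ∘ fun c => c * X.presheaf.germ V x hxV g := funext fun c => by
        rw [Function.comp_apply, mul_smul, hg, QCoh.germ_smul']
      rw [h1]
      exact (he.germ_bijective hxV).comp (IsUnit.isUnit_iff_mulRight_bijective.1 hu)
    obtain ⟨a, b, hb, hab⟩ :=
      IsFractionRing.div_surjective (A := X.presheaf.stalk x) (show X.functionField from ρ)
    obtain ⟨k, hk⟩ := exists_pow_dvd hgm (nonZeroDivisors.ne_zero hb)
    refine ⟨k, fun j hj => ?_⟩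
    obtain ⟨c, hc⟩ := hk j hj
    obtain ⟨f, hf, hfv⟩ := exists_frame_pow hX hF s he hg j
    refine ⟨(a * c) • (RefPow.refPow F j).presheaf.germ V x hxV f, ?_⟩
    rw [spM_smul, spM_germ, hσ j V hηV, hfv, QCoh.germ_smul', ← mul_smul]
    refine congrArg (· • _) ?_
    have hb0 : algebraMap (X.presheaf.stalk x) X.functionField b ≠ 0 :=
      (map_ne_zero_iff _ (IsFractionRing.injective _ _)).2 (nonZeroDivisors.ne_zero hb)
    have hgK : (show X.functionField from X.presheaf.germ V (genericPoint X) hηV (g ^ j)) =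
        algebraMap (X.presheaf.stalk x) X.functionField (b * c) := by
      rw [← hc, algebraMap_eq_spec]
      rw [← map_pow, TopCat.Presheaf.germ_stalkSpecializes_apply]
    show algebraMap (X.presheaf.stalk x) X.functionField (a * c) =
      (show X.functionField from ρ) * (show X.functionField from X.presheaf.germ V (genericPoint X) hηV (g ^ j))
    rw [hgK, ← hab, map_mul, map_mul]
    field_simp
  choose! k hk using key
  obtain ⟨n, hn⟩ := ((finite_coheight_one_notMem hW hηU).image k).bddAbove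
  obtain ⟨t, ht⟩ := exists_section_of_mem_range hX (isRef1_refPow hX hF n).1 (isRef1_refPow hX hF n).2.1 hηW
    (v := ρ • σ n) fun x hxW hx1 => by
      by_cases hxU : x ∈ U
      · refine ⟨(RefPow.refPow F n).presheaf.germ _ x (hmem x hxU hxW)
          (r • (SecTwist.val (RefPow.sPow s n) (U.ι ''ᵁ (U.ι ⁻¹ᵁ W)) :
            Γ(RefPow.refPow F n, U.ι ''ᵁ (U.ι ⁻¹ᵁ W)))), ?_⟩
        rw [spM_germ, QCoh.germ_smul', ← hσ]
      · exact hk x ⟨hxW, hx1, hxU⟩ n (hn ⟨x, ⟨hxW, hx1, hxU⟩, rfl⟩)
  refine ⟨n, t, sub_eq_zero.1 (germ_eq_zero_of_generic (isRef1_refPow hX hF n).1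
    (fun x => torsionFree_of_reflexive ((isReflexive_iff (isRef1_refPow hX hF n).1).1 (isRef1_refPow hX hF n).2.1 x))
    _ hη' ?_)⟩
  rw [map_sub, InvX.germ_res', ht, QCoh.germ_smul', ← hσ, sub_self]
where
  algebraMap_eq_spec {x : X} (a : X.presheaf.stalk x) :
      algebraMap (X.presheaf.stalk x) X.functionField a =
        X.presheaf.stalkSpecializes (specializes_genericPoint x) a := rfl

/-- The powers of the section compute functions on the isomorphism locus. -/
theorem isColimit_legs (hUe : (U : Set X) = RefPow.isoLocus s) :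
    Nonempty (IsColimit (Cocone.mk (pushOne U) (legs hX hF s U hUe.subset))) := by
  let D := RefPow.diagram F s
  let c : Cocone D := Cocone.mk (pushOne U) (legs hX hF s U hUe.subset)
  let d : colimit D ⟶ pushOne U := colimit.desc D c
  have hd : ∀ (i : ℕ), colimit.ι D i ≫ d = leg hX hF s U hUe.subset i := fun i => colimit.ι_desc c i
  suffices IsIso d by exact ⟨@IsColimit.ofPointIso _ _ _ _ D (colimit.cocone D) c (colimit.isColimit D) this⟩
  haveI : PreservesFilteredColimitsOfSize.{0, 0} (forget AddCommGrpCat.{u}) :=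
    preservesFilteredColimitsOfSize_shrink.{0, u, 0, u} _
  refine ZClosLib.isIso_of_stalkMap_bijective _ fun x => ⟨?_, ?_⟩
  · refine (injective_iff_map_eq_zero _).2 fun y hy => ?_
    obtain ⟨i, w, rfl⟩ := Concrete.isColimit_exists_rep
      (D ⋙ KFlatLib.stalkAb x) (isColimitOfPreserves (KFlatLib.stalkAb x) (colimit.isColimit D)) y
    change RefHull.stalkMapₗ d x (RefHull.stalkMapₗ (colimit.ι D i) x w) = 0 at hy
    show RefHull.stalkMapₗ (colimit.ι D i) x w = 0
    rw [← stalkMap_comp_apply, hd] at hy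
    obtain ⟨W, hxW, t, rfl⟩ := TopCat.Presheaf.exists_germ_eq (RefPow.refPow F i).presheaf w
    by_cases hηU : genericPoint X ∈ U
    · replace hy := (RefHull.stalkMapₗ_germ (leg hX hF s U hUe.subset i) x hxW t).symm.trans hy
      obtain ⟨W', hxW', j, j', hjW⟩ := TopCat.Presheaf.germ_eq (pushOne U).presheaf x hxW hxW _ 0
        (hy.trans (map_zero _).symm)
      have h1 : (leg hX hF s U hUe.subset i).app W' (AModX.res (RefPow.refPow F i) j.le t) = 0 := by
        rw [AModX.app_res]
        exact hjW.trans (map_zero _)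
      have h2 := exists_coord_leg hX hF s U hUe.subset (AModX.res (RefPow.refPow F i) j.le t)
      rw [h1] at h2
      have h3 : AModX.res (RefPow.refPow F i) (image_preimage_le U W') (AModX.res (RefPow.refPow F i) j.le t) = 0 :=
        h2.trans (zero_smul _ _)
      have hη' : genericPoint X ∈ U.ι ''ᵁ (U.ι ⁻¹ᵁ W') := by
        rw [Scheme.Hom.image_preimage_eq_opensRange_inf, Scheme.Opens.opensRange_ι]
        exact ⟨hηU, (specializes_genericPoint x).mem_open W'.2 hxW'⟩
      have hr := isRef1_refPow hX hF i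
      have ht : AModX.res (RefPow.refPow F i) j.le t = 0 := germ_eq_zero_of_generic hr.1
        (fun y => torsionFree_of_reflexive ((isReflexive_iff hr.1).1 hr.2.1 y)) _
        ((specializes_genericPoint x).mem_open W'.2 hxW') (by
          rw [← InvX.germ_res' (image_preimage_le U W') hη', h3, map_zero])
      rw [← InvX.germ_res' j.le hxW', ht, map_zero]
      exact map_zero _
    · have hs : s = 0 := eq_zero_of_notMem hX hF s (hUe ▸ hηU)
      have h0 : colimit.ι D i = 0 := by
        rw [← colimit.w D (homOfLE (Nat.le_succ i))]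
        rw [show D.map (homOfLE (Nat.le_succ i)) = RefPow.mulBy s i from RefPow.diagram_map F s i, hs, mulBy_zero_hom]
        exact zero_comp
      rw [h0]
      exact (RefHull.stalkMapₗ_germ (0 : RefPow.refPow F i ⟶ colimit D) x hxW t).trans (map_zero _)
  · intro y
    obtain ⟨W₁, hxW₁, r₁, rfl⟩ := TopCat.Presheaf.exists_germ_eq (pushOne U).presheaf y
    obtain ⟨_, ⟨W, hW, rfl⟩, hxW, hWW₁⟩ := X.isBasis_affineOpens.exists_subset_of_mem_open hxW₁ W₁.isOpen
    replace hWW₁ : W ≤ W₁ := hWW₁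
    suffices ∃ (n : ℕ) (t : Γ(RefPow.refPow F n, W)),
        (leg hX hF s U hUe.subset n).app W t = AModX.res (pushOne U) hWW₁ r₁ by
      obtain ⟨n, t, ht⟩ := this
      refine ⟨RefHull.stalkMapₗ (colimit.ι D n) x ((RefPow.refPow F n).presheaf.germ W x hxW t), ?_⟩
      show RefHull.stalkMapₗ d x _ = _
      erw [← stalkMap_comp_apply, hd, RefHull.stalkMapₗ_germ, ht, InvX.germ_res']
    by_cases hηU : genericPoint X ∈ U
    · obtain ⟨n, t, ht⟩ := exists_section_pow hX hF s U (fun z hz h => hz (hUe.symm.subset h)) hηU hW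
        ((specializes_genericPoint x).mem_open W.2 hxW) (AModX.res (pushOne U) hWW₁ r₁)
      exact ⟨n, t, leg_app_eq hX hF s U hUe.subset _ t _ ht⟩
    · refine ⟨0, 0, ?_⟩
      rw [map_zero]
      refine AModX.eq_of_locally (M := Coh.structureModule X) (V := U.ι ''ᵁ (U.ι ⁻¹ᵁ W)) _ _ fun p hp => ?_
      rw [Scheme.Hom.image_preimage_eq_opensRange_inf, Scheme.Opens.opensRange_ι] at hp
      exact absurd ((specializes_genericPoint p).mem_open U.2 hp.1) hηU

end Groth.Agent.RefX
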